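import Mathlib.Data.Nat.Notation

/-! # A spanning tree on the weight-12 words -/

set_option autoImplicit false

namespace Cfsg.Agent.Lib.Golay

def dodTree0 : List (ℕ × ℕ) := [
    (0,0), (0,0), (0,0), (0,0), (0,0), (0,0), (0,0), (1,0), (0,0), (2,1),
    (0,0), (2,3), (2,0), (1,3), (0,0), (1,0), (2,0), (2,2), (2,2), (0,0),
    (1,0), (2,0), (2,2), (2,4), (0,0), (0,0), (0,0), (2,1), (0,0), (1,6),
    (0,0), (0,0), (0,0), (2,0), (1,2), (2,2), (2,0), (2,3), (0,0), (0,0),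
    (1,0), (2,1), (1,2), (2,1), (2,0), (2,3), (2,3), (0,0), (0,0), (1,1),
    (0,0), (2,1), (2,2), (0,0), (1,0), (2,4), (0,0), (0,0), (1,0), (0,0),
    (1,3), (0,0), (0,0), (2,3), (2,0), (1,6), (0,0), (0,0), (1,0), (0,0),
    (2,0), (2,2), (0,0), (1,0), (2,4), (0,0), (2,1), (0,0), (2,1), (1,4),
    (2,2), (0,0), (1,0), (0,0), (2,0), (2,2), (0,0), (2,3), (2,2), (0,0),
    (0,0), (2,2), (2,4), (0,0), (0,0), (0,0), (0,0), (1,0), (2,0), (2,2),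
    (2,2), (0,0), (2,0), (2,4), (0,0), (2,1), (1,3), (2,0), (0,0), (0,0),
    (0,0), (1,2), (2,4), (0,0), (0,0), (2,0), (1,2), (2,2), (0,0), (0,0),
    (2,5), (0,0), (0,0), (1,0), (0,0), (2,1), (2,2), (1,2), (0,0), (2,1),
    (2,2), (0,0), (2,0), (2,4), (0,0), (1,0), (0,0), (2,2), (2,0), (1,7),
    (0,0), (0,0), (0,0), (0,0), (1,0), (1,2), (0,0), (1,0), (2,3), (0,0),
    (0,0), (1,1), (2,2), (1,3), (0,0), (1,0), (2,2), (0,0), (1,0), (2,2),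
    (2,3), (0,0), (2,1), (2,0), (1,4), (2,0), (0,0), (2,0), (0,0), (2,5),
    (0,0), (0,0), (1,0), (1,2), (0,0), (0,0), (2,2), (2,2), (0,0), (2,1),
    (0,0), (2,1), (2,6), (0,0), (0,0), (0,0), (0,0), (2,0), (2,2), (0,0),
    (2,1), (1,3), (0,0), (2,0), (2,2), (0,0), (2,3), (1,2), (0,0), (2,1),
    (2,2), (2,0), (0,0), (2,1), (2,0), (2,5), (0,0), (0,0), (1,0), (1,2),
    (2,0), (2,2), (0,0), (0,0), (2,2), (2,3), (0,0), (0,0), (0,0), (1,0),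
    (1,2), (2,2), (2,0), (2,7), (0,0), (0,0), (0,0), (0,0), (1,0), (0,0),
    (1,3), (1,2), (0,0), (0,0), (1,0), (1,2), (2,0), (2,0), (2,3), (2,0),
    (2,3), (2,0), (2,3), (2,0), (0,0), (0,0), (2,2), (0,0), (1,5), (0,0),
    (0,0), (0,0), (1,1), (2,1), (1,2), (2,2), (0,0), (0,0), (1,1), (0,0),
    (0,0), (2,4), (2,0), (2,4), (0,0), (0,0), (2,0), (2,0), (1,3), (0,0),
    (2,2), (2,2), (2,0), (2,4), (0,0), (1,0), (0,0), (0,0), (0,0), (0,0),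
    (2,1), (2,2), (2,2), (2,2), (0,0), (0,0), (2,1), (0,0), (2,5), (0,0),
    (2,0), (2,2), (2,0), (2,4), (0,0), (0,0), (1,1), (0,0), (2,2), (2,0),
    (2,0), (1,8), (0,0), (0,0), (0,0), (0,0), (1,0), (0,0), (0,0), (2,2),
    (2,2), (0,0), (2,0), (2,2), (1,3), (2,0), (0,0), (2,1), (0,0), (2,0),
    (2,5), (0,0), (0,0), (1,0), (2,1), (1,2), (2,0), (2,2), (2,0), (2,3),
    (0,0), (1,0), (1,5), (0,0), (0,0), (0,0), (1,1), (1,2), (2,0), (2,2),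
    (0,0), (0,0), (0,0), (2,2), (2,4), (0,0), (0,0), (0,0), (2,0), (1,2),
    (2,2), (0,0), (2,1), (2,5), (0,0), (0,0), (0,0), (0,0), (1,3), (0,0),
    (0,0), (1,1), (2,1), (2,0), (2,3), (0,0), (2,3), (0,0), (1,5), (2,0),
    (0,0), (0,0), (0,0), (2,1), (1,2), (2,0), (0,0), (2,3), (0,0), (2,3),
    (2,3), (0,0), (0,0), (1,0), (2,0), (2,2), (0,0), (2,0), (2,4), (0,0),
    (0,0), (1,1), (2,2), (0,0), (2,1), (2,4), (0,0), (0,0), (1,1), (0,0),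
    (2,1), (0,0), (2,1), (2,3), (0,0), (2,1), (0,0), (2,1), (2,4), (0,0),
    (0,0), (1,1), (2,0), (2,2), (0,0), (2,1), (2,7), (0,0), (0,0), (0,0),
    (0,0), (2,0), (1,2), (1,3), (0,0), (0,0), (0,0), (0,0), (1,2), (2,0),
    (2,2), (1,2), (2,0), (2,0), (2,3), (0,0), (0,0), (2,1), (2,2), (2,3),
    (2,0), (0,0), (0,0), (2,5), (0,0), (0,0), (1,1), (0,0), (1,0), (2,4),
    (0,0), (0,0), (2,0), (1,2), (0,0), (2,1), (2,2), (2,2), (2,0), (0,0),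
    (2,6), (0,0), (0,0), (0,0), (0,0), (2,0), (2,0), (1,3), (0,0), (1,3),
    (0,0), (0,0), (1,1), (2,3), (2,0), (1,3), (0,0), (1,0), (2,2), (0,0),
    (1,0), (2,1), (2,4), (0,0), (0,0), (1,0), (2,5), (0,0), (0,0), (0,0),
    (1,1), (1,2), (0,0), (2,0), (2,3), (2,2), (2,5), (0,0), (0,0), (0,0)]

def dodTree1 : List (ℕ × ℕ) := [
    (0,0), (1,0), (0,0), (0,0), (2,0), (2,3), (2,2), (2,2), (1,2), (0,0),
    (0,0), (0,0), (1,1), (0,0), (2,2), (1,2), (2,1), (0,0), (1,0), (2,4),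
    (0,0), (0,0), (1,0), (2,3), (2,3), (0,0), (0,0), (0,0), (0,0), (2,2),
    (0,0), (2,4), (0,0), (1,0), (2,0), (2,0), (2,3), (2,0), (1,6), (0,0),
    (1,0), (2,0), (0,0), (2,3), (0,0), (1,0), (2,1), (2,0), (2,3), (2,5),
    (0,0), (0,0), (0,0), (0,0), (2,0), (1,2), (0,0), (1,0), (2,1), (2,2),
    (2,2), (1,2), (0,0), (0,0), (0,0), (1,2), (2,1), (0,0), (1,0), (2,4),
    (2,2), (0,0), (1,3), (0,0), (0,0), (0,0), (0,0), (1,3), (2,0), (2,2),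
    (0,0), (1,0), (2,1), (2,4), (2,0), (0,0), (1,0), (2,2), (2,0), (2,5),
    (0,0), (0,0), (0,0), (1,1), (2,0), (2,2), (1,2), (0,0), (0,0), (2,2),
    (2,0), (0,0), (2,4), (2,0), (2,3), (2,0), (0,0), (2,1), (2,5), (2,0),
    (0,0), (0,0), (0,0), (1,0), (2,0), (2,2), (2,2), (0,0), (1,3), (1,7),
    (0,0), (0,0), (0,0), (0,0), (0,0), (0,0), (1,0), (0,0), (1,3), (1,2),
    (0,0), (0,0), (1,0), (0,0), (1,3), (2,2), (2,0), (0,0), (2,4), (0,0),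
    (1,0), (2,2), (2,0), (2,0), (1,5), (0,0), (1,0), (2,0), (2,0), (2,3),
    (0,0), (2,1), (0,0), (2,0), (2,2), (2,5), (0,0), (0,0), (1,0), (0,0),
    (2,2), (2,0), (1,3), (2,2), (0,0), (2,0), (2,0), (1,6), (0,0), (0,0),
    (0,0), (0,0), (1,2), (0,0), (1,0), (2,2), (2,2), (0,0), (0,0), (1,4),
    (2,0), (2,0), (2,0), (2,4), (0,0), (0,0), (2,1), (0,0), (2,3), (0,0),
    (0,0), (0,0), (2,2), (2,2), (2,4), (0,0), (0,0), (0,0), (2,0), (2,2),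
    (0,0), (1,3), (2,1), (0,0), (1,0), (2,2), (2,0), (2,4), (0,0), (0,0),
    (1,1), (2,1), (2,2), (0,0), (0,0), (2,6), (0,0), (0,0), (1,0), (0,0),
    (0,0), (1,1), (2,3), (1,2), (0,0), (0,0), (2,2), (0,0), (0,0), (2,2),
    (2,3), (2,0), (2,3), (0,0), (0,0), (1,0), (2,1), (1,2), (0,0), (0,0),
    (2,2), (2,2), (2,2), (0,0), (2,0), (2,0), (1,7), (2,0), (0,0), (0,0),
    (0,0), (1,1), (2,1), (2,0), (2,0), (1,4), (0,0), (2,0), (2,2), (2,2),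
    (0,0), (0,0), (2,0), (2,3), (2,3), (0,0), (0,0), (0,0), (2,0), (1,2),
    (2,1), (1,2), (0,0), (1,0), (2,1), (2,3), (0,0), (2,0), (2,4), (0,0),
    (0,0), (2,0), (1,2), (2,0), (2,2), (2,6), (0,0), (0,0), (0,0), (0,0),
    (0,0), (2,1), (1,2), (2,1), (2,0), (1,3), (0,0), (1,3), (2,1), (0,0),
    (0,0), (1,1), (2,1), (2,2), (0,0), (0,0), (2,1), (2,5), (0,0), (0,0),
    (0,0), (0,0), (1,0), (1,3), (2,0), (2,2), (0,0), (1,0), (1,4), (2,0),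
    (0,0), (2,3), (0,0), (2,1), (2,0), (2,4), (0,0), (0,0), (1,1), (2,6),
    (0,0), (0,0), (0,0), (0,0), (0,0), (0,0), (1,1), (1,2), (2,0), (2,0),
    (2,3), (2,0), (0,0), (1,4), (0,0), (1,0), (2,1), (2,2), (0,0), (1,0),
    (2,1), (2,4), (0,0), (1,0), (1,4), (0,0), (0,0), (0,0), (1,2), (2,0),
    (2,2), (0,0), (0,0), (1,0), (2,2), (2,2), (2,3), (0,0), (1,0), (2,0),
    (2,2), (2,2), (2,0), (0,0), (2,5), (0,0), (0,0), (2,0), (1,2), (0,0),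
    (1,0), (2,4), (0,0), (1,0), (2,2), (0,0), (2,1), (0,0), (1,6), (0,0),
    (0,0), (1,0), (0,0), (1,0), (2,2), (2,0), (2,3), (0,0), (2,1), (1,3),
    (2,0), (0,0), (2,1), (2,3), (0,0), (1,0), (2,2), (0,0), (2,5), (0,0),
    (0,0), (0,0), (0,0), (1,0), (1,3), (0,0), (2,1), (0,0), (2,3), (0,0),
    (1,0), (1,4), (2,0), (2,2), (0,0), (2,3), (2,0), (2,0), (2,5), (0,0),
    (0,0), (0,0), (0,0), (0,0), (1,2), (2,0), (0,0), (2,3), (0,0), (2,3),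
    (0,0), (0,0), (1,4), (0,0), (0,0), (1,1), (2,0), (2,2), (2,2), (0,0),
    (0,0), (2,4), (2,2), (0,0), (0,0), (0,0), (0,0), (2,1), (2,2), (0,0),
    (0,0), (1,4), (0,0), (0,0), (1,0), (2,2), (0,0), (2,3), (2,0), (2,3),
    (0,0), (0,0), (1,1), (2,1), (2,2), (2,3), (0,0), (1,0), (2,1), (0,0),
    (0,0), (2,9), (0,0), (0,0), (0,0), (0,0), (0,0), (0,0), (0,0), (1,2),
    (0,0), (0,0), (2,1), (2,3), (2,0), (0,0), (1,4), (0,0), (1,0), (1,4)]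

def dodTree2 : List (ℕ × ℕ) := [
    (0,0), (1,0), (2,0), (2,2), (2,0), (2,3), (0,0), (2,1), (2,3), (0,0),
    (0,0), (2,0), (1,2), (2,2), (0,0), (2,0), (2,0), (2,3), (2,0), (1,5),
    (0,0), (0,0), (0,0), (0,0), (2,1), (2,2), (0,0), (2,1), (1,3), (2,0),
    (0,0), (1,0), (2,1), (2,2), (2,3), (0,0), (0,0), (1,0), (1,2), (2,2),
    (0,0), (2,1), (2,0), (2,5), (0,0), (0,0), (0,0), (1,1), (2,2), (2,2),
    (0,0), (0,0), (2,2), (2,4), (2,0), (0,0), (0,0), (1,0), (0,0), (1,3),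
    (0,0), (1,0), (2,4), (0,0), (1,0), (2,1), (1,6), (0,0), (0,0), (0,0),
    (1,0), (2,0), (2,2), (0,0), (0,0), (2,2), (2,0), (2,4), (0,0), (1,0),
    (0,0), (0,0), (1,6), (2,1), (0,0), (0,0), (0,0), (1,2), (2,1), (2,2),
    (0,0), (0,0), (1,1), (2,5), (0,0), (0,0), (0,0), (1,1), (0,0), (0,0),
    (2,2), (0,0), (2,3), (0,0), (1,0), (2,2), (2,0), (1,4), (0,0), (2,1),
    (0,0), (0,0), (1,1), (2,2), (0,0), (2,4), (0,0), (0,0), (2,1), (2,2),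
    (0,0), (2,1), (0,0), (2,1), (2,5), (0,0), (0,0), (1,0), (1,2), (2,1),
    (0,0), (0,0), (1,1), (2,1), (2,7), (0,0), (0,0), (0,0), (2,0), (2,0),
    (1,3), (0,0), (0,0), (1,1), (2,2), (2,2), (0,0), (0,0), (1,0), (2,1),
    (2,3), (2,0), (1,4), (0,0), (0,0), (2,0), (1,2), (2,0), (2,0), (2,3),
    (0,0), (0,0), (2,2), (0,0), (2,1), (2,4), (0,0), (2,3), (0,0), (0,0),
    (2,4), (0,0), (2,4), (0,0), (0,0), (0,0), (2,0), (0,0), (1,0), (2,0),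
    (2,2), (0,0), (2,1), (1,5), (0,0), (0,0), (0,0), (2,2), (2,0), (2,0),
    (2,5), (0,0), (0,0), (1,0), (1,2), (2,0), (2,2), (2,0), (2,3), (1,3),
    (0,0), (0,0), (1,0), (2,0), (2,2), (0,0), (2,1), (2,3), (0,0), (2,1),
    (2,0), (2,4), (0,0), (0,0), (0,0), (0,0), (1,1), (1,2), (2,0), (2,2),
    (2,0), (1,3), (2,0), (0,0), (2,1), (2,3), (0,0), (0,0), (0,0), (2,2),
    (2,2), (0,0), (2,4), (0,0), (2,0), (0,0), (2,0), (2,4), (0,0), (0,0),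
    (1,1), (2,2), (2,5), (0,0), (0,0), (0,0), (1,1), (0,0), (2,1), (2,2),
    (2,0), (1,3), (2,2), (0,0), (0,0), (0,0), (1,0), (1,2), (2,0), (2,2),
    (2,3), (2,0), (0,0), (0,0), (1,1), (2,7), (0,0), (0,0), (1,0), (0,0),
    (0,0), (1,0), (2,2), (0,0), (2,3), (0,0), (2,0), (2,4), (0,0), (0,0),
    (1,4), (0,0), (0,0), (2,0), (2,2), (2,2), (0,0), (0,0), (2,1), (2,0),
    (2,5), (0,0), (1,0), (2,1), (2,4), (0,0), (1,0), (0,0), (0,0), (2,2),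
    (0,0), (2,1), (2,3), (0,0), (2,1), (2,0), (1,9), (0,0), (0,0), (0,0),
    (0,0), (0,0), (0,0), (1,0), (2,1), (2,0), (1,3), (0,0), (0,0), (2,0),
    (1,2), (1,4), (0,0), (1,0), (2,0), (0,0), (2,3), (0,0), (2,0), (2,2),
    (2,3), (0,0), (0,0), (1,1), (2,1), (2,2), (0,0), (2,1), (2,4), (0,0),
    (0,0), (0,0), (0,0), (2,1), (1,3), (2,0), (2,0), (0,0), (2,4), (2,0),
    (2,3), (2,0), (1,4), (0,0), (0,0), (1,0), (1,2), (2,1), (0,0), (2,0),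
    (2,2), (0,0), (2,1), (2,4), (0,0), (0,0), (0,0), (2,1), (2,0), (1,3),
    (2,0), (2,2), (0,0), (2,0), (2,4), (2,0), (2,0), (0,0), (2,6), (0,0),
    (0,0), (0,0), (1,0), (2,1), (2,0), (1,3), (2,0), (2,2), (0,0), (2,0),
    (2,2), (2,0), (2,0), (1,5), (0,0), (2,0), (2,2), (2,0), (2,3), (0,0),
    (0,0), (1,1), (2,2), (2,3), (0,0), (0,0), (2,0), (1,2), (2,0), (2,2),
    (0,0), (2,3), (2,0), (1,5), (0,0), (0,0), (0,0), (1,1), (0,0), (2,0),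
    (2,2), (2,0), (2,3), (0,0), (2,1), (1,3), (2,1), (2,0), (0,0), (1,0),
    (2,5), (0,0), (0,0), (1,0), (1,2), (0,0), (1,0), (2,1), (2,2), (2,2),
    (0,0), (2,1), (0,0), (2,4), (0,0), (0,0), (1,1), (2,1), (0,0), (2,3),
    (2,0), (2,5), (0,0), (0,0), (0,0), (0,0), (1,1), (2,1), (0,0), (1,3),
    (1,2), (2,0), (0,0), (0,0), (0,0), (2,2), (2,2), (2,0), (0,0), (2,1),
    (2,5), (0,0), (0,0), (0,0), (0,0), (1,2), (2,3), (0,0), (2,1), (2,0),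
    (0,0), (2,6), (2,0), (0,0), (0,0), (0,0), (2,2), (2,2), (0,0), (2,0),
    (1,7), (0,0), (0,0), (0,0), (0,0), (0,0), (1,1), (0,0), (1,0), (1,4)]

def dodTree3 : List (ℕ × ℕ) := [
    (0,0), (1,0), (2,1), (2,0), (1,5), (0,0), (0,0), (0,0), (1,0), (2,1),
    (1,2), (2,0), (2,2), (0,0), (2,4), (0,0), (0,0), (0,0), (2,2), (2,2),
    (0,0), (2,4), (0,0), (0,0), (0,0), (2,0), (1,2), (2,3), (0,0), (1,0),
    (1,5), (2,0), (0,0), (1,0), (2,0), (2,2), (0,0), (2,5), (0,0), (0,0),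
    (0,0), (1,0), (2,1), (2,0), (1,3), (2,0), (2,2), (1,2), (0,0), (2,0),
    (2,3), (2,0), (2,3), (0,0), (0,0), (1,0), (0,0), (1,3), (2,1), (2,0),
    (0,0), (2,7), (2,0), (0,0), (1,0), (0,0), (0,0), (1,1), (2,2), (2,0),
    (2,3), (0,0), (0,0), (2,2), (0,0), (2,4), (0,0), (2,0), (0,0), (2,3),
    (0,0), (2,0), (2,7), (0,0), (0,0), (0,0), (0,0), (0,0), (0,0), (2,0),
    (2,3), (1,2), (0,0), (2,1), (0,0), (1,0), (2,1), (2,2), (0,0), (1,0),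
    (2,2), (2,4), (0,0), (0,0), (1,1), (2,1), (2,2), (2,0), (1,4), (2,0),
    (2,2), (0,0), (0,0), (2,0), (2,0), (2,3), (0,0), (2,1), (0,0), (2,6),
    (0,0), (0,0), (0,0), (0,0), (1,1), (0,0), (2,2), (1,2), (2,0), (0,0),
    (2,1), (2,3), (0,0), (2,1), (2,4), (0,0), (1,0), (0,0), (2,1), (2,2),
    (0,0), (0,0), (2,1), (2,2), (0,0), (2,4), (0,0), (1,0), (2,1), (2,6),
    (0,0), (0,0), (0,0), (0,0), (1,0), (2,0), (2,2), (1,2), (1,2), (2,0),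
    (2,0), (2,3), (0,0), (0,0), (0,0), (1,1), (2,3), (0,0), (1,0), (2,1),
    (2,5), (0,0), (2,0), (0,0), (2,0), (2,2), (2,5), (0,0), (0,0), (1,0),
    (1,2), (0,0), (2,0), (0,0), (2,3), (2,2), (0,0), (0,0), (2,2), (0,0),
    (2,1), (2,4), (0,0), (0,0), (1,0), (2,0), (2,2), (1,2), (0,0), (2,2),
    (0,0), (2,8), (0,0), (0,0), (0,0), (0,0), (0,0), (0,0), (1,0), (2,0),
    (2,2), (2,0), (1,3), (0,0), (1,3), (2,1), (2,0), (2,0), (1,4), (0,0),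
    (0,0), (0,0), (0,0), (1,3), (2,0), (2,2), (0,0), (1,5), (0,0), (0,0),
    (0,0), (2,0), (0,0), (1,3), (0,0), (1,0), (2,3), (2,0), (1,3), (2,0),
    (2,2), (0,0), (0,0), (1,1), (2,0), (2,2), (2,2), (2,0), (2,0), (2,5),
    (0,0), (0,0), (0,0), (0,0), (1,2), (0,0), (2,2), (1,2), (2,0), (2,2),
    (0,0), (2,3), (2,0), (2,0), (2,5), (0,0), (0,0), (0,0), (1,1), (0,0),
    (2,1), (2,2), (2,0), (1,3), (2,0), (0,0), (2,3), (0,0), (2,0), (2,4),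
    (0,0), (1,0), (2,0), (2,2), (2,2), (2,0), (1,5), (0,0), (0,0), (0,0),
    (0,0), (1,0), (2,1), (1,2), (0,0), (1,3), (0,0), (1,0), (2,1), (2,2),
    (0,0), (2,3), (0,0), (2,0), (2,0), (1,5), (2,0), (2,0), (2,3), (0,0),
    (0,0), (0,0), (1,2), (2,2), (0,0), (2,1), (0,0), (2,0), (2,2), (2,5),
    (2,0), (0,0), (0,0), (2,0), (2,2), (2,0), (2,6), (0,0), (1,0), (0,0),
    (1,0), (2,4), (0,0), (0,0), (0,0), (1,0), (2,0), (2,2), (1,2), (2,0),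
    (2,2), (1,2), (0,0), (2,1), (0,0), (2,1), (2,3), (0,0), (0,0), (0,0),
    (2,3), (0,0), (2,1), (0,0), (2,5), (0,0), (1,0), (2,2), (0,0), (1,0),
    (2,1), (2,7), (0,0), (0,0), (0,0), (0,0), (1,0), (2,0), (2,2), (0,0),
    (2,0), (2,4), (2,0), (2,0), (2,0), (2,5), (0,0), (0,0), (0,0), (2,0),
    (2,3), (2,2), (0,0), (2,0), (2,0), (2,3), (0,0), (2,1), (1,5), (2,0),
    (0,0), (0,0), (2,1), (2,2), (2,0), (0,0), (2,1), (0,0), (2,6), (2,0),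
    (0,0), (0,0), (0,0), (1,1), (2,2), (0,0), (2,0), (2,4), (2,0), (0,0),
    (1,0), (2,1), (2,7), (0,0), (0,0), (0,0), (0,0), (1,1), (2,0), (0,0),
    (2,3), (2,2), (0,0), (2,0), (1,4), (0,0), (0,0), (0,0), (2,0), (2,2),
    (0,0), (1,3), (2,0), (2,2), (2,2), (2,0), (2,3), (0,0), (0,0), (0,0),
    (0,0), (1,2), (0,0), (1,0), (1,4), (0,0), (2,1), (2,2), (0,0), (2,3),
    (0,0), (0,0), (2,1), (2,5), (0,0), (0,0), (0,0), (2,0), (1,2), (2,1),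
    (2,2), (0,0), (0,0), (2,0), (2,2), (2,2), (2,0), (0,0), (2,10), (0,0),
    (0,0), (0,0), (0,0), (0,0), (0,0), (0,0), (0,0), (1,1), (2,1), (1,2),
    (2,0), (2,2), (0,0), (0,0), (1,4), (0,0), (0,0), (0,0), (1,2), (1,4),
    (0,0), (0,0), (1,0), (0,0), (2,1), (2,2), (1,2), (2,1), (0,0), (2,3)]

def dodTree4 : List (ℕ × ℕ) := [
    (0,0), (1,0), (2,0), (2,2), (2,4), (2,0), (2,0), (2,0), (1,5), (0,0),
    (0,0), (0,0), (1,0), (1,2), (0,0), (1,3), (2,1), (2,0), (0,0), (2,1),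
    (2,4), (0,0), (1,0), (2,4), (0,0), (0,0), (1,0), (2,0), (2,2), (0,0),
    (0,0), (1,1), (1,4), (0,0), (2,1), (0,0), (0,0), (2,1), (2,2), (2,0),
    (0,0), (2,5), (2,0), (2,0), (2,4), (0,0), (2,0), (2,2), (0,0), (1,0),
    (2,0), (2,2), (2,2), (1,5), (0,0), (2,0), (0,0), (1,0), (0,0), (2,3),
    (0,0), (1,0), (2,2), (2,4), (0,0), (0,0), (1,0), (0,0), (2,1), (0,0),
    (2,3), (0,0), (2,1), (1,3), (0,0), (0,0), (2,4), (0,0), (1,0), (2,0),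
    (2,2), (2,2), (0,0), (2,0), (2,2), (2,5), (0,0), (0,0), (0,0), (0,0),
    (2,0), (1,2), (0,0), (1,3), (0,0), (1,0), (2,1), (2,2), (0,0), (2,3),
    (0,0), (0,0), (1,1), (2,2), (2,0), (1,4), (0,0), (0,0), (1,0), (2,1),
    (0,0), (2,3), (2,0), (2,4), (0,0), (1,0), (2,0), (2,2), (0,0), (2,3),
    (0,0), (2,4), (0,0), (0,0), (0,0), (1,1), (0,0), (2,1), (2,2), (0,0),
    (1,3), (0,0), (0,0), (2,2), (0,0), (0,0), (2,2), (2,3), (0,0), (1,0),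
    (2,1), (2,2), (0,0), (2,4), (0,0), (1,0), (0,0), (2,2), (2,0), (2,3),
    (0,0), (1,0), (1,7), (0,0), (0,0), (0,0), (0,0), (1,0), (2,2), (1,2),
    (0,0), (2,0), (0,0), (2,3), (0,0), (0,0), (2,2), (0,0), (0,0), (1,1),
    (2,2), (2,4), (0,0), (1,0), (2,2), (2,0), (2,0), (1,5), (2,0), (0,0),
    (2,0), (0,0), (2,0), (2,2), (2,0), (2,4), (2,0), (2,4), (0,0), (0,0),
    (1,0), (1,2), (2,0), (2,0), (2,3), (2,0), (2,0), (2,4), (0,0), (0,0),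
    (1,1), (2,1), (2,0), (2,3), (2,4), (0,0), (0,0), (0,0), (0,0), (1,1),
    (2,0), (2,2), (1,2), (0,0), (1,0), (2,2), (0,0), (1,0), (2,2), (2,3),
    (0,0), (0,0), (0,0), (1,2), (2,2), (0,0), (1,4), (0,0), (1,0), (2,1),
    (0,0), (2,1), (2,3), (0,0), (0,0), (2,0), (1,2), (2,0), (2,2), (0,0),
    (2,1), (2,5), (0,0), (0,0), (2,1), (2,0), (2,3), (0,0), (2,1), (2,4),
    (0,0), (1,0), (0,0), (2,1), (2,2), (0,0), (0,0), (2,4), (0,0), (1,0),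
    (2,1), (2,2), (2,5), (0,0), (0,0), (0,0), (0,0), (0,0), (2,0), (1,3),
    (0,0), (0,0), (1,1), (2,2), (2,2), (0,0), (0,0), (1,0), (2,3), (2,0),
    (2,4), (2,0), (0,0), (0,0), (1,1), (2,1), (0,0), (2,3), (1,4), (2,0),
    (0,0), (0,0), (0,0), (1,1), (1,2), (0,0), (1,0), (2,2), (0,0), (2,3),
    (2,2), (2,0), (2,4), (0,0), (0,0), (0,0), (1,0), (2,1), (2,2), (0,0),
    (1,3), (2,0), (2,0), (2,3), (0,0), (2,0), (2,2), (0,0), (2,4), (2,0),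
    (2,0), (0,0), (2,6), (0,0), (0,0), (0,0), (0,0), (2,1), (1,2), (0,0),
    (0,0), (2,2), (2,0), (2,3), (0,0), (0,0), (2,1), (2,2), (0,0), (1,4),
    (0,0), (0,0), (0,0), (1,1), (2,2), (2,3), (0,0), (0,0), (2,0), (1,2),
    (2,0), (2,2), (2,2), (2,3), (0,0), (0,0), (2,0), (0,0), (1,3), (2,0),
    (0,0), (2,3), (0,0), (2,0), (2,4), (0,0), (0,0), (2,1), (2,0), (2,8),
    (0,0), (0,0), (0,0), (0,0), (0,0), (0,0), (0,0), (2,1), (1,2), (2,0),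
    (2,2), (0,0), (2,3), (0,0), (1,3), (2,1), (2,0), (2,0), (1,4), (0,0),
    (0,0), (0,0), (2,0), (1,2), (1,2), (2,0), (2,0), (2,3), (0,0), (0,0),
    (1,1), (0,0), (2,3), (0,0), (2,1), (2,4), (0,0), (0,0), (1,0), (1,2),
    (2,2), (0,0), (2,0), (2,2), (2,0), (0,0), (2,6), (0,0), (0,0), (1,0),
    (1,2), (0,0), (0,0), (2,2), (0,0), (1,0), (2,4), (2,2), (0,0), (2,0),
    (2,0), (2,3), (2,0), (1,5), (0,0), (1,0), (2,0), (0,0), (2,0), (2,2),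
    (2,3), (0,0), (1,0), (0,0), (2,2), (2,0), (2,3), (0,0), (0,0), (2,1),
    (2,5), (0,0), (0,0), (0,0), (1,0), (1,2), (2,1), (1,2), (0,0), (0,0),
    (2,2), (0,0), (2,3), (0,0), (0,0), (1,1), (2,1), (0,0), (2,3), (2,3),
    (0,0), (2,1), (2,0), (2,5), (0,0), (1,0), (0,0), (0,0), (0,0), (1,2),
    (2,1), (2,2), (0,0), (1,0), (2,0), (2,2), (2,4), (0,0), (1,0), (0,0),
    (2,1), (2,2), (2,4), (0,0), (0,0), (0,0), (2,1), (0,0), (2,3), (2,2)]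

def dodTree5 : List (ℕ × ℕ) := [
    (0,0), (2,1), (0,0), (2,6), (0,0), (0,0), (1,0), (0,0), (0,0), (0,0),
    (1,2), (2,1), (0,0), (2,3), (2,0), (2,3), (0,0), (0,0), (1,1), (2,1),
    (2,2), (0,0), (1,4), (0,0), (0,0), (0,0), (0,0), (1,2), (1,2), (2,1),
    (2,2), (0,0), (2,3), (0,0), (0,0), (0,0), (0,0), (1,2), (0,0), (0,0),
    (1,4), (2,0), (2,2), (2,4), (0,0), (0,0), (0,0), (0,0), (0,0), (0,0),
    (2,1), (2,2), (0,0), (1,4), (0,0), (1,0), (2,2), (2,2), (1,2), (2,0),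
    (2,0), (0,0), (2,1), (0,0), (2,5), (0,0), (0,0), (1,0), (0,0), (2,2),
    (1,2), (2,2), (2,0), (0,0), (2,1)]

def dodTree : List (ℕ × ℕ) :=
  dodTree0 ++ dodTree1 ++ dodTree2 ++ dodTree3 ++ dodTree4 ++ dodTree5

end Cfsg.Agent.Lib.Golay
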