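import Cfsg.Agent.Lib.Golay.Subgroups

/-! # Certified orbits of stabilisers on classes of objects -/

set_option autoImplicit false

namespace Cfsg.Agent.Lib.Golay

open Cfsg
open scoped Pointwise

/-- The key is injective on the list (`seen` is the bit set of the keys met so far). -/
def keyInj {α : Type*} (key : α → ℕ) : List α → ℕ → Bool
  | [], _ => true
  | a :: L, seen => ((seen >>> key a) &&& 1 != 1) && keyInj key L ((1 <<< key a) ||| seen)

theorem keyInj_spec {α : Type*} {key : α → ℕ} : ∀ {L : List α} {seen : ℕ},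
    keyInj key L seen = true →
      L.Nodup ∧ (∀ a ∈ L, seen.testBit (key a) = false) ∧
        ∀ a ∈ L, ∀ b ∈ L, key a = key b → a = b
  | [], _, _ => by simp
  | a :: L, seen, h => by
    simp only [keyInj, Bool.and_eq_true, bne_iff_ne, ne_eq, shift_and_one] at h
    obtain ⟨h1, h2, h3⟩ := keyInj_spec h.2
    have ha : ∀ b ∈ L, key b ≠ key a := by
      intro b hb he
      have := h2 b hb
      rw [Nat.testBit_or, Nat.one_shiftLeft, Nat.testBit_two_pow, he] at this
      simp at this
    refine ⟨List.nodup_cons.2 ⟨fun hm => ha a hm rfl, h1⟩, ?_, ?_⟩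
    · intro b hb
      rcases List.mem_cons.1 hb with rfl | hb
      · simpa using h.1
      · have := h2 b hb
        rw [Nat.testBit_or, Bool.or_eq_false_iff] at this
        exact this.2
    · intro b hb c hc he
      rcases List.mem_cons.1 hb with e | e <;> rcases List.mem_cons.1 hc with e' | e'
      · rw [e, e']
      · subst e; exact absurd he.symm (ha c e')
      · subst e'; exact absurd he (ha b e)
      · exact h3 b e c e' he

/-- Bit set of the keys. -/
def keys {α : Type*} (key : α → ℕ) (L : List α) : ℕ :=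
  L.foldr (fun a acc => (1 <<< key a) ||| acc) 0

theorem testBit_keys {α : Type*} (key : α → ℕ) (L : List α) (j : ℕ) :
    (keys key L).testBit j = true ↔ ∃ a ∈ L, key a = j := by
  induction L with
  | nil => simp [keys]
  | cons a L ih =>
    rw [keys, List.foldr_cons, Nat.testBit_or, Bool.or_eq_true, Nat.one_shiftLeft,
      Nat.testBit_two_pow, ← keys, ih]
    simp

/-- The objects reached by a tree over generators acting by `f`. -/
def orbitList {α : Type*} (f : ℕ → α → α) (gs : List ℕ) (T : List (ℕ × ℕ)) (start : α) : List α :=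
  start :: walk (fun j a => f (gs.getD j 0) a) T [start]

/-- A certificate that the generators reach every object of `U` satisfying `q`. -/
def coverOK {α : Type*} (S : List ℕ) (F : ℕ) (f : ℕ → α → α) (gs : List ℕ) (T : List (ℕ × ℕ))
    (start : α) (U : List α) (q : α → Bool) (key : α → ℕ) : Bool :=
  gs.all (inStab S F) && T.all (fun e => Nat.blt e.1 gs.length) &&
    (orbitList f gs T start).all q && keyInj key (U.filter q) 0 &&
    (keys key (orbitList f gs T start) == keys key (U.filter q))

theorem orbitList_spec {α β : Type*} [MulAction (Equiv.Perm GolayPt) β] {R : α → β}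
    {f : ℕ → α → α} (hf : ∀ g a, valid g = true → R (f g a) = toPerm g • R a)
    (H : Subgroup (Equiv.Perm GolayPt)) {gs : List ℕ}
    (hgs : ∀ g ∈ gs, valid g = true ∧ toPerm g ∈ H) {start : α} :
    ∀ (T : List (ℕ × ℕ)) (st : List α), (∀ e ∈ T, e.1 < gs.length) →
      (∀ a ∈ st, ∃ σ ∈ H, σ • R start = R a) →
      ∀ a ∈ walk (fun j a => f (gs.getD j 0) a) T st, ∃ σ ∈ H, σ • R start = R a
  | [], _, _, _, a, ha => by simp [walk] at ha
  | (j, k) :: r, st, hT, hst, a, ha => by
    rw [walk] at ha
    cases hd : st.drop k with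
    | nil => rw [hd] at ha; simp at ha
    | cons b st' =>
      rw [hd] at ha
      have hb : ∀ c ∈ b :: st', ∃ σ ∈ H, σ • R start = R c :=
        fun c hc => hst c (List.mem_of_mem_drop (hd ▸ hc))
      have hj : j < gs.length := hT (j, k) (by simp)
      have hg : gs.getD j 0 ∈ gs := by
        rw [List.getD_eq_getElem _ _ hj]; exact List.getElem_mem hj
      have hnew : ∃ σ ∈ H, σ • R start = R (f (gs.getD j 0) b) := by
        obtain ⟨σ, hσ, he⟩ := hb b (by simp)
        exact ⟨toPerm (gs.getD j 0) * σ, mul_mem (hgs _ hg).2 hσ,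
          by rw [mul_smul, he, hf _ _ (hgs _ hg).1]⟩
      simp only [List.mem_cons] at ha
      rcases ha with rfl | ha
      · exact hnew
      · refine orbitList_spec hf H hgs r _ (fun e he => hT e (List.mem_cons_of_mem _ he)) ?_ a ha
        intro c hc
        rcases List.mem_cons.1 hc with rfl | hc
        · exact hnew
        · exact hb c hc

theorem coverOK_orbit {α β : Type*} [MulAction (Equiv.Perm GolayPt) β] {R : α → β}
    {f : ℕ → α → α} (hf : ∀ g a, valid g = true → R (f g a) = toPerm g • R a)
    {S : List ℕ} {F : ℕ} {gs : List ℕ} {T : List (ℕ × ℕ)} {start : α} {U : List α}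
    {q : α → Bool} {key : α → ℕ} (hU : ∀ a, q a = true → a ∈ U)
    (h : coverOK S F f gs T start U q key = true) {a : α} (ha : q a = true) :
    ∃ σ ∈ stabM S F, σ • R start = R a := by
  simp only [coverOK, Bool.and_eq_true, List.all_eq_true, Nat.blt_eq, beq_iff_eq] at h
  obtain ⟨⟨⟨⟨hg, hT⟩, hq⟩, hinj⟩, hk⟩ := h
  have hmem : ∀ b, q b = true → b ∈ U.filter q := fun b hb => List.mem_filter.2 ⟨hU b hb, hb⟩
  obtain ⟨b, hb, he⟩ := (testBit_keys key _ (key a)).1
    (by rw [hk, testBit_keys]; exact ⟨a, hmem a ha, rfl⟩)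
  have hab : b = a := (keyInj_spec hinj).2.2 b (hmem b (hq b hb)) a (hmem a ha) he
  subst hab
  rcases List.mem_cons.1 hb with rfl | hb
  · exact ⟨1, one_mem _, one_smul _ _⟩
  · exact orbitList_spec hf _ (fun g hg' => ⟨(inStab_spec (hg g hg')).2, (inStab_spec (hg g hg')).1⟩)
      T [start] hT (by simpa using ⟨1, one_mem _, one_smul _ _⟩) b hb

/-- Several classes of masks, covered at once. -/
theorem cover_mask {S : List ℕ} {F : ℕ} {gs : List ℕ} {T : List (ℕ × ℕ)} {start : ℕ}
    {U : List ℕ} {q : ℕ → Bool} {key : ℕ → ℕ} (hU : ∀ a, q a = true → a ∈ U)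
    (h : coverOK S F act gs T start U q key = true) {a : ℕ} (ha : q a = true) :
    ∃ σ ∈ stabM S F, σ • toSet start = toSet a :=
  coverOK_orbit (fun _ _ hg => (smul_toSet hg _).symm) hU h ha

/-- The masks below `2 ^ n` with exactly `k` bits, for small `k`. -/
def combs : ℕ → ℕ → List ℕ
  | _, 0 => [0]
  | 0, _ + 1 => []
  | n + 1, k + 1 => combs n (k + 1) ++ (combs n k).map fun m => m ||| 1 <<< n

theorem mem_combs : ∀ (n k m : ℕ), m < 2 ^ n →
    ((Finset.range n).filter fun i => m.testBit i = true).card = k → m ∈ combs n k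
  | n, 0, m, hm, hc => by
    have : m = 0 := by
      apply Nat.eq_of_testBit_eq
      intro i
      rw [Nat.zero_testBit]
      by_cases hi : i < n
      · rw [Finset.card_eq_zero, Finset.filter_eq_empty_iff] at hc
        simpa using hc (Finset.mem_range.2 hi)
      · exact Nat.testBit_lt_two_pow (lt_of_lt_of_le hm (Nat.pow_le_pow_right (by norm_num) (by omega)))
    simp [combs, this]
  | 0, k + 1, m, hm, hc => by simp at hc
  | n + 1, k + 1, m, hm, hc => by
    rw [combs, List.mem_append]
    rw [Finset.range_add_one, Finset.filter_insert] at hc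
    by_cases hb : m.testBit n = true
    · refine Or.inr (List.mem_map.2 ⟨m % 2 ^ n, mem_combs n k _ (Nat.mod_lt _ (by positivity)) ?_, ?_⟩)
      · rw [if_pos hb, Finset.card_insert_of_notMem (by simp)] at hc
        rw [← Nat.succ_injective (by simpa using hc : _ + 1 = k + 1)]
        congr 1
        refine Finset.filter_congr fun i hi => ?_
        simp [Nat.testBit_mod_two_pow, Finset.mem_range.1 hi]
      · apply Nat.eq_of_testBit_eq
        intro i
        rw [Nat.testBit_or, Nat.one_shiftLeft, Nat.testBit_two_pow, Nat.testBit_mod_two_pow]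
        rcases lt_trichotomy i n with hi | rfl | hi
        · simp [hi, Nat.ne_of_gt hi]
        · simp [hb]
        · have : m.testBit i = false :=
            Nat.testBit_lt_two_pow (lt_of_lt_of_le hm (Nat.pow_le_pow_right (by norm_num) hi))
          simp [this, Nat.ne_of_lt hi]
    · rw [if_neg hb] at hc
      refine Or.inl (mem_combs n (k + 1) m ?_ hc)
      refine Nat.lt_pow_two_of_testBit _ fun i hi => ?_
      rcases Nat.lt_or_eq_of_le hi with hi | rfl
      · exact Nat.testBit_lt_two_pow (lt_of_lt_of_le hm (Nat.pow_le_pow_right (by norm_num) hi))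
      · simpa using hb

theorem mem_combs24 {k m : ℕ} (hm : m < 16777216) (hc : pc m = k) : m ∈ combs 24 k := by
  refine mem_combs 24 k m (by simpa using hm) ?_
  rw [← hc, ← card_toSet]
  refine Finset.card_bij (fun i _ => pt i) ?_ ?_ ?_
  · intro i hi
    simp only [Finset.mem_filter, Finset.mem_range] at hi
    simp [ix_pt hi.1, hi.2]
  · intro i hi j hj he
    simp only [Finset.mem_filter, Finset.mem_range] at hi hj
    rw [← ix_pt hi.1, he, ix_pt hj.1]
  · intro p hp
    simp only [mem_toSet] at hp
    exact ⟨ix p, by simp [ix_lt, hp], pt_ix p⟩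

/-! ### Moving a general configuration to a standard one -/

/-- A transporter for a stabiliser: if the group is transitive on the first object and the
stabiliser of a standard one is transitive on each class, the same holds at every object. -/
theorem trans_transfer {α β : Type*} [MulAction (Equiv.Perm GolayPt) α]
    [MulAction (Equiv.Perm GolayPt) β] {H : Subgroup (Equiv.Perm GolayPt)} {a₀ a : α}
    (hmove : ∃ σ ∈ H, σ • a₀ = a) {Rel : α → β → β → Prop}
    (hinv : ∀ σ ∈ H, ∀ x y z, Rel x y z → Rel (σ • x) (σ • y) (σ • z))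
    (hbase : ∀ y z, Rel a₀ y z → ∃ σ ∈ H, σ • a₀ = a₀ ∧ σ • y = z) {y z : β} (h : Rel a y z) :
    ∃ σ ∈ H, σ • a = a ∧ σ • y = z := by
  obtain ⟨τ, hτ, rfl⟩ := hmove
  have h0 := hinv τ⁻¹ (inv_mem hτ) _ _ _ h
  rw [inv_smul_smul] at h0
  obtain ⟨σ, hσ, h1, h2⟩ := hbase _ _ h0
  refine ⟨τ * σ * τ⁻¹, mul_mem (mul_mem hτ hσ) (inv_mem hτ), ?_, ?_⟩
  · rw [mul_smul, mul_smul, inv_smul_smul, h1]
  · rw [mul_smul, mul_smul, h2, smul_inv_smul]

theorem ncard_transfer {α β : Type*} [MulAction (Equiv.Perm GolayPt) α]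
    [MulAction (Equiv.Perm GolayPt) β] {H : Subgroup (Equiv.Perm GolayPt)} {a₀ a : α}
    (hmove : ∃ σ ∈ H, σ • a₀ = a) {P : α → β → Prop}
    (hinv : ∀ σ ∈ H, ∀ x y, P x y → P (σ • x) (σ • y)) :
    {y | P a y}.ncard = {y | P a₀ y}.ncard := by
  obtain ⟨τ, hτ, rfl⟩ := hmove
  have : {y | P (τ • a₀) y} = (fun y : β => τ • y) '' {y | P a₀ y} := by
    ext y
    simp only [Set.mem_ofPred_eq, Set.mem_image]
    constructor
    · intro h
      refine ⟨τ⁻¹ • y, ?_, smul_inv_smul τ y⟩
      simpa using hinv τ⁻¹ (inv_mem hτ) _ _ h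
    · rintro ⟨x, hx, rfl⟩
      exact hinv τ hτ _ _ hx
  rw [this, Set.ncard_image_of_injective _ (MulAction.injective τ)]

end Cfsg.Agent.Lib.Golay
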