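import Mathlib.Data.Nat.Notation

/-! # Coordinate frames of the code at an octad -/

set_option autoImplicit false

namespace Cfsg.Agent.Lib.Golay

def starCerts : List (List ℕ × ℕ) := [
  ([12, 22, 27, 39, 41, 53, 58], 858774474879460279125539582020525194),
  ([12, 23, 26, 37, 43, 54, 57], 760051871751359391968133738890530855),
  ([13, 22, 26, 35, 44, 49, 63], 644100346952277125852919269989417063),
  ([13, 23, 27, 33, 46, 50, 60], 730174884398368058142629310440211779),
  ([14, 18, 29, 39, 43, 49, 60], 939223257915208278012013221172806018),
  ([14, 19, 28, 37, 41, 50, 63], 941892907221118537502657523790945411),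
  ([15, 18, 28, 35, 46, 53, 57], 559131022797701236690970538520217603),
  ([15, 19, 29, 33, 44, 54, 58], 894996478415088793109598478445685124)]

end Cfsg.Agent.Lib.Golay
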