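import Cfsg.Agent.Lib.Golay.Search
import Cfsg.Agent.Lib.Golay.CentData

/-! # The centraliser of an involution without fixed points -/

set_option autoImplicit false
set_option maxRecDepth 100000

namespace Cfsg.Agent.Lib.Golay

open Cfsg
open scoped Pointwise

theorem cent2B_search : search rep2B [rep2B] 5 2 idCode = cent2BList := by decide +kernel

theorem cent2B_facts :
    cent2BList.all (fun p => inM24 p && fixesMask (baseMask 2) p && commJ rep2B [rep2B] p) = true ∧
      codedOK cent2BList = true ∧ cent2BList.length = 320 ∧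
      cent2BTrans.all (fun p => inM24 p && commJ rep2B [rep2B] p) = true ∧
      keySet (fun c => img c 0) cent2BTrans = FULL ∧ img rep2B 0 = 1 := by
  refine ⟨?_, ?_, ?_, ?_, ?_, ?_⟩ <;> decide +kernel

/-- The centraliser of the standard fixed-point-free involution. -/
noncomputable def cent2B : Subgroup (Equiv.Perm GolayPt) :=
  M24 ⊓ Subgroup.centralizer {toPerm rep2B}

theorem mem_cent2B {x : Equiv.Perm GolayPt} :
    x ∈ cent2B ↔ x ∈ M24 ∧ x * toPerm rep2B = toPerm rep2B * x := by
  simp only [cent2B, Subgroup.mem_inf, Subgroup.mem_centralizer_singleton_iff]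

theorem twines_single (x : Equiv.Perm GolayPt) :
    Twines rep2B [rep2B] x ↔ x * toPerm rep2B = toPerm rep2B * x := by simp [Twines]

theorem cent2B_stab (x : Equiv.Perm GolayPt) :
    x ∈ cent2B ⊓ MulAction.stabilizer (Equiv.Perm GolayPt) (pt 0) ↔
      ∃ p ∈ cent2BList, toPerm p = x := by
  have hv : valid rep2B = true := (rep_valid (by simp)).2
  rw [← search_exact (J := [rep2B]) hv (by simpa using hv) (n := 5) (k := 2) rfl cent2B_search
    cent2B_facts.1 x, twines_single, Subgroup.mem_inf, mem_cent2B, mem_level]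
  show ((x ∈ M24 ∧ x * toPerm rep2B = toPerm rep2B * x) ∧ x (pt 0) = pt 0) ↔ _
  constructor
  · rintro ⟨⟨h1, h2⟩, h3⟩
    refine ⟨⟨h1, fun q hq => ?_⟩, h2⟩
    have hq' : q = pt 0 ∨ q = pt 1 := by
      revert q; decide +kernel
    rcases hq' with rfl | rfl
    · exact h3
    · have h4 := DFunLike.congr_fun h2 (pt 0)
      simp only [Equiv.Perm.mul_apply] at h4
      rw [h3, toPerm_pt hv (by norm_num : 0 < 24), cent2B_facts.2.2.2.2.2] at h4
      exact h4
  · rintro ⟨⟨h1, h2⟩, h3⟩
    exact ⟨⟨h1, h3⟩, h2 _ (by decide +kernel)⟩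

theorem cent2B_trans (q : GolayPt) : ∃ σ ∈ cent2B, σ (pt 0) = q := by
  obtain ⟨-, -, -, hall, hkey, -⟩ := cent2B_facts
  have hv : valid rep2B = true := (rep_valid (by simp)).2
  obtain ⟨c, hc, he⟩ := (testBit_keySet (fun c => img c 0) cent2BTrans (ix q)).1
    (by rw [hkey]; exact testBit_full _ (ix_lt q))
  have := List.all_eq_true.1 hall c hc
  simp only [Bool.and_eq_true] at this
  have hcv := valid_of_inM24 this.1
  refine ⟨toPerm c, mem_cent2B.2 ⟨toPerm_mem_M24 this.1,
    (twines_single _).1 ((commJ_iff hv hcv (by simpa using hv)).1 this.2)⟩, ?_⟩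
  rw [toPerm_pt hcv (by norm_num : 0 < 24), he, pt_ix]

theorem cent2B_card : Nat.card cent2B = 7680 := by
  have h := card_eq_orbit_mul cent2B (pt 0) Set.univ (fun _ _ => Set.mem_univ _)
    (fun q _ => cent2B_trans q)
  rw [Set.ncard_univ, Nat.card_eq_fintype_card (α := GolayPt)] at h
  rw [h, ← SetLike.coe_sort_coe, Nat.card_coe_set_eq,
    ncard_coded cent2B_facts.2.1 cent2B_stab, cent2B_facts.2.2.1]
  rfl

theorem cent2B_point (q : GolayPt) :
    Nat.card ↥(cent2B ⊓ MulAction.stabilizer (Equiv.Perm GolayPt) q) = 320 := by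
  have h := card_eq_orbit_mul cent2B q Set.univ (fun _ _ => Set.mem_univ _) (fun r _ => by
    obtain ⟨σ, hσ, rfl⟩ := cent2B_trans q
    obtain ⟨τ, hτ, rfl⟩ := cent2B_trans r
    exact ⟨τ * σ⁻¹, mul_mem hτ (inv_mem hσ), by simp⟩)
  rw [Set.ncard_univ, Nat.card_eq_fintype_card (α := GolayPt),
    show Fintype.card GolayPt = 24 from rfl, cent2B_card] at h
  change 7680 = 24 * Nat.card ↥(cent2B ⊓ MulAction.stabilizer (Equiv.Perm GolayPt) q) at h
  omega

end Cfsg.Agent.Lib.Golay
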