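import Cfsg.Agent.Lib.Golay.Flags

/-! # Counting octads and dodecads relative to a configuration -/

set_option autoImplicit false

namespace Cfsg.Agent.Lib.Golay

open Cfsg
open scoped Pointwise

theorem octad_dodecad_inter {o d : Finset GolayPt} (ho : o ∈ octads) (hd : d ∈ dodecads) :
    (o ∩ d).card = 2 ∨ (o ∩ d).card = 4 ∨ (o ∩ d).card = 6 := by
  have hk : (symmDiff o d).card + 2 * (o ∩ d).card = 20 := by
    rw [show symmDiff o d = (o \ d) ∪ (d \ o) from rfl,
      Finset.card_union_of_disjoint disjoint_sdiff_sdiff, Finset.card_sdiff, Finset.card_sdiff,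
      octads_card ho, dodecads_card hd, Finset.inter_comm d o]
    have : (o ∩ d).card ≤ 8 :=
      (Finset.card_le_card Finset.inter_subset_left).trans (octads_card ho).le
    omega
  have h8 : (o ∩ d).card ≤ 8 :=
    (Finset.card_le_card Finset.inter_subset_left).trans (octads_card ho).le
  rcases card_cases (codeSets_symmDiff ho.1 hd.1) with h | h | h | h | h <;> omega

theorem oct_dod_count {d : Finset GolayPt} (hd : d ∈ dodecads) (k : ℕ) :
    {o : Finset GolayPt | o ∈ octads ∧ (o ∩ d).card = k}.ncard =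
      (octList.filter (octClass d0 k 0 0)).length := by
  rw [ncard_transfer (M24_trans_dodecads d0_dodecad hd)
    (P := fun d o => o ∈ octads ∧ (o ∩ d).card = k)]
  · exact ncard_octClass d0 k 0 0 _ fun m _ => by simp [Finset.inter_comm (toSet m)]
  · rintro σ hσ a b ⟨h1, h2⟩
    exact ⟨smul_mem_octads hσ h1, by rw [smul_inter_card, h2]⟩

theorem oct_dod_counts : (octList.filter (octClass d0 6 0 0)).length = 132 ∧
    (octList.filter (octClass d0 2 0 0)).length = 132 ∧
    (octList.filter (octClass d0 4 0 0)).length = 495 := by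
  refine ⟨?_, ?_, ?_⟩ <;> decide +kernel

theorem dodecad_hexads {d : Finset GolayPt} (hd : d ∈ dodecads) :
    IsSteinerSystem 5 6 {h : Finset {p : GolayPt // p ∈ d} |
      ∃ o ∈ octads, (o ∩ d).card = 6 ∧ h = Finset.subtype (fun p => p ∈ d) o} := by
  refine ⟨?_, fun s hs => ?_⟩
  · rintro _ ⟨o, -, h6, rfl⟩
    rw [Finset.card_subtype, Finset.filter_mem_eq_inter, h6]
  · have ht : (s.map (Function.Embedding.subtype _)).card = 5 := by rw [Finset.card_map, hs]
    obtain ⟨o, ⟨ho, hso⟩, huniq⟩ := octads_steiner.2 _ ht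
    have hsub : s.map (Function.Embedding.subtype _) ⊆ o ∩ d := by
      intro p hp
      refine Finset.mem_inter.2 ⟨hso hp, ?_⟩
      obtain ⟨q, -, rfl⟩ := Finset.mem_map.1 hp
      exact q.2
    have h5 := Finset.card_le_card hsub
    have := octad_dodecad_inter ho hd
    have h6 : (o ∩ d).card = 6 := by omega
    refine ⟨Finset.subtype (fun p => p ∈ d) o, ⟨⟨o, ho, h6, rfl⟩, ?_⟩, ?_⟩
    · intro p hp
      rw [Finset.mem_subtype]
      exact hso (Finset.mem_map.2 ⟨p, hp, rfl⟩)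
    · rintro h ⟨⟨o', ho', -, rfl⟩, hs'⟩
      rw [huniq o' ⟨ho', ?_⟩]
      intro p hp
      obtain ⟨q, hq, rfl⟩ := Finset.mem_map.1 hp
      exact Finset.mem_subtype.1 (hs' hq)

theorem dod_dod_count {d : Finset GolayPt} (hd : d ∈ dodecads) (k : ℕ) :
    {d' : Finset GolayPt | d' ∈ dodecads ∧ (d ∩ d').card = k}.ncard =
      (dodList.filter (dodClass d0 k 0)).length := by
  rw [ncard_transfer (M24_trans_dodecads d0_dodecad hd)
    (P := fun d o => o ∈ dodecads ∧ (d ∩ o).card = k)]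
  · exact ncard_dodClass d0 k 0 _ fun m _ => by simp
  · rintro σ hσ a b ⟨h1, h2⟩
    exact ⟨smul_mem_dodecads hσ h1, by rw [smul_inter_card, h2]⟩

theorem dod_dod_counts : (dodList.filter (dodClass d0 4 0)).length = 495 ∧
    (dodList.filter (dodClass d0 6 0)).length = 1584 ∧
    (dodList.filter (dodClass d0 8 0)).length = 495 ∧
    (dodList.filter (dodClass d0 4 1)).length = 165 ∧
    (dodList.filter (dodClass d0 8 1)).length = 330 ∧
    (dodList.filter (dodClass d0 6 1)).length = 792 := by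
  refine ⟨?_, ?_, ?_, ?_, ?_, ?_⟩ <;> decide +kernel

theorem pt_dod_count {x : GolayPt} {d : Finset GolayPt} (hd : d ∈ dodecads) (hx : x ∈ d) (k : ℕ) :
    {d' : Finset GolayPt | d' ∈ dodecads ∧ x ∈ d' ∧ (d ∩ d').card = k}.ncard =
      (dodList.filter (dodClass d0 k 1)).length := by
  have hmove : ∃ σ ∈ M24, σ • ((pt 0 : GolayPt), toSet d0) = (x, d) := by
    obtain ⟨σ, hσ, h1, h2⟩ := exists_d0_pt hd hx
    exact ⟨σ, hσ, Prod.ext h2 h1⟩
  rw [ncard_transfer (a := (x, d)) hmove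
    (P := fun c o => o ∈ dodecads ∧ c.1 ∈ o ∧ (c.2 ∩ o).card = k)]
  · exact ncard_dodClass d0 k 1 _ fun m _ => by rw [bit0]; exact and_comm
  · rintro σ hσ ⟨a, c⟩ b ⟨h1, h0, h2⟩
    exact ⟨smul_mem_dodecads hσ h1, Finset.smul_mem_smul_finset h0,
      by simp only [Prod.smul_mk]; rw [smul_inter_card, h2]⟩

theorem pq_count {p q : GolayPt} (hpq : p ≠ q) {o : Finset GolayPt} (ho : o ∈ octads)
    (hp : p ∈ o) (hq : q ∈ o) (k : ℕ) :
    {x : Finset GolayPt | x ∈ octads ∧ p ∈ x ∧ q ∈ x ∧ (o ∩ x).card = k}.ncard =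
      (octList.filter (octClass o0 k 3 0)).length := by
  rw [ncard_transfer (a := (p, q, o)) (move_pq hpq ho hp hq)
    (P := fun c x => x ∈ octads ∧ c.1 ∈ x ∧ c.2.1 ∈ x ∧ (c.2.2 ∩ x).card = k)]
  · refine ncard_octClass o0 k 3 0 _ fun m _ => ?_
    rw [two_bits]; simp; tauto
  · rintro σ hσ ⟨a, b, c⟩ y ⟨h1, h2, h3, h4⟩
    exact ⟨smul_mem_octads hσ h1, Finset.smul_mem_smul_finset h2, Finset.smul_mem_smul_finset h3,
      by simp only [Prod.smul_mk]; rw [smul_inter_card, h4]⟩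

theorem x_in_count {x : GolayPt} {o : Finset GolayPt} (ho : o ∈ octads) (hx : x ∈ o) (k : ℕ) :
    {o' : Finset GolayPt | o' ∈ octads ∧ x ∈ o' ∧ (o ∩ o').card = k}.ncard =
      (octList.filter (octClass o0 k 1 0)).length := by
  rw [ncard_transfer (a := (x, o)) (move_x_in ho hx)
    (P := fun c y => y ∈ octads ∧ c.1 ∈ y ∧ (c.2 ∩ y).card = k)]
  · refine ncard_octClass o0 k 1 0 _ fun m _ => ?_
    rw [bit0]; simp; tauto
  · rintro σ hσ ⟨a, c⟩ y ⟨h1, h2, h4⟩
    exact ⟨smul_mem_octads hσ h1, Finset.smul_mem_smul_finset h2,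
      by simp only [Prod.smul_mk]; rw [smul_inter_card, h4]⟩

theorem x_out_count {x : GolayPt} {o : Finset GolayPt} (ho : o ∈ octads) (hx : x ∉ o) (k : ℕ) :
    {o' : Finset GolayPt | o' ∈ octads ∧ x ∉ o' ∧ (o ∩ o').card = k}.ncard =
      (octList.filter (octClass o0 k 0 32)).length := by
  rw [ncard_transfer (a := (x, o)) (move_x_out ho hx)
    (P := fun c y => y ∈ octads ∧ c.1 ∉ y ∧ (c.2 ∩ y).card = k)]
  · refine ncard_octClass o0 k 0 32 _ fun m _ => ?_
    rw [bit5]; simp; tauto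
  · rintro σ hσ ⟨a, c⟩ y ⟨h1, h2, h4⟩
    exact ⟨smul_mem_octads hσ h1, fun hm => h2 ((Finset.smul_mem_smul_finset_iff σ).1 hm),
      by simp only [Prod.smul_mk]; rw [smul_inter_card, h4]⟩

theorem pnq_count {p q : GolayPt} (hpq : p ≠ q) {o : Finset GolayPt} (ho : o ∈ octads)
    (hp : p ∈ o) (hq : q ∉ o) (k : ℕ) :
    {x : Finset GolayPt | (x ∈ octads ∧ p ∈ x ∧ q ∉ x) ∧ (o ∩ x).card = k}.ncard =
      (octList.filter (octClass o0 k 1 32)).length := by
  rw [ncard_transfer (a := (p, q, o)) (move_pnq hpq ho hp hq)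
    (P := fun c x => (x ∈ octads ∧ c.1 ∈ x ∧ c.2.1 ∉ x) ∧ (c.2.2 ∩ x).card = k)]
  · simp only [and_assoc]
    refine ncard_octClass o0 k 1 32 _ fun m _ => ?_
    rw [bit0, bit5]; simp; tauto
  · rintro σ hσ ⟨a, b, c⟩ y ⟨⟨h1, h2, h3⟩, h4⟩
    exact ⟨⟨smul_mem_octads hσ h1, Finset.smul_mem_smul_finset h2,
      fun hm => h3 ((Finset.smul_mem_smul_finset_iff σ).1 hm)⟩,
      by simp only [Prod.smul_mk]; rw [smul_inter_card, h4]⟩

theorem pnq_all_count {p q : GolayPt} (hpq : p ≠ q) :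
    {x : Finset GolayPt | x ∈ octads ∧ p ∈ x ∧ q ∉ x}.ncard = 176 := by
  have hmove : ∃ σ ∈ M24, σ • ((pt 0 : GolayPt), (pt 5 : GolayPt)) = (p, q) := by
    obtain ⟨σ, hσ, h1, h2⟩ := M24_trans_pairs (p := pt 0) (q := pt 5) (by decide) hpq
    exact ⟨σ, hσ, Prod.ext h1 h2⟩
  rw [ncard_transfer (a := (p, q)) hmove (P := fun c x => x ∈ octads ∧ c.1 ∈ x ∧ c.2 ∉ x)]
  · rw [ncard_octads (fun m => m &&& 1 == 1 && m &&& 32 == 0)
      (fun x => pt 0 ∈ x ∧ pt 5 ∉ x) (fun m _ => by
        simp only [Bool.and_eq_true, beq_iff_eq, bit0, bit5])]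
    decide +kernel
  · rintro σ hσ ⟨a, b⟩ y ⟨h1, h2, h3⟩
    exact ⟨smul_mem_octads hσ h1, Finset.smul_mem_smul_finset h2,
      fun hm => h3 ((Finset.smul_mem_smul_finset_iff σ).1 hm)⟩

theorem flag_counts : (octList.filter (octClass o0 2 3 0)).length = 16 ∧
    (octList.filter (octClass o0 4 3 0)).length = 60 ∧
    (octList.filter (octClass o0 2 1 0)).length = 112 ∧
    (octList.filter (octClass o0 4 1 0)).length = 140 ∧
    (octList.filter (octClass o0 0 0 32)).length = 15 ∧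
    (octList.filter (octClass o0 4 0 32)).length = 210 ∧
    (octList.filter (octClass o0 2 0 32)).length = 280 ∧
    (octList.filter (octClass o0 2 1 32)).length = 70 ∧
    (octList.filter (octClass o0 4 1 32)).length = 105 := by
  refine ⟨?_, ?_, ?_, ?_, ?_, ?_, ?_, ?_, ?_⟩ <;> decide +kernel

theorem octad_subset_count {o : Finset GolayPt} (ho : o ∈ octads) {s : Finset GolayPt}
    (hs : s ⊆ o) :
    (s.card = 2 → {o' : Finset GolayPt | o' ∈ octads ∧ o ∩ o' = s}.ncard = 16) ∧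
      (s.card = 4 → {o' : Finset GolayPt | o' ∈ octads ∧ o ∩ o' = s}.ncard = 4) := by
  obtain ⟨σ, hσ, rfl⟩ := M24_trans_octads o0_octad ho
  obtain ⟨m, hm, hme⟩ := exists_mask (σ⁻¹ • s)
  have hse : s = σ • toSet m := by rw [hme, smul_inv_smul]
  subst hse
  have hsub : m &&& o0 = m := (toSet_subset hm).1 (by
    intro x hx
    have := hs (Finset.smul_mem_smul_finset (a := σ) hx)
    exact (Finset.smul_mem_smul_finset_iff σ).1 this)
  have hcount : {o' : Finset GolayPt | o' ∈ octads ∧ σ • toSet o0 ∩ o' = σ • toSet m}.ncard =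
      (octList.filter fun x => o0 &&& x == m).length := by
    rw [ncard_transfer (a₀ := (toSet o0, toSet m)) (a := (σ • toSet o0, σ • toSet m))
      ⟨σ, hσ, rfl⟩ (P := fun c o' => o' ∈ octads ∧ c.1 ∩ o' = c.2)]
    · refine ncard_octads _ _ fun x _ => ?_
      simp only [beq_iff_eq]
      constructor
      · intro h; rw [← toSet_and, h]
      · intro h
        exact eq_of_toSet_eq (lt_of_le_of_lt Nat.and_le_left (by decide)) hm
          (by rw [toSet_and]; exact h)
    · rintro τ hτ ⟨a, b⟩ y ⟨h1, h2⟩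
      refine ⟨smul_mem_octads hτ h1, ?_⟩
      simp only [Prod.smul_mk]
      rw [← Finset.smul_finset_inter, h2]
  have key : ∀ k, k = 2 ∨ k = 4 → ((combs 24 k).all fun m => (m &&& o0 != m) ||
      ((octList.filter fun x => o0 &&& x == m).length == if k = 2 then 16 else 4)) = true := by
    rintro k (rfl | rfl) <;> decide +kernel
  rw [Finset.card_smul_finset, card_toSet, hcount]
  constructor <;>
  · intro hk
    have := List.all_eq_true.1 (key _ (by omega)) m (mem_combs24 hm hk)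
    simpa [hsub] using this

end Cfsg.Agent.Lib.Golay
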