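import Mathlib.Data.Nat.Notation

/-! # Trees for orbits of stabilisers on octads, sextets and trios -/

set_option autoImplicit false

namespace Cfsg.Agent.Lib.Golay

def oBase : List ℕ := [5279]

def sBase : List ℕ := [15, 5264, 622848, 3416064, 4196928, 8536096]

def tBase : List ℕ := [5279, 1009728, 15762208]

def dBase : List ℕ := [340831, 16436384]

def yBase : List ℕ := [7]

def oS35Start : List ℕ := [15, 5264, 622848, 3416064, 4196928, 8536096]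

def oS35Gens : List ℕ := [
  638141974967364299223336856348305799,
  226334193645892258674606073954044972]

def oS35Tree0 : List (ℕ × ℕ) := [
    (0,0), (0,0), (0,0), (1,0), (0,0), (0,0), (0,0), (1,2), (0,0), (1,5),
    (1,2), (1,0), (1,0), (0,0), (0,0), (1,1), (1,6), (0,0), (0,0), (0,0),
    (1,0), (0,0), (1,0), (1,5), (0,0), (1,1), (0,0), (1,1), (1,4), (1,0),
    (0,0), (1,0), (0,0), (1,1)]

def oS35Tree : List (ℕ × ℕ) :=
  oS35Tree0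

def oS840Start : List ℕ := [99, 18048, 45060, 657664, 2162712, 13893632]

def oS840Gens : List ℕ := [
  638141974967364299223336856348305799,
  226334193645892258674606073954044972]

def oS840Tree0 : List (ℕ × ℕ) := [
    (0,0), (0,0), (0,0), (0,0), (0,0), (0,0), (0,0), (0,0), (0,0), (0,0),
    (1,2), (0,0), (1,0), (1,4), (0,0), (1,0), (1,4), (1,0), (0,0), (1,1),
    (0,0), (1,0), (1,6), (0,0), (0,0), (0,0), (0,0), (1,2), (1,0), (1,3),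
    (0,0), (0,0), (1,2), (0,0), (1,0), (1,2), (1,6), (0,0), (0,0), (0,0),
    (1,0), (1,0), (1,0), (0,0), (1,5), (1,0), (0,0), (1,0), (1,5), (0,0),
    (0,0), (0,0), (1,1), (1,3), (0,0), (1,0), (1,5), (0,0), (0,0), (1,0),
    (1,0), (1,3), (0,0), (1,1), (0,0), (0,0), (1,2), (1,4), (0,0), (0,0),
    (0,0), (1,0), (1,3), (1,0), (0,0), (1,4), (1,0), (0,0), (1,1), (0,0),
    (1,0), (1,9), (0,0), (0,0), (0,0), (0,0), (0,0), (1,0), (0,0), (1,0),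
    (1,2), (1,3), (1,2), (0,0), (0,0), (1,4), (0,0), (0,0), (1,1), (0,0),
    (1,1), (0,0), (1,1), (0,0), (1,5), (0,0), (1,1), (0,0), (1,0), (1,6),
    (0,0), (0,0), (0,0), (0,0), (1,2), (1,2), (1,0), (0,0), (0,0), (1,2),
    (0,0), (1,0), (1,8), (0,0), (0,0), (0,0), (0,0), (0,0), (1,2), (1,2),
    (0,0), (1,0), (1,2), (0,0), (1,4), (1,0), (0,0), (0,0), (0,0), (1,2),
    (1,8), (0,0), (0,0), (0,0), (0,0), (1,0), (0,0), (1,0), (1,2), (1,3),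
    (0,0), (1,0), (0,0), (0,0), (1,1), (0,0), (1,3), (0,0), (1,4), (0,0),
    (0,0), (0,0), (1,0), (1,3), (0,0), (1,0), (1,7), (1,0), (0,0), (1,0),
    (0,0), (0,0), (1,7), (0,0), (0,0), (0,0), (0,0), (0,0), (1,1), (1,2),
    (1,0), (1,4), (0,0), (0,0), (1,0), (1,0), (1,3), (1,2), (0,0), (1,1),
    (0,0), (1,1), (1,0), (1,6), (0,0), (0,0), (0,0), (1,1), (1,0), (1,3),
    (0,0), (0,0), (1,2), (0,0), (0,0), (1,1), (1,5), (1,0), (0,0), (1,0),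
    (0,0), (1,1), (1,3), (0,0), (1,0), (1,8), (0,0), (0,0), (0,0), (0,0),
    (0,0), (1,2), (0,0), (1,0), (1,2), (1,4), (0,0), (0,0), (1,0), (1,0),
    (0,0), (1,1), (1,4), (0,0), (0,0), (1,2), (1,3), (0,0), (0,0), (0,0),
    (1,1), (0,0), (1,0), (1,4), (0,0), (0,0), (1,1), (1,2), (1,3), (0,0),
    (1,5), (0,0), (0,0), (0,0), (1,0), (0,0), (1,0), (1,4), (0,0), (0,0),
    (1,2), (1,0), (1,4), (0,0), (0,0), (0,0), (1,0), (1,4), (0,0), (1,1),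
    (0,0), (1,1), (1,0), (1,6), (0,0), (1,0), (0,0), (1,0), (1,2), (1,0),
    (1,9), (0,0), (0,0), (0,0), (0,0), (0,0), (0,0), (0,0), (0,0), (1,2),
    (0,0), (0,0), (1,2), (1,5), (0,0), (1,0), (1,2), (0,0), (0,0), (1,0),
    (0,0), (1,3), (1,0), (1,3), (0,0), (0,0), (1,1), (1,0), (1,3), (1,5),
    (1,0), (0,0), (1,0), (0,0), (1,1), (0,0), (1,0), (1,0), (1,6), (0,0),
    (0,0), (1,1), (0,0), (1,1), (1,3), (0,0), (1,0), (1,7), (0,0), (0,0),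
    (0,0), (0,0), (1,1), (0,0), (0,0), (1,2), (0,0), (1,6), (0,0), (0,0),
    (0,0), (0,0), (0,0), (1,2), (0,0), (1,3), (1,0), (1,0), (1,4), (0,0),
    (1,1), (1,0), (0,0), (1,1), (1,5), (0,0), (0,0), (0,0), (0,0), (1,1),
    (0,0), (1,4), (1,0), (0,0), (1,4), (0,0), (1,6), (0,0), (0,0), (0,0),
    (0,0), (0,0), (0,0), (1,0), (1,2), (0,0), (1,3), (0,0), (1,3), (0,0),
    (1,3), (0,0), (0,0), (0,0), (0,0), (1,1), (1,2), (0,0), (1,1), (0,0),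
    (1,4), (1,0), (1,0), (1,0), (0,0), (1,8), (0,0), (0,0), (0,0), (0,0),
    (0,0), (1,2), (1,2), (0,0), (1,3), (0,0), (0,0), (1,0), (1,2), (0,0),
    (1,3), (0,0), (1,0), (1,2), (0,0), (1,5), (0,0), (0,0), (1,0), (1,0),
    (1,3), (1,0), (0,0), (1,4), (0,0), (0,0), (1,1), (0,0), (0,0), (0,0),
    (1,3), (1,3), (0,0), (1,0), (1,7), (0,0), (0,0), (0,0), (0,0), (1,0),
    (1,2), (0,0), (1,1), (1,3), (0,0), (0,0), (1,2), (1,0), (0,0), (0,0),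
    (1,2), (0,0), (1,6), (1,0), (0,0), (0,0), (1,1), (1,0), (1,0), (0,0),
    (1,5), (0,0), (0,0), (1,6), (0,0), (1,0), (0,0), (0,0), (0,0), (1,3),
    (1,0), (1,4), (0,0), (1,0), (1,0), (0,0), (1,1), (0,0), (1,5), (0,0),
    (1,0), (1,2), (0,0), (1,9), (0,0), (0,0), (0,0), (0,0), (0,0), (0,0),
    (0,0), (1,0), (1,2), (0,0), (1,1), (1,3), (0,0), (0,0), (1,1), (0,0)]

def oS840Tree1 : List (ℕ × ℕ) := [
    (1,1), (1,5), (0,0), (0,0), (0,0), (1,1), (0,0), (1,1), (1,3), (0,0),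
    (0,0), (1,2), (0,0), (1,4), (0,0), (1,0), (0,0), (0,0), (1,4), (0,0),
    (1,1), (1,5), (0,0), (0,0), (1,0), (0,0), (0,0), (1,1), (0,0), (1,0),
    (1,6), (0,0), (1,0), (1,2), (0,0), (0,0), (1,2), (1,0), (1,7), (0,0),
    (0,0), (0,0), (1,1), (0,0), (0,0), (0,0), (0,0), (1,1), (1,3), (0,0),
    (0,0), (1,4), (0,0), (1,0), (0,0), (1,3), (0,0), (1,5), (0,0), (1,0),
    (0,0), (0,0), (1,2), (1,3), (1,3), (0,0), (0,0), (1,1), (0,0), (0,0),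
    (0,0), (1,1), (1,3), (1,3), (0,0), (1,0), (0,0), (1,0), (0,0), (0,0),
    (1,2), (1,3), (0,0), (1,4), (0,0), (1,0), (1,7), (0,0), (0,0), (0,0),
    (0,0), (0,0), (0,0), (0,0), (1,2), (1,0), (1,3), (1,0), (0,0), (1,5),
    (0,0), (0,0), (0,0), (1,0), (1,2), (1,2), (0,0), (1,0), (1,4), (0,0),
    (1,0), (0,0), (1,1), (1,0), (1,4), (1,0), (1,5), (0,0), (0,0), (0,0),
    (0,0), (1,0), (1,0), (1,3), (1,2), (1,2), (0,0), (0,0), (1,0), (1,2),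
    (1,2), (0,0), (0,0), (1,1), (1,0), (1,6), (0,0), (0,0), (0,0), (0,0),
    (1,2), (1,2), (0,0), (1,3), (0,0), (1,5), (0,0), (0,0), (0,0), (0,0),
    (1,1), (0,0), (1,1), (1,0), (1,5), (0,0), (0,0), (1,0), (1,3), (0,0),
    (1,0), (0,0), (1,0), (1,4), (1,0), (1,0), (1,6), (0,0), (0,0), (0,0),
    (0,0), (1,0), (1,4), (0,0), (0,0), (1,1), (0,0), (1,0), (1,2), (1,3),
    (0,0), (1,4), (1,0), (0,0), (1,1), (1,7), (0,0), (0,0), (0,0), (0,0),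
    (0,0), (0,0), (1,0), (0,0), (1,1), (1,3), (0,0), (0,0), (1,0), (1,3),
    (1,0), (1,4), (0,0), (0,0), (1,0), (1,0), (1,3), (1,2), (1,0), (1,4),
    (0,0), (1,1), (0,0), (1,1), (0,0), (1,5), (0,0), (0,0), (0,0), (1,1),
    (1,2), (0,0), (0,0), (1,2), (1,0), (1,4), (0,0), (0,0), (0,0), (0,0),
    (1,1), (1,3), (0,0), (1,3), (0,0), (1,1), (1,0), (1,0), (1,7), (0,0),
    (0,0), (0,0), (1,0), (0,0), (0,0), (1,0), (1,2), (1,4), (0,0), (0,0),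
    (1,2), (0,0), (0,0), (1,0), (1,6), (1,2), (0,0), (0,0), (1,0), (0,0),
    (0,0), (1,4), (0,0), (0,0), (0,0), (1,0), (1,3), (1,2), (0,0), (1,1),
    (1,4), (1,4), (0,0), (0,0), (0,0), (0,0), (0,0), (1,1), (0,0), (1,0),
    (1,0), (1,3), (1,4), (0,0), (1,0), (1,0), (1,3), (0,0), (0,0), (0,0),
    (1,1), (1,0), (1,4), (0,0), (0,0), (1,6), (0,0), (1,0), (0,0), (0,0),
    (0,0), (0,0), (1,1), (1,0), (1,4), (1,2), (0,0), (0,0), (1,5), (0,0),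
    (0,0), (0,0), (1,0), (0,0), (1,0), (1,4), (1,2), (1,0), (0,0), (1,0),
    (1,8), (0,0), (1,0), (0,0), (0,0), (0,0), (0,0), (1,6), (0,0), (1,0),
    (0,0), (0,0), (1,1), (1,0), (1,3), (1,3), (0,0), (1,0), (0,0)]

def oS840Tree : List (ℕ × ℕ) :=
  oS840Tree0 ++ oS840Tree1

def oS896Start : List ℕ := [39, 45120, 786960, 1116288, 6292736, 8536072]

def oS896Gens : List ℕ := [
  638141974967364299223336856348305799,
  226334193645892258674606073954044972]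

def oS896Tree0 : List (ℕ × ℕ) := [
    (0,0), (0,0), (0,0), (0,0), (0,0), (0,0), (0,0), (0,0), (0,0), (0,0),
    (1,2), (0,0), (1,0), (1,4), (1,2), (0,0), (1,0), (1,4), (1,0), (0,0),
    (0,0), (1,0), (1,0), (1,7), (0,0), (0,0), (1,0), (0,0), (0,0), (1,1),
    (0,0), (1,1), (0,0), (0,0), (1,5), (0,0), (0,0), (0,0), (0,0), (1,4),
    (0,0), (0,0), (1,2), (1,5), (0,0), (1,0), (1,0), (0,0), (1,4), (1,0),
    (0,0), (0,0), (1,1), (0,0), (1,0), (1,8), (0,0), (0,0), (1,1), (0,0),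
    (0,0), (1,1), (1,4), (0,0), (0,0), (1,0), (0,0), (1,1), (1,3), (0,0),
    (0,0), (1,1), (1,2), (1,3), (1,0), (0,0), (1,0), (0,0), (1,1), (1,0),
    (1,10), (0,0), (0,0), (0,0), (0,0), (0,0), (1,0), (0,0), (1,3), (0,0),
    (1,1), (1,3), (0,0), (1,3), (0,0), (1,1), (0,0), (0,0), (1,1), (0,0),
    (1,1), (1,3), (0,0), (0,0), (1,1), (1,6), (0,0), (0,0), (1,0), (1,0),
    (1,0), (0,0), (1,5), (1,0), (0,0), (1,1), (1,0), (1,5), (0,0), (0,0),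
    (0,0), (0,0), (1,0), (1,3), (0,0), (0,0), (0,0), (1,1), (1,2), (1,2),
    (1,4), (1,0), (0,0), (1,6), (0,0), (1,0), (0,0), (0,0), (1,1), (1,0),
    (1,0), (1,4), (1,0), (0,0), (1,0), (1,2), (1,0), (0,0), (1,7), (0,0),
    (0,0), (1,1), (1,0), (1,3), (0,0), (1,0), (0,0), (0,0), (1,1), (1,4),
    (1,0), (1,0), (1,8), (0,0), (0,0), (0,0), (0,0), (0,0), (1,0), (0,0),
    (1,0), (1,4), (1,2), (0,0), (1,0), (1,2), (1,0), (0,0), (1,5), (0,0),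
    (0,0), (0,0), (0,0), (0,0), (1,1), (0,0), (1,1), (1,4), (1,2), (0,0),
    (0,0), (1,1), (1,2), (0,0), (0,0), (0,0), (1,6), (1,0), (0,0), (0,0),
    (1,1), (0,0), (1,3), (1,0), (1,6), (1,0), (0,0), (0,0), (1,0), (0,0),
    (0,0), (1,1), (1,5), (0,0), (0,0), (1,0), (1,2), (0,0), (1,0), (1,2),
    (0,0), (0,0), (1,5), (1,0), (1,6), (0,0), (0,0), (0,0), (0,0), (0,0),
    (1,0), (1,2), (1,3), (0,0), (0,0), (1,0), (0,0), (1,1), (1,3), (0,0),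
    (0,0), (1,2), (1,5), (0,0), (0,0), (0,0), (0,0), (0,0), (1,1), (1,0),
    (1,4), (1,0), (0,0), (1,4), (0,0), (0,0), (0,0), (0,0), (1,6), (1,0),
    (1,4), (0,0), (1,0), (1,0), (1,0), (0,0), (1,0), (0,0), (1,1), (1,7),
    (0,0), (1,0), (1,2), (0,0), (1,0), (0,0), (1,1), (1,9), (0,0), (0,0),
    (0,0), (0,0), (0,0), (1,1), (0,0), (0,0), (0,0), (0,0), (0,0), (1,2),
    (1,3), (0,0), (0,0), (0,0), (1,1), (1,5), (1,0), (1,4), (1,0), (0,0),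
    (0,0), (0,0), (1,2), (0,0), (1,0), (1,0), (1,3), (1,6), (0,0), (1,1),
    (0,0), (0,0), (0,0), (0,0), (1,0), (0,0), (1,1), (0,0), (1,1), (1,4),
    (0,0), (0,0), (1,0), (1,2), (1,2), (1,3), (1,2), (1,0), (0,0), (1,1),
    (1,4), (1,0), (1,0), (1,0), (1,7), (0,0), (0,0), (0,0), (0,0), (0,0),
    (1,0), (1,2), (0,0), (0,0), (0,0), (0,0), (1,3), (0,0), (1,7), (0,0),
    (0,0), (0,0), (1,0), (0,0), (1,3), (0,0), (0,0), (0,0), (1,0), (1,2),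
    (1,0), (1,0), (1,4), (0,0), (1,3), (0,0), (1,0), (1,5), (1,0), (1,3),
    (0,0), (0,0), (0,0), (1,1), (1,0), (1,4), (0,0), (1,5), (0,0), (0,0),
    (0,0), (0,0), (0,0), (1,1), (0,0), (1,0), (0,0), (1,1), (1,3), (1,4),
    (0,0), (0,0), (1,0), (1,2), (1,0), (0,0), (0,0), (1,2), (1,4), (0,0),
    (0,0), (0,0), (1,0), (1,2), (1,2), (1,2), (1,4), (0,0), (0,0), (1,1),
    (0,0), (0,0), (1,1), (1,2), (1,0), (1,6), (0,0), (0,0), (0,0), (1,1),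
    (1,0), (1,3), (0,0), (0,0), (1,1), (0,0), (1,1), (1,3), (0,0), (0,0),
    (1,1), (0,0), (1,0), (1,7), (0,0), (1,1), (1,0), (1,0), (0,0), (1,9),
    (0,0), (0,0), (0,0), (1,0), (0,0), (0,0), (1,0), (0,0), (1,3), (0,0),
    (0,0), (1,1), (1,2), (1,0), (1,6), (0,0), (0,0), (1,0), (1,2), (0,0),
    (1,1), (1,0), (1,6), (0,0), (0,0), (1,0), (0,0), (1,1), (0,0), (1,1),
    (1,4), (0,0), (0,0), (0,0), (0,0), (1,1), (1,2), (1,3), (0,0), (0,0),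
    (0,0), (1,2), (0,0), (0,0), (1,9), (0,0), (0,0), (0,0), (0,0), (0,0),
    (1,1), (1,2), (0,0), (1,0), (1,2), (1,3), (0,0), (1,0), (0,0), (0,0)]

def oS896Tree1 : List (ℕ × ℕ) := [
    (1,1), (1,2), (1,3), (0,0), (0,0), (1,1), (0,0), (0,0), (1,1), (1,2),
    (1,6), (0,0), (0,0), (0,0), (0,0), (1,1), (0,0), (1,0), (1,2), (1,3),
    (1,2), (0,0), (1,0), (1,0), (1,3), (1,3), (0,0), (0,0), (0,0), (1,3),
    (0,0), (0,0), (1,0), (1,0), (1,3), (0,0), (1,0), (1,2), (1,3), (1,5),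
    (0,0), (1,0), (0,0), (0,0), (1,0), (1,3), (1,0), (1,4), (0,0), (1,0),
    (1,0), (1,0), (1,10), (0,0), (0,0), (0,0), (0,0), (0,0), (1,0), (0,0),
    (0,0), (0,0), (0,0), (1,2), (1,2), (0,0), (1,0), (1,2), (1,3), (0,0),
    (0,0), (1,1), (1,0), (1,3), (1,0), (1,5), (0,0), (1,0), (1,2), (0,0),
    (0,0), (0,0), (0,0), (1,2), (1,2), (0,0), (0,0), (0,0), (1,1), (1,5),
    (1,0), (1,0), (1,6), (0,0), (0,0), (0,0), (0,0), (1,1), (1,2), (1,2),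
    (1,2), (1,0), (0,0), (0,0), (1,1), (0,0), (1,0), (1,4), (0,0), (1,6),
    (0,0), (0,0), (0,0), (0,0), (1,1), (0,0), (0,0), (0,0), (1,5), (1,0),
    (0,0), (1,1), (1,0), (1,5), (0,0), (0,0), (1,0), (1,0), (1,0), (1,5),
    (1,0), (1,0), (1,5), (1,0), (1,0), (0,0), (1,1), (0,0), (1,0), (1,8),
    (0,0), (0,0), (0,0), (0,0), (1,0), (0,0), (0,0), (1,2), (0,0), (0,0),
    (1,1), (1,5), (0,0), (0,0), (0,0), (0,0), (1,1), (1,3), (1,0), (1,3),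
    (0,0), (1,0), (1,2), (0,0), (1,5), (0,0), (0,0), (0,0), (1,2), (1,0),
    (1,3), (0,0), (1,0), (1,0), (1,3), (1,4), (0,0), (0,0), (0,0), (1,1),
    (0,0), (1,0), (1,2), (1,3), (0,0), (1,0), (1,2), (0,0), (1,0), (1,0),
    (1,6), (1,0), (0,0), (0,0), (1,6), (1,0), (1,0), (0,0), (1,0), (1,0),
    (1,8), (0,0), (0,0), (0,0), (0,0), (0,0), (0,0), (0,0), (1,1), (1,2),
    (1,2), (1,2), (1,2), (0,0), (0,0), (0,0), (1,0), (1,2), (0,0), (1,0),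
    (0,0), (1,1), (1,0), (1,4), (0,0), (0,0), (1,2), (1,4), (0,0), (0,0),
    (1,0), (1,0), (1,3), (1,2), (0,0), (0,0), (1,0), (0,0), (1,1), (1,4),
    (1,4), (0,0), (0,0), (1,1), (1,2), (0,0), (1,1), (1,5), (0,0), (0,0),
    (0,0), (0,0), (0,0), (1,3), (0,0), (0,0), (0,0), (0,0), (1,1), (1,3),
    (0,0), (1,1), (1,5), (0,0), (1,0), (0,0), (1,3), (0,0), (1,0), (1,2),
    (0,0), (0,0), (0,0), (1,9), (0,0), (0,0), (0,0), (0,0), (0,0), (0,0),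
    (0,0), (1,0), (0,0), (1,6), (0,0), (1,1), (1,3), (0,0), (0,0), (1,1),
    (0,0), (0,0), (1,0), (1,3), (0,0), (0,0), (0,0), (1,1), (1,2), (1,2),
    (1,0), (1,5), (0,0), (0,0), (1,0), (1,2), (0,0), (0,0), (1,1), (1,0),
    (1,0), (1,4), (0,0), (1,1), (1,4), (0,0), (0,0), (1,1), (1,2), (1,0),
    (1,0), (1,0), (1,8), (0,0), (0,0), (0,0), (0,0), (0,0), (1,2), (1,2),
    (1,0), (0,0), (1,1), (1,0), (1,5), (1,0), (0,0), (0,0), (0,0), (1,3),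
    (0,0), (1,5), (0,0), (0,0), (0,0), (0,0), (0,0), (1,1), (1,2), (1,2),
    (0,0), (0,0), (0,0), (1,2), (1,2), (1,3), (0,0), (0,0), (0,0), (1,1),
    (1,0), (1,3), (0,0), (1,0), (1,2), (1,5), (0,0), (1,0), (0,0), (1,3),
    (0,0), (1,0), (0,0), (1,1), (1,3), (0,0), (1,1), (1,7), (0,0), (1,0),
    (0,0), (1,0), (1,0), (1,5), (0,0), (1,0), (0,0), (1,1), (1,3), (0,0),
    (1,1), (0,0), (1,0), (1,0), (1,0)]

def oS896Tree : List (ℕ × ℕ) :=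
  oS896Tree0 ++ oS896Tree1

def oT15Start : List ℕ := [5279, 1009728, 15762208]

def oT15Gens : List ℕ := [
  638141974967364299223336856348305799,
  226334193645892258674606073954044972]

def oT15Tree0 : List (ℕ × ℕ) := [
    (0,0), (0,0), (0,0), (1,1), (0,0), (0,0), (1,0), (1,2), (1,5), (0,0),
    (1,0), (0,0), (0,0), (1,0)]

def oT15Tree : List (ℕ × ℕ) :=
  oT15Tree0

def oT420Start : List ℕ := [10558, 1250945, 15515712]

def oT420Gens : List ℕ := [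
  638141974967364299223336856348305799,
  226334193645892258674606073954044972]

def oT420Tree0 : List (ℕ × ℕ) := [
    (0,0), (0,0), (1,0), (0,0), (0,0), (0,0), (0,0), (0,0), (1,0), (0,0),
    (1,1), (0,0), (1,4), (0,0), (0,0), (0,0), (1,2), (0,0), (1,3), (0,0),
    (0,0), (1,5), (0,0), (0,0), (0,0), (0,0), (1,3), (1,0), (1,3), (0,0),
    (0,0), (1,1), (1,2), (1,5), (0,0), (0,0), (0,0), (0,0), (0,0), (1,3),
    (1,0), (1,3), (0,0), (1,1), (0,0), (1,0), (1,0), (1,3), (1,4), (0,0),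
    (0,0), (0,0), (1,0), (1,0), (1,5), (0,0), (0,0), (0,0), (1,7), (0,0),
    (1,0), (0,0), (0,0), (1,1), (0,0), (0,0), (1,2), (1,0), (1,4), (0,0),
    (0,0), (1,0), (1,3), (0,0), (1,1), (0,0), (1,1), (1,9), (0,0), (0,0),
    (0,0), (1,0), (0,0), (0,0), (1,1), (1,0), (0,0), (1,1), (1,4), (1,3),
    (1,0), (0,0), (0,0), (1,1), (0,0), (1,3), (0,0), (1,0), (1,0), (1,7),
    (0,0), (0,0), (1,0), (0,0), (1,3), (1,0), (0,0), (0,0), (0,0), (1,3),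
    (0,0), (0,0), (1,0), (1,7), (0,0), (0,0), (1,0), (0,0), (1,0), (1,4),
    (0,0), (0,0), (1,4), (0,0), (1,0), (0,0), (1,3), (1,5), (0,0), (0,0),
    (1,0), (1,2), (0,0), (0,0), (0,0), (0,0), (1,0), (0,0), (1,3), (1,2),
    (1,2), (0,0), (0,0), (1,4), (0,0), (0,0), (1,0), (1,0), (1,3), (1,0),
    (1,3), (1,7), (0,0), (0,0), (0,0), (0,0), (0,0), (0,0), (0,0), (1,0),
    (0,0), (1,1), (1,3), (0,0), (0,0), (1,5), (0,0), (1,0), (0,0), (0,0),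
    (1,0), (1,5), (0,0), (0,0), (0,0), (1,0), (1,2), (1,2), (0,0), (1,0),
    (1,2), (1,3), (1,0), (1,5), (0,0), (0,0), (0,0), (0,0), (1,1), (1,3),
    (1,2), (0,0), (0,0), (0,0), (1,0), (1,2), (0,0), (1,0), (1,2), (1,3),
    (0,0), (0,0), (1,2), (1,6), (1,0), (0,0), (1,0), (0,0), (0,0), (0,0),
    (1,1), (1,2), (1,4), (1,0), (0,0), (1,6), (0,0), (0,0), (0,0), (0,0),
    (0,0), (1,3), (1,0), (0,0), (1,0), (0,0), (1,6), (0,0), (1,1), (0,0),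
    (0,0), (1,0), (1,0), (1,3), (0,0), (1,1), (0,0), (1,1), (1,4), (0,0),
    (1,0), (1,0), (1,7), (0,0), (0,0), (0,0), (0,0), (0,0), (1,1), (0,0),
    (1,1), (1,3), (0,0), (1,1), (1,0), (0,0), (1,1), (1,5), (0,0), (0,0),
    (1,2), (1,0), (1,0), (1,5), (0,0), (0,0), (0,0), (0,0), (1,0), (1,4),
    (0,0), (0,0), (1,1), (1,2), (1,0), (1,4), (0,0), (0,0), (1,0), (0,0),
    (1,4), (0,0), (1,0), (1,2), (0,0), (1,6), (0,0), (0,0), (1,0), (0,0),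
    (0,0), (1,2), (1,0), (1,4), (0,0), (0,0), (0,0), (1,1), (1,0), (1,3),
    (0,0), (0,0), (1,2), (1,5), (0,0), (1,1), (0,0), (1,7), (0,0), (0,0),
    (0,0), (0,0), (0,0), (1,0), (1,3), (0,0), (0,0), (0,0), (1,1), (1,2),
    (1,0), (1,3), (0,0), (0,0), (1,0), (0,0), (1,3), (0,0), (0,0), (1,8),
    (0,0), (0,0), (0,0), (1,0), (0,0), (0,0), (1,1), (0,0), (1,3), (1,0),
    (1,4), (0,0), (0,0), (1,1), (0,0), (1,3), (1,3), (0,0), (0,0), (0,0),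
    (0,0), (1,4), (0,0), (0,0), (1,1), (1,0), (1,3), (0,0), (0,0), (1,6),
    (0,0), (1,0), (1,0), (0,0), (1,4), (0,0), (0,0), (1,1), (0,0), (0,0),
    (1,8), (0,0), (0,0), (0,0), (1,0), (0,0), (1,1), (0,0), (1,1), (0,0),
    (1,0), (1,6), (0,0), (0,0), (0,0), (0,0), (1,4), (0,0), (0,0), (1,1),
    (0,0), (1,0), (1,4), (0,0), (1,5), (0,0), (0,0), (1,0), (0,0), (1,1),
    (1,3), (1,0), (0,0), (1,0), (1,5), (0,0), (0,0), (1,0), (1,2), (1,0),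
    (1,3), (1,4), (1,0), (0,0), (1,1), (0,0), (1,0), (1,0), (1,0)]

def oT420Tree : List (ℕ × ℕ) :=
  oT420Tree0

def oT3360Start : List ℕ := [10558, 902657, 15864000]

def oT3360Gens : List ℕ := [
  638141974967364299223336856348305799,
  226334193645892258674606073954044972]

def oT3360Tree0 : List (ℕ × ℕ) := [
    (0,0), (0,0), (0,0), (0,0), (0,0), (0,0), (0,0), (0,0), (0,0), (0,0),
    (1,2), (0,0), (1,0), (0,0), (1,0), (1,2), (1,3), (0,0), (1,0), (1,0),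
    (1,7), (0,0), (0,0), (1,1), (0,0), (0,0), (1,2), (0,0), (1,4), (0,0),
    (0,0), (1,1), (1,0), (1,6), (0,0), (1,0), (0,0), (0,0), (0,0), (0,0),
    (1,0), (0,0), (1,5), (1,2), (0,0), (0,0), (1,1), (1,0), (1,6), (0,0),
    (1,0), (0,0), (0,0), (0,0), (1,0), (1,3), (0,0), (1,3), (0,0), (1,4),
    (0,0), (0,0), (0,0), (0,0), (1,3), (0,0), (0,0), (1,2), (0,0), (0,0),
    (1,1), (1,5), (1,0), (0,0), (1,1), (1,7), (0,0), (0,0), (0,0), (0,0),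
    (0,0), (0,0), (1,0), (1,2), (0,0), (1,3), (0,0), (0,0), (1,0), (1,5),
    (1,0), (1,0), (0,0), (0,0), (1,0), (1,8), (0,0), (0,0), (1,0), (1,2),
    (0,0), (0,0), (1,2), (0,0), (0,0), (1,0), (1,3), (1,4), (0,0), (0,0),
    (0,0), (0,0), (1,0), (1,2), (0,0), (1,0), (1,5), (0,0), (0,0), (1,0),
    (1,2), (0,0), (1,3), (1,6), (0,0), (0,0), (0,0), (0,0), (0,0), (0,0),
    (1,1), (1,2), (1,0), (0,0), (1,1), (0,0), (1,5), (0,0), (1,1), (0,0),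
    (1,0), (1,5), (0,0), (1,1), (0,0), (0,0), (1,0), (1,6), (0,0), (0,0),
    (1,1), (0,0), (1,0), (1,2), (0,0), (0,0), (0,0), (1,3), (1,0), (0,0),
    (1,6), (0,0), (0,0), (0,0), (1,1), (1,2), (0,0), (0,0), (1,1), (1,2),
    (1,3), (1,0), (0,0), (1,0), (1,2), (0,0), (1,1), (1,10), (0,0), (0,0),
    (0,0), (0,0), (0,0), (1,0), (0,0), (1,0), (1,2), (1,0), (1,4), (0,0),
    (1,1), (0,0), (0,0), (1,1), (0,0), (0,0), (1,4), (1,0), (1,5), (0,0),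
    (0,0), (1,0), (1,2), (0,0), (0,0), (0,0), (1,1), (1,2), (1,2), (0,0),
    (1,0), (1,0), (1,3), (0,0), (1,5), (0,0), (0,0), (1,0), (0,0), (0,0),
    (1,4), (1,0), (1,3), (1,0), (1,0), (1,6), (0,0), (1,0), (0,0), (1,0),
    (1,0), (1,0), (1,4), (0,0), (0,0), (1,5), (0,0), (0,0), (0,0), (0,0),
    (1,1), (0,0), (1,5), (1,0), (0,0), (1,0), (0,0), (1,1), (1,8), (0,0),
    (1,0), (0,0), (0,0), (0,0), (1,0), (1,0), (0,0), (1,4), (0,0), (0,0),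
    (0,0), (1,1), (1,2), (1,4), (1,0), (1,0), (1,4), (0,0), (0,0), (0,0),
    (1,0), (1,3), (0,0), (1,3), (1,4), (0,0), (0,0), (0,0), (0,0), (0,0),
    (1,1), (0,0), (1,3), (0,0), (0,0), (1,0), (1,2), (1,0), (1,3), (1,4),
    (0,0), (0,0), (0,0), (0,0), (1,1), (1,3), (1,0), (1,3), (0,0), (1,1),
    (1,0), (0,0), (1,1), (1,6), (0,0), (0,0), (1,0), (0,0), (0,0), (1,4),
    (0,0), (0,0), (0,0), (1,1), (1,0), (0,0), (1,1), (1,4), (1,0), (0,0),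
    (1,1), (1,4), (1,0), (1,4), (0,0), (1,0), (1,2), (0,0), (1,1), (1,7),
    (0,0), (0,0), (1,0), (0,0), (0,0), (0,0), (1,3), (0,0), (0,0), (1,1),
    (0,0), (1,0), (1,2), (0,0), (0,0), (1,2), (1,0), (1,5), (0,0), (0,0),
    (0,0), (0,0), (1,0), (1,0), (1,5), (0,0), (0,0), (0,0), (1,2), (1,0),
    (1,3), (1,0), (1,4), (1,0), (1,0), (1,0), (1,8), (0,0), (0,0), (0,0),
    (0,0), (0,0), (1,2), (0,0), (1,0), (1,2), (1,0), (0,0), (1,1), (1,5),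
    (0,0), (0,0), (1,0), (1,2), (0,0), (1,1), (1,3), (0,0), (1,1), (0,0),
    (1,0), (1,2), (1,5), (0,0), (0,0), (0,0), (1,0), (1,2), (1,0), (1,4),
    (1,0), (0,0), (1,1), (0,0), (1,1), (1,0), (1,0), (1,8), (0,0), (1,0),
    (0,0), (1,0), (0,0), (1,3), (0,0), (0,0), (0,0), (1,3), (0,0), (1,1),
    (1,5), (0,0), (0,0), (0,0), (1,0), (1,0), (1,3), (0,0), (1,3), (1,2),
    (0,0), (1,1), (0,0), (1,0), (0,0), (1,3), (1,0), (0,0), (1,9), (0,0),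
    (0,0), (0,0), (1,0), (0,0), (1,1), (0,0), (1,0), (0,0), (1,0), (1,7),
    (0,0), (0,0), (0,0), (0,0), (1,3), (0,0), (1,0), (0,0), (1,1), (1,3),
    (0,0), (0,0), (0,0), (1,2), (1,5), (0,0), (0,0), (0,0), (0,0), (1,1),
    (1,3), (0,0), (1,1), (1,0), (0,0), (1,5), (0,0), (0,0), (1,0), (1,2),
    (1,6), (0,0), (0,0), (0,0), (0,0), (1,0), (1,0), (1,3), (1,0), (1,3),
    (1,2), (0,0), (0,0), (0,0), (1,2), (1,0), (0,0), (0,0), (1,5), (1,3)]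

def oT3360Tree1 : List (ℕ × ℕ) := [
    (0,0), (0,0), (1,0), (1,2), (0,0), (0,0), (1,1), (0,0), (1,3), (1,3),
    (0,0), (0,0), (1,0), (1,7), (0,0), (1,0), (0,0), (0,0), (0,0), (1,2),
    (0,0), (0,0), (1,1), (1,2), (1,3), (0,0), (1,0), (1,0), (1,6), (0,0),
    (1,1), (0,0), (1,0), (0,0), (0,0), (1,0), (1,3), (1,0), (1,11), (0,0),
    (0,0), (0,0), (0,0), (0,0), (1,0), (0,0), (1,0), (0,0), (1,0), (1,2),
    (0,0), (1,1), (1,4), (0,0), (1,0), (0,0), (0,0), (1,0), (1,3), (1,0),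
    (1,4), (0,0), (0,0), (1,0), (1,2), (1,6), (0,0), (0,0), (0,0), (0,0),
    (0,0), (0,0), (1,3), (1,2), (1,0), (1,3), (0,0), (1,0), (0,0), (1,1),
    (1,3), (0,0), (1,0), (1,2), (0,0), (1,1), (1,0), (1,6), (0,0), (0,0),
    (1,0), (1,2), (0,0), (1,0), (1,4), (0,0), (0,0), (1,0), (0,0), (1,3),
    (1,6), (0,0), (0,0), (0,0), (0,0), (1,0), (1,0), (1,3), (0,0), (0,0),
    (1,2), (0,0), (1,4), (0,0), (0,0), (1,0), (1,2), (0,0), (1,3), (0,0),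
    (1,0), (0,0), (1,6), (0,0), (0,0), (0,0), (1,0), (1,2), (1,0), (1,3),
    (0,0), (0,0), (1,2), (1,3), (0,0), (1,0), (1,0), (1,0), (1,4), (1,4),
    (0,0), (0,0), (0,0), (0,0), (0,0), (1,1), (1,4), (0,0), (0,0), (1,0),
    (0,0), (1,3), (1,2), (1,3), (0,0), (0,0), (1,1), (0,0), (1,0), (0,0),
    (1,1), (1,0), (1,4), (1,8), (0,0), (0,0), (0,0), (0,0), (0,0), (0,0),
    (1,1), (1,0), (1,3), (1,2), (0,0), (0,0), (0,0), (0,0), (1,2), (1,0),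
    (1,3), (0,0), (1,0), (1,4), (0,0), (0,0), (1,1), (1,2), (0,0), (1,1),
    (1,5), (0,0), (0,0), (0,0), (1,0), (0,0), (1,1), (1,3), (1,0), (1,0),
    (1,4), (1,2), (1,0), (0,0), (0,0), (1,1), (0,0), (1,0), (1,2), (1,7),
    (0,0), (0,0), (0,0), (1,0), (0,0), (0,0), (1,4), (0,0), (0,0), (0,0),
    (1,0), (1,4), (1,3), (1,0), (1,0), (1,0), (1,5), (0,0), (0,0), (0,0),
    (0,0), (0,0), (1,3), (0,0), (1,0), (1,4), (1,0), (0,0), (1,0), (1,2),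
    (0,0), (1,5), (0,0), (0,0), (1,1), (1,0), (0,0), (1,0), (1,0), (1,6),
    (0,0), (1,1), (1,0), (0,0), (1,8), (0,0), (0,0), (0,0), (0,0), (0,0),
    (1,1), (0,0), (0,0), (1,1), (0,0), (1,5), (0,0), (0,0), (0,0), (1,2),
    (0,0), (1,0), (1,4), (0,0), (1,0), (1,2), (0,0), (0,0), (1,0), (1,7),
    (0,0), (0,0), (0,0), (0,0), (1,3), (0,0), (0,0), (0,0), (1,2), (1,0),
    (1,5), (1,0), (1,4), (0,0), (0,0), (1,0), (1,0), (1,0), (1,5), (1,6),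
    (0,0), (0,0), (0,0), (0,0), (0,0), (0,0), (0,0), (1,1), (0,0), (1,1),
    (1,3), (1,0), (1,0), (1,4), (0,0), (0,0), (1,0), (1,0), (0,0), (1,1),
    (1,4), (0,0), (1,0), (1,2), (1,3), (0,0), (0,0), (0,0), (1,0), (1,3),
    (1,6), (0,0), (0,0), (0,0), (0,0), (0,0), (1,3), (0,0), (1,0), (1,0),
    (1,0), (0,0), (1,5), (1,3), (1,0), (0,0), (0,0), (0,0), (1,2), (0,0),
    (1,1), (1,3), (1,4), (0,0), (1,1), (0,0), (0,0), (0,0), (0,0), (1,0),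
    (1,3), (1,2), (1,0), (0,0), (1,1), (1,4), (0,0), (1,1), (0,0), (1,7),
    (0,0), (0,0), (0,0), (0,0), (0,0), (0,0), (0,0), (1,4), (1,0), (0,0),
    (1,0), (1,0), (0,0), (1,7), (0,0), (0,0), (0,0), (0,0), (1,1), (1,0),
    (1,3), (1,0), (0,0), (1,0), (0,0), (1,3), (1,5), (0,0), (0,0), (0,0),
    (1,1), (0,0), (1,3), (0,0), (1,3), (0,0), (0,0), (0,0), (1,3), (1,5),
    (0,0), (0,0), (0,0), (0,0), (1,1), (0,0), (1,0), (1,4), (0,0), (1,1),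
    (0,0), (0,0), (1,1), (0,0), (1,3), (1,4), (0,0), (1,3), (0,0), (0,0),
    (1,1), (1,0), (0,0), (1,4), (1,0), (0,0), (1,6), (0,0), (0,0), (0,0),
    (1,0), (0,0), (0,0), (1,1), (1,0), (1,5), (0,0), (0,0), (1,2), (1,0),
    (1,5), (0,0), (0,0), (1,1), (0,0), (0,0), (0,0), (1,2), (0,0), (1,0),
    (1,4), (0,0), (0,0), (0,0), (1,2), (1,0), (1,6), (0,0), (1,1), (0,0),
    (1,0), (1,0), (1,9), (0,0), (0,0), (0,0), (0,0), (0,0), (0,0), (0,0),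
    (1,2), (0,0), (0,0), (1,1), (1,2), (0,0), (1,5), (0,0), (1,1), (0,0),
    (1,1), (0,0), (0,0), (1,2), (1,5), (0,0), (0,0), (0,0), (0,0), (1,0)]

def oT3360Tree2 : List (ℕ × ℕ) := [
    (1,0), (0,0), (1,4), (0,0), (0,0), (1,4), (0,0), (1,3), (0,0), (0,0),
    (0,0), (1,2), (1,2), (1,0), (1,4), (0,0), (0,0), (0,0), (0,0), (1,0),
    (1,0), (1,4), (0,0), (1,1), (1,0), (1,4), (0,0), (1,0), (0,0), (1,1),
    (1,5), (1,0), (1,0), (0,0), (1,7), (0,0), (0,0), (0,0), (0,0), (1,1),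
    (0,0), (0,0), (1,1), (0,0), (1,3), (0,0), (1,4), (1,2), (1,0), (0,0),
    (0,0), (0,0), (1,0), (1,3), (1,0), (1,6), (0,0), (0,0), (0,0), (1,0),
    (0,0), (0,0), (1,6), (1,0), (0,0), (1,6), (0,0), (1,0), (0,0), (0,0),
    (0,0), (0,0), (1,0), (1,0), (1,3), (1,2), (1,2), (1,0), (0,0), (1,0),
    (1,2), (1,4), (0,0), (0,0), (1,0), (1,2), (0,0), (0,0), (0,0), (1,1),
    (1,3), (0,0), (1,1), (1,4), (0,0), (0,0), (0,0), (1,1), (1,7), (0,0),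
    (1,0), (0,0), (1,1), (0,0), (0,0), (0,0), (1,6), (0,0), (1,0), (1,0),
    (1,0), (0,0), (1,5), (0,0), (1,0), (1,0), (0,0), (0,0), (1,13), (0,0),
    (0,0), (0,0), (0,0), (0,0), (0,0), (0,0), (1,0), (1,2), (0,0), (0,0),
    (1,0), (1,2), (1,0), (1,6), (0,0), (0,0), (0,0), (0,0), (1,0), (1,2),
    (1,2), (0,0), (0,0), (1,2), (0,0), (0,0), (0,0), (1,2), (1,5), (0,0),
    (0,0), (0,0), (1,0), (1,3), (1,4), (0,0), (0,0), (1,2), (0,0), (1,0),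
    (0,0), (1,3), (1,0), (1,6), (0,0), (0,0), (0,0), (0,0), (1,0), (0,0),
    (1,4), (0,0), (0,0), (1,1), (0,0), (1,1), (0,0), (0,0), (0,0), (1,6),
    (0,0), (0,0), (1,1), (0,0), (0,0), (1,2), (1,3), (1,4), (0,0), (0,0),
    (0,0), (0,0), (0,0), (1,0), (1,3), (1,0), (1,0), (1,4), (1,0), (0,0),
    (1,1), (1,4), (0,0), (0,0), (0,0), (1,0), (1,0), (1,3), (1,3), (1,0),
    (1,4), (0,0), (0,0), (1,0), (1,2), (0,0), (0,0), (1,1), (1,0), (1,5),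
    (0,0), (0,0), (1,2), (0,0), (1,6), (0,0), (0,0), (0,0), (0,0), (1,3),
    (0,0), (1,1), (1,3), (0,0), (0,0), (1,0), (1,3), (0,0), (1,0), (0,0),
    (1,0), (1,0), (1,5), (1,6), (0,0), (0,0), (0,0), (1,0), (0,0), (1,0),
    (0,0), (1,1), (1,0), (1,4), (1,3), (1,0), (0,0), (0,0), (1,0), (0,0),
    (1,3), (0,0), (0,0), (0,0), (1,2), (1,2), (1,3), (0,0), (0,0), (1,1),
    (1,0), (1,7), (0,0), (0,0), (0,0), (0,0), (0,0), (1,1), (0,0), (1,1),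
    (1,0), (1,4), (0,0), (0,0), (1,1), (1,2), (1,0), (1,6), (0,0), (1,0),
    (0,0), (0,0), (1,0), (1,2), (0,0), (0,0), (0,0), (1,3), (1,3), (1,0),
    (1,0), (1,0), (1,6), (0,0), (0,0), (1,0), (0,0), (1,1), (1,3), (0,0),
    (0,0), (1,1), (1,0), (1,5), (1,0), (0,0), (1,0), (1,2), (1,7), (0,0),
    (0,0), (0,0), (0,0), (1,0), (0,0), (1,3), (1,3), (0,0), (0,0), (1,0),
    (0,0), (0,0), (1,2), (1,0), (1,4), (1,2), (1,0), (0,0), (0,0), (1,1),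
    (0,0), (1,3), (1,0), (1,6), (0,0), (0,0), (1,0), (0,0), (1,0), (1,0),
    (0,0), (1,6), (1,0), (0,0), (1,1), (1,4), (0,0), (1,0), (0,0), (0,0),
    (1,0), (1,0), (1,3), (1,4), (1,6), (0,0), (0,0), (1,0), (0,0), (1,0),
    (0,0), (0,0), (0,0), (0,0), (1,4), (0,0), (0,0), (0,0), (1,1), (1,0),
    (0,0), (1,4), (1,0), (1,3), (0,0), (1,5), (0,0), (0,0), (0,0), (1,0),
    (1,2), (0,0), (1,1), (1,3), (0,0), (0,0), (1,0), (1,2), (0,0), (1,3),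
    (1,3), (0,0), (1,0), (1,0), (1,0), (1,8), (0,0), (0,0), (0,0), (0,0),
    (0,0), (1,0), (0,0), (1,0), (1,4), (0,0), (0,0), (1,2), (0,0), (1,4),
    (0,0), (1,0), (1,6), (1,0), (0,0), (0,0), (0,0), (0,0), (1,2), (0,0),
    (1,3), (0,0), (0,0), (1,4), (1,0), (1,6), (0,0), (0,0), (0,0), (0,0),
    (0,0), (1,0), (1,2), (1,2), (0,0), (0,0), (1,1), (1,0), (1,5), (0,0),
    (0,0), (1,1), (0,0), (1,1), (0,0), (1,6), (0,0), (0,0), (0,0), (0,0),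
    (0,0), (1,1), (0,0), (1,5), (0,0), (0,0), (1,0), (1,3), (1,3), (0,0),
    (1,0), (0,0), (0,0), (1,1), (1,0), (1,5), (0,0), (0,0), (1,1), (1,0),
    (1,3), (0,0), (1,0), (1,2), (0,0), (1,7), (0,0), (0,0), (0,0), (0,0),
    (0,0), (1,1), (0,0), (1,0), (1,2), (1,0), (1,4), (1,0), (1,3), (0,0)]

def oT3360Tree3 : List (ℕ × ℕ) := [
    (1,0), (0,0), (1,1), (1,3), (1,0), (1,4), (0,0), (0,0), (1,1), (1,0),
    (1,3), (0,0), (0,0), (0,0), (1,2), (1,0), (1,3), (1,0), (1,5), (0,0),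
    (1,0), (0,0), (0,0), (1,0), (1,2), (1,0), (0,0), (0,0), (1,12), (0,0),
    (0,0), (1,0), (0,0), (0,0), (0,0), (0,0), (0,0), (1,1), (0,0), (1,1),
    (1,3), (0,0), (0,0), (0,0), (1,0), (1,4), (0,0), (0,0), (1,6), (0,0),
    (0,0), (0,0), (0,0), (0,0), (1,3), (1,2), (0,0), (0,0), (1,0), (1,3),
    (0,0), (0,0), (1,0), (1,0), (1,4), (0,0), (1,0), (1,2), (1,5), (0,0),
    (0,0), (0,0), (0,0), (1,1), (1,2), (0,0), (1,1), (0,0), (1,4), (0,0),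
    (1,3), (0,0), (0,0), (1,2), (0,0), (1,6), (0,0), (0,0), (0,0), (0,0),
    (1,1), (0,0), (0,0), (0,0), (1,1), (1,2), (1,0), (1,3), (1,3), (0,0),
    (1,0), (0,0), (1,1), (1,3), (1,4), (0,0), (0,0), (0,0), (0,0), (0,0),
    (1,2), (0,0), (1,4), (0,0), (0,0), (0,0), (1,1), (1,2), (1,0), (1,5),
    (0,0), (1,1), (0,0), (1,0), (1,8), (0,0), (0,0), (0,0), (0,0), (1,0),
    (0,0), (0,0), (0,0), (1,2), (1,2), (1,0), (1,5), (1,0), (0,0), (1,0),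
    (0,0), (1,1), (1,3), (1,4), (0,0), (0,0), (0,0), (0,0), (1,2), (1,0),
    (1,3), (0,0), (1,1), (0,0), (1,1), (0,0), (0,0), (1,0), (1,7), (0,0),
    (0,0), (0,0), (1,0), (0,0), (1,1), (1,3), (1,0), (1,3), (1,2), (0,0),
    (0,0), (0,0), (1,0), (1,2), (1,0), (1,0), (1,4), (1,6), (0,0), (0,0),
    (0,0), (0,0), (1,0), (0,0), (1,0), (1,4), (0,0), (1,1), (1,0), (1,0),
    (1,5), (0,0), (0,0), (1,0), (0,0), (1,3), (0,0), (1,1), (0,0), (0,0),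
    (1,1), (1,5), (0,0), (0,0), (0,0), (0,0), (1,3), (1,0), (1,6), (0,0),
    (0,0), (0,0), (1,0), (1,2), (1,3), (1,0), (0,0), (1,0), (1,0), (1,3),
    (0,0), (1,0), (1,7), (0,0), (0,0), (1,0), (0,0), (1,1), (1,3), (0,0),
    (0,0), (1,1), (1,0), (1,9), (0,0), (0,0), (0,0), (0,0), (0,0), (0,0),
    (1,0), (0,0), (1,4), (1,0), (1,3), (0,0), (1,0), (1,0), (1,0), (1,6),
    (0,0), (1,0), (0,0), (1,0), (0,0), (0,0), (1,2), (0,0), (1,6), (1,0),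
    (0,0), (0,0), (1,1), (1,2), (1,0), (1,6), (0,0), (0,0), (0,0), (0,0),
    (1,2), (0,0), (0,0), (1,1), (0,0), (1,1), (1,3), (0,0), (0,0), (0,0),
    (1,2), (0,0), (0,0), (1,4), (0,0), (0,0), (1,1), (1,2), (1,5), (0,0),
    (0,0), (0,0), (0,0), (1,0), (0,0), (1,0), (1,4), (1,0), (1,4), (0,0),
    (0,0), (0,0), (0,0), (1,6), (0,0), (1,0), (0,0), (1,6), (1,0), (0,0),
    (0,0), (1,0), (0,0), (1,3), (1,2), (0,0), (1,0), (1,2), (0,0), (1,0),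
    (0,0), (1,0), (1,2), (1,9), (0,0), (1,0), (0,0), (0,0), (0,0), (0,0),
    (0,0), (1,0), (1,2), (0,0), (1,0), (1,2), (1,0), (1,6), (0,0), (0,0),
    (0,0), (1,1), (1,3), (1,0), (1,4), (0,0), (1,0), (0,0), (1,0), (0,0),
    (0,0), (1,6), (1,4), (0,0), (1,0), (0,0), (0,0), (0,0), (1,2), (1,0),
    (1,0), (0,0), (1,5), (1,0), (0,0), (0,0), (1,1), (1,6), (0,0), (1,0),
    (1,2), (0,0), (1,9), (0,0), (0,0), (0,0), (0,0), (0,0), (0,0), (0,0),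
    (0,0), (0,0), (1,1), (1,0), (0,0), (1,1), (0,0), (1,5), (1,0), (0,0),
    (0,0), (1,5), (0,0), (0,0), (1,1), (1,0), (1,0), (1,4), (1,0), (0,0),
    (1,1), (1,5), (0,0), (1,0), (0,0), (0,0), (0,0), (1,2), (0,0), (1,1),
    (1,3), (1,3), (0,0), (0,0), (0,0), (0,0), (1,3), (0,0), (1,1), (1,3),
    (0,0), (0,0), (0,0), (0,0), (1,3), (0,0), (0,0), (0,0), (1,0), (1,3),
    (1,0), (1,5), (1,5), (0,0), (0,0), (0,0), (0,0), (1,0), (0,0), (1,1),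
    (1,3), (0,0), (0,0), (1,1), (1,2), (1,4), (0,0), (0,0), (0,0), (0,0),
    (1,2), (0,0), (0,0), (1,1), (0,0), (1,5), (1,0), (0,0), (1,1), (1,4),
    (0,0), (0,0), (0,0), (1,0), (1,3), (1,0), (0,0), (1,1), (1,4), (0,0),
    (0,0), (0,0), (1,2), (1,2), (1,5), (0,0), (0,0), (0,0), (0,0), (0,0),
    (1,1), (0,0), (1,1), (1,4), (0,0), (1,1), (0,0), (1,0), (1,2), (0,0),
    (1,5), (0,0), (0,0), (1,1), (0,0), (1,3), (0,0), (0,0), (1,0), (0,0)]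

def oT3360Tree4 : List (ℕ × ℕ) := [
    (0,0), (1,2), (1,3), (0,0), (1,6), (0,0), (0,0), (0,0), (1,0), (1,3),
    (0,0), (0,0), (1,1), (0,0), (0,0), (1,1), (1,2), (1,3), (1,3), (0,0),
    (1,1), (0,0), (1,7), (0,0), (0,0), (0,0), (1,0), (0,0), (0,0), (1,0),
    (1,0), (1,3), (0,0), (0,0), (0,0), (1,2), (0,0), (1,3), (1,3), (0,0),
    (0,0), (1,1), (1,5), (0,0), (0,0), (1,0), (1,3), (0,0), (0,0), (1,2),
    (1,0), (0,0), (1,0), (1,7), (0,0), (0,0), (0,0), (0,0), (1,0), (1,0),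
    (1,0), (1,4), (1,0), (1,3), (1,0), (0,0), (1,4), (0,0), (0,0), (1,0),
    (1,3), (0,0), (0,0), (1,1), (0,0), (0,0), (1,4), (0,0), (1,1), (1,0),
    (1,6), (1,3), (0,0), (0,0), (0,0), (0,0), (0,0), (1,1), (1,0), (1,3),
    (1,2), (0,0), (1,0), (1,0), (1,3), (0,0), (0,0), (1,1), (1,2), (1,4),
    (0,0), (0,0), (1,0), (0,0), (1,1), (1,3), (1,2), (0,0), (0,0), (1,5),
    (0,0), (0,0), (0,0), (1,1), (0,0), (1,4), (0,0), (1,0), (1,0), (0,0),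
    (0,0), (1,0), (1,2), (1,5), (0,0), (1,0), (1,0), (1,3), (1,0), (1,8),
    (0,0), (0,0), (0,0), (0,0), (1,0), (1,0), (0,0), (1,1), (0,0), (1,5),
    (0,0), (0,0), (1,1), (1,0), (1,3), (0,0), (1,4), (0,0), (0,0), (1,1),
    (0,0), (1,3), (0,0), (0,0), (1,1), (1,0), (1,6), (0,0), (0,0), (1,1),
    (0,0), (0,0), (1,1), (1,2), (0,0), (0,0), (1,0), (0,0), (1,1), (1,3),
    (0,0), (1,1), (1,3), (0,0), (0,0), (1,1), (0,0), (0,0), (1,0), (1,5),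
    (0,0), (1,6), (0,0), (0,0), (1,0), (0,0), (1,1), (0,0), (1,1), (1,4),
    (0,0), (1,1), (0,0), (1,0), (1,2), (1,7), (0,0), (0,0), (0,0), (0,0),
    (0,0), (1,0), (0,0), (1,3), (0,0), (0,0), (1,1), (0,0), (1,1), (0,0),
    (1,4), (1,0), (1,4), (0,0), (0,0), (1,2), (0,0), (0,0), (1,1), (1,2),
    (1,5), (1,0), (0,0), (0,0), (0,0), (0,0), (1,0), (1,4), (1,0), (0,0),
    (1,4), (1,4), (0,0), (0,0), (0,0), (0,0), (0,0), (1,1), (1,0), (1,0),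
    (1,4), (1,2), (0,0), (0,0), (1,1), (0,0), (0,0), (1,1), (1,2), (1,3),
    (0,0), (1,4), (0,0), (0,0), (0,0), (0,0), (1,2), (0,0), (0,0), (1,1),
    (1,2), (0,0), (1,1), (1,4), (0,0), (0,0), (1,0), (0,0), (1,4), (1,5),
    (0,0), (1,0), (1,0), (0,0), (1,0), (1,2), (1,4), (0,0), (1,0), (1,2),
    (1,0), (0,0), (1,9), (0,0), (0,0), (0,0), (0,0), (0,0), (0,0), (1,0),
    (0,0), (0,0), (0,0), (1,2), (1,4), (0,0), (1,1), (0,0), (1,1), (0,0),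
    (1,1), (1,5), (0,0), (0,0), (0,0), (1,0), (0,0), (1,1), (1,3), (0,0),
    (0,0), (1,2), (0,0), (1,1), (1,4), (1,0), (1,0), (1,4), (0,0), (0,0),
    (0,0), (0,0), (1,2), (0,0), (1,0), (1,4), (1,2), (0,0), (1,1), (0,0),
    (1,1), (1,6), (0,0), (0,0), (0,0), (0,0), (1,0), (1,2), (0,0), (1,3),
    (0,0), (1,0), (1,2), (0,0), (1,4), (0,0), (0,0), (0,0), (1,0), (1,3),
    (1,0), (1,3), (0,0), (1,0), (0,0), (1,1), (1,3), (0,0), (1,0), (1,6),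
    (1,0), (1,0), (0,0), (1,0), (1,0), (1,8), (0,0), (0,0), (0,0), (0,0),
    (1,0), (0,0), (1,3), (0,0), (1,1), (1,3), (1,0), (0,0), (0,0), (0,0),
    (0,0), (1,0), (1,4), (0,0), (0,0), (1,2), (1,6), (0,0), (1,0), (0,0),
    (0,0), (1,0), (1,2), (1,2), (1,3), (0,0), (0,0), (1,0), (1,2), (1,0),
    (1,3), (0,0), (1,0), (1,2), (1,5), (1,0), (0,0), (1,0), (0,0), (0,0),
    (0,0), (1,3), (1,0), (1,4), (0,0), (1,1), (1,6), (0,0), (0,0), (0,0),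
    (0,0), (0,0), (0,0), (1,3), (1,0), (0,0), (0,0), (1,2), (0,0), (1,0),
    (1,2), (1,5), (0,0), (0,0), (0,0), (1,0), (1,0), (1,3), (1,0), (0,0),
    (0,0), (1,2), (1,0), (1,5), (0,0), (0,0), (1,1), (1,0), (1,3), (0,0),
    (0,0), (1,1), (1,5), (0,0), (0,0), (0,0), (1,1), (1,2), (1,0), (1,3),
    (1,0), (1,0), (0,0), (1,7), (1,0), (0,0), (0,0), (0,0), (0,0), (1,0),
    (1,5), (1,0), (0,0), (1,1), (0,0), (1,1), (1,0), (0,0), (1,9), (0,0),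
    (0,0), (0,0), (0,0), (1,0), (1,2), (0,0), (1,0), (0,0), (0,0), (1,4),
    (1,3), (0,0), (0,0), (0,0), (0,0), (0,0), (1,4), (1,0), (1,0), (0,0)]

def oT3360Tree5 : List (ℕ × ℕ) := [
    (1,5), (1,0), (0,0), (1,5), (0,0), (0,0), (0,0), (0,0), (1,6), (0,0),
    (0,0), (1,0), (1,0), (1,3), (1,0), (0,0), (0,0), (1,2), (0,0), (1,5),
    (0,0), (1,0), (0,0), (1,0), (1,0), (1,3), (1,0), (1,4), (0,0), (1,1),
    (1,0), (0,0), (1,0), (1,10), (0,0), (0,0), (0,0), (0,0), (0,0), (1,0),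
    (0,0), (1,0), (1,2), (0,0), (0,0), (1,2), (0,0), (1,5), (0,0), (0,0),
    (0,0), (0,0), (1,2), (1,3), (1,0), (1,0), (1,5), (0,0), (1,1), (0,0),
    (0,0), (1,1), (0,0), (0,0), (1,2), (1,0), (0,0), (1,5), (0,0), (0,0),
    (1,2), (1,5), (0,0), (1,0), (0,0), (0,0), (1,1), (0,0), (0,0), (1,2),
    (0,0), (0,0), (1,5), (1,0), (1,0), (1,5), (0,0), (0,0), (1,0), (1,0),
    (0,0), (1,4), (0,0), (0,0), (1,2), (1,0), (1,4), (0,0), (1,0), (1,2),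
    (0,0), (1,6), (0,0), (0,0), (0,0), (0,0), (1,1), (1,2), (0,0), (0,0),
    (0,0), (1,1), (1,0), (1,3), (1,0), (0,0), (0,0), (1,5), (0,0), (1,0),
    (1,2), (1,0), (1,5), (0,0), (0,0), (0,0), (0,0), (1,0), (1,2), (1,2),
    (1,0), (1,0), (1,4), (0,0), (0,0), (0,0), (0,0), (1,2), (0,0), (1,4),
    (1,0), (0,0), (1,0), (1,2), (1,0), (1,6), (0,0), (0,0), (1,0), (0,0),
    (1,1), (1,3), (0,0), (1,1), (1,3), (1,4), (0,0), (0,0), (0,0), (0,0),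
    (0,0), (0,0), (1,2), (0,0), (1,3), (1,0), (0,0), (1,1), (1,4), (0,0),
    (0,0), (1,0), (1,3), (1,4), (0,0), (0,0), (0,0), (1,0), (1,2), (1,2),
    (1,0), (1,3), (0,0), (1,0), (0,0), (1,1), (1,3), (0,0), (1,0), (0,0),
    (1,0), (1,2), (1,3), (1,7), (1,0), (0,0), (1,0), (0,0), (1,0), (0,0),
    (1,1), (0,0), (0,0), (1,5), (1,3), (0,0), (1,0), (0,0), (1,1), (0,0),
    (1,4), (0,0), (1,0), (0,0), (0,0), (1,1), (0,0), (1,1), (1,3), (1,0),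
    (1,4), (1,8), (0,0), (0,0), (0,0), (0,0), (0,0), (0,0), (0,0), (1,0),
    (0,0), (0,0), (1,4), (0,0), (0,0), (0,0), (1,2), (0,0), (1,0), (1,2),
    (1,3), (1,0), (1,4), (0,0), (0,0), (0,0), (1,1), (0,0), (1,4), (1,0),
    (1,0), (1,5), (0,0), (1,0), (0,0), (1,1), (0,0), (1,0), (0,0), (1,3),
    (0,0), (1,0), (1,6), (0,0), (0,0), (0,0), (1,1), (0,0), (1,1), (1,3),
    (0,0), (1,0), (1,4), (0,0), (0,0), (1,1), (0,0), (1,0), (1,2), (1,3),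
    (1,5), (0,0), (0,0), (0,0), (0,0), (1,0), (1,3), (0,0), (0,0), (1,1),
    (1,2), (0,0), (1,1), (1,0), (1,5), (1,0), (0,0), (1,0), (1,5), (0,0),
    (0,0), (1,0), (0,0), (1,0), (1,0), (1,3), (1,0), (0,0), (1,5), (0,0),
    (0,0), (0,0), (1,0), (1,2), (1,3), (1,3), (0,0), (0,0), (0,0), (1,1),
    (0,0), (1,3), (1,0), (1,3), (0,0), (1,1), (0,0), (1,7), (1,0), (0,0),
    (0,0), (0,0), (0,0), (0,0), (0,0), (1,1), (0,0), (1,3), (1,0), (1,3),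
    (0,0), (0,0), (1,1), (1,0), (1,5), (1,0), (1,0), (0,0), (1,1), (1,5),
    (0,0), (0,0), (0,0), (1,1), (0,0), (0,0), (1,2), (1,0), (1,5), (0,0),
    (0,0), (1,0), (0,0), (1,0), (1,4), (0,0), (1,6), (0,0), (0,0), (0,0),
    (1,1), (0,0), (1,0), (0,0), (1,3), (1,0), (1,4), (0,0), (0,0), (0,0),
    (0,0), (1,3), (0,0), (1,0), (1,2), (1,3), (0,0), (1,1), (0,0), (1,0),
    (1,6), (0,0), (1,0), (1,0), (1,3), (0,0), (1,0), (1,0), (1,0), (1,4),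
    (0,0), (1,0), (1,9), (0,0), (0,0), (0,0), (0,0), (0,0), (0,0), (0,0),
    (1,0), (1,2), (1,2), (1,0), (1,0), (1,4), (0,0), (1,0), (1,4), (0,0),
    (0,0), (1,1), (0,0), (0,0), (1,1), (1,0), (1,3), (1,3), (0,0), (0,0),
    (1,5), (0,0), (0,0), (1,0), (1,0), (0,0), (1,1), (1,0), (1,5), (0,0),
    (1,1), (0,0), (0,0), (0,0), (1,2), (0,0), (1,3), (0,0), (1,0), (1,2),
    (1,5), (0,0), (1,0), (0,0), (1,0), (0,0), (1,3), (1,3), (0,0), (0,0),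
    (0,0), (1,1), (1,2), (1,2), (1,0), (0,0), (1,1), (1,7), (0,0), (0,0),
    (0,0), (0,0), (1,0), (1,0), (0,0), (1,4), (1,0), (1,3), (1,0), (0,0),
    (1,1), (0,0), (1,1), (1,5), (0,0), (1,0), (1,0), (0,0), (1,0), (1,5),
    (0,0), (1,0), (0,0), (1,1), (1,0), (1,4), (1,0), (1,0), (1,0), (1,7)]

def oT3360Tree6 : List (ℕ × ℕ) := [
    (0,0), (0,0), (0,0), (1,0), (1,2), (0,0), (1,1), (0,0), (0,0), (1,1),
    (1,2), (0,0), (1,5), (0,0), (0,0), (0,0), (1,1), (1,3), (1,3), (1,0),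
    (0,0), (1,1), (0,0), (1,0), (1,8), (0,0), (0,0), (0,0), (0,0), (0,0),
    (1,1), (0,0), (1,1), (1,3), (1,0), (0,0), (1,0), (0,0), (1,1), (1,3),
    (1,4), (0,0), (1,0), (1,0), (1,5), (0,0), (1,0), (1,0), (1,3), (0,0),
    (0,0), (0,0), (1,1), (1,2), (0,0), (0,0), (1,2), (1,3), (1,0), (1,0),
    (1,0), (1,0), (0,0), (1,9), (0,0), (0,0), (0,0), (0,0), (0,0), (1,0),
    (1,4), (0,0), (0,0), (1,1), (1,4), (0,0), (0,0), (0,0), (1,0), (0,0),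
    (1,3), (0,0), (1,1), (0,0), (1,4), (0,0), (0,0), (1,0), (0,0), (1,3),
    (1,0), (1,3), (0,0), (1,0), (1,7), (0,0), (1,1), (0,0), (1,0), (0,0),
    (0,0), (1,1), (1,2), (1,3), (1,0), (1,8), (0,0), (0,0), (0,0), (0,0),
    (0,0), (0,0), (0,0), (0,0), (0,0), (1,0), (0,0), (1,3), (0,0), (1,1),
    (0,0), (1,4), (1,2), (1,0), (1,3), (0,0), (0,0), (0,0), (1,3), (1,3),
    (0,0), (0,0), (1,2), (0,0), (0,0), (1,0), (1,0), (1,3), (0,0), (1,0),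
    (1,2), (0,0), (1,1), (1,7), (0,0), (1,0), (0,0), (0,0), (1,1), (0,0),
    (1,1), (0,0), (0,0), (1,5), (1,0), (1,4), (0,0), (0,0), (1,0), (1,2),
    (0,0), (1,1), (1,0), (1,4), (1,0), (1,5), (0,0), (0,0), (0,0), (0,0),
    (1,1), (1,0), (0,0), (1,5), (0,0), (0,0), (0,0), (0,0), (1,0), (1,2),
    (1,2), (1,2), (1,2), (0,0), (0,0), (0,0), (1,0), (1,2), (1,2), (1,0),
    (1,6), (0,0), (0,0), (0,0), (0,0), (0,0), (1,1), (1,0), (1,3), (1,3),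
    (0,0), (0,0), (0,0), (1,2), (0,0), (0,0), (1,4), (0,0), (0,0), (0,0),
    (1,1), (1,6), (1,0), (1,5), (0,0), (0,0), (0,0), (1,0), (0,0), (0,0),
    (1,1), (0,0), (1,1), (1,0), (0,0), (1,5), (0,0), (1,0), (1,0), (1,3),
    (0,0), (1,5), (0,0), (1,0), (0,0), (1,3), (0,0), (0,0), (1,1), (0,0),
    (0,0), (1,1), (1,2), (1,3), (1,4), (1,0), (0,0), (1,0), (1,5), (0,0),
    (0,0), (1,0), (1,2), (0,0), (0,0), (0,0), (1,1), (0,0), (1,0), (1,5),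
    (0,0), (0,0), (1,5), (0,0), (0,0), (0,0), (0,0), (0,0), (1,3), (1,0),
    (1,0), (1,5), (0,0), (1,0), (0,0), (1,1), (0,0), (1,0), (1,2), (1,4),
    (1,0), (1,0), (1,8), (0,0), (1,0), (0,0), (0,0), (0,0), (1,1), (1,2),
    (0,0), (1,1), (1,0), (0,0), (1,5), (0,0), (0,0), (1,0), (1,2), (1,0),
    (0,0), (0,0), (1,8), (0,0), (1,0), (0,0), (0,0), (0,0), (0,0), (1,0),
    (1,2), (0,0), (0,0), (1,4), (1,0), (1,3), (0,0), (1,1), (0,0), (0,0),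
    (1,2), (1,4), (0,0), (0,0), (0,0), (0,0), (1,0), (1,2), (1,2), (0,0),
    (1,4), (0,0), (0,0), (1,1), (1,6), (0,0), (1,0), (0,0), (0,0), (0,0),
    (1,1), (1,0), (1,0), (1,4), (0,0), (0,0), (1,0), (1,0), (1,3), (1,4),
    (0,0), (1,4), (0,0), (1,0), (1,0), (0,0), (1,1), (0,0), (0,0)]

def oT3360Tree : List (ℕ × ℕ) :=
  oT3360Tree0 ++ oT3360Tree1 ++ oT3360Tree2 ++ oT3360Tree3 ++ oT3360Tree4 ++ oT3360Tree5 ++ oT3360Tree6

def sO15Start : List ℕ := [5279]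

def sO15Gens : List ℕ := [
  884333444574242985858998375751586124,
  277064550287232346632716503440014608]

def sO15Tree0 : List (ℕ × ℕ) := [
    (0,0), (0,0), (0,0), (1,1), (0,0), (1,3), (0,0), (1,0), (1,0), (1,5),
    (1,0), (0,0), (0,0), (1,1)]

def sO15Tree : List (ℕ × ℕ) :=
  sO15Tree0

def sO360Start : List ℕ := [18147]

def sO360Gens : List ℕ := [
  884333444574242985858998375751586124,
  277064550287232346632716503440014608]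

def sO360Tree0 : List (ℕ × ℕ) := [
    (0,0), (0,0), (0,0), (0,0), (0,0), (1,0), (1,0), (0,0), (1,1), (1,4),
    (1,0), (0,0), (0,0), (0,0), (1,0), (1,2), (1,2), (0,0), (1,3), (0,0),
    (1,1), (0,0), (1,6), (0,0), (1,0), (1,2), (0,0), (0,0), (0,0), (0,0),
    (1,0), (1,3), (1,3), (0,0), (1,0), (1,0), (1,0), (1,4), (1,5), (0,0),
    (0,0), (0,0), (0,0), (0,0), (1,0), (1,3), (0,0), (0,0), (1,2), (0,0),
    (1,1), (0,0), (1,1), (1,5), (0,0), (0,0), (1,0), (1,2), (0,0), (1,3),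
    (1,0), (1,4), (0,0), (0,0), (0,0), (1,1), (1,2), (0,0), (0,0), (1,2),
    (1,3), (0,0), (1,1), (1,0), (1,5), (0,0), (0,0), (0,0), (0,0), (0,0),
    (1,1), (1,4), (0,0), (1,0), (0,0), (0,0), (1,4), (0,0), (1,1), (1,0),
    (1,5), (0,0), (0,0), (0,0), (0,0), (1,0), (1,3), (1,0), (1,3), (0,0),
    (0,0), (1,1), (1,2), (0,0), (0,0), (1,5), (0,0), (0,0), (0,0), (1,1),
    (1,2), (1,0), (1,3), (0,0), (0,0), (1,0), (1,2), (1,8), (0,0), (0,0),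
    (0,0), (0,0), (1,0), (0,0), (1,1), (1,0), (1,4), (0,0), (1,0), (0,0),
    (1,0), (1,4), (0,0), (0,0), (1,1), (1,2), (0,0), (1,1), (1,5), (0,0),
    (0,0), (0,0), (1,0), (1,3), (0,0), (0,0), (1,1), (1,4), (0,0), (0,0),
    (1,1), (1,2), (0,0), (0,0), (1,0), (1,3), (0,0), (1,6), (0,0), (0,0),
    (0,0), (1,0), (0,0), (1,3), (0,0), (1,3), (0,0), (1,3), (0,0), (0,0),
    (1,0), (0,0), (0,0), (1,1), (1,2), (1,3), (1,0), (1,3), (0,0), (1,0),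
    (0,0), (1,3), (0,0), (0,0), (1,7), (0,0), (0,0), (0,0), (0,0), (0,0),
    (1,3), (0,0), (1,1), (0,0), (1,0), (1,2), (1,4), (0,0), (1,0), (0,0),
    (1,5), (0,0), (1,1), (1,0), (0,0), (1,7), (0,0), (0,0), (0,0), (0,0),
    (0,0), (0,0), (0,0), (0,0), (1,2), (0,0), (1,3), (0,0), (1,4), (0,0),
    (1,0), (1,2), (0,0), (1,1), (0,0), (1,1), (1,5), (0,0), (0,0), (1,1),
    (0,0), (0,0), (1,1), (1,2), (1,0), (1,4), (0,0), (1,0), (0,0), (0,0),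
    (1,2), (1,3), (1,4), (0,0), (0,0), (0,0), (0,0), (0,0), (1,2), (1,0),
    (0,0), (1,1), (1,4), (0,0), (1,0), (1,4), (1,0), (0,0), (0,0), (0,0),
    (1,1), (1,2), (0,0), (1,3), (0,0), (1,5), (0,0), (1,0), (0,0), (0,0),
    (1,0), (1,3), (1,0), (1,0), (1,5), (0,0), (1,0), (1,0), (1,3), (1,5),
    (0,0), (0,0), (0,0), (1,0), (0,0), (1,0), (1,2), (1,0), (1,4), (0,0),
    (0,0), (0,0), (1,2), (0,0), (1,1), (0,0), (1,6), (0,0), (0,0), (0,0),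
    (0,0), (0,0), (1,2), (1,2), (0,0), (0,0), (1,2), (1,0), (1,4), (1,0),
    (1,0), (1,4), (0,0), (0,0), (0,0), (1,2), (0,0), (1,0), (1,4), (0,0),
    (0,0), (0,0), (1,2), (1,2), (0,0), (1,6), (0,0), (0,0), (0,0), (0,0),
    (1,0), (1,3), (0,0), (0,0), (1,1), (1,2), (0,0), (0,0), (1,2), (0,0),
    (1,5), (0,0), (0,0), (1,0), (1,0), (1,3), (1,2), (0,0), (0,0), (1,1),
    (0,0), (0,0), (1,4), (0,0), (1,5), (1,0), (0,0), (0,0), (0,0)]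

def sO360Tree : List (ℕ × ℕ) :=
  sO360Tree0

def sO384Start : List ℕ := [10558]

def sO384Gens : List ℕ := [
  884333444574242985858998375751586124,
  277064550287232346632716503440014608]

def sO384Tree0 : List (ℕ × ℕ) := [
    (0,0), (0,0), (0,0), (0,0), (0,0), (0,0), (0,0), (0,0), (0,0), (1,2),
    (1,2), (0,0), (1,1), (1,0), (1,0), (1,5), (1,0), (0,0), (1,0), (1,2),
    (0,0), (1,5), (0,0), (0,0), (0,0), (1,1), (0,0), (0,0), (1,1), (1,4),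
    (0,0), (0,0), (1,1), (1,4), (1,0), (0,0), (0,0), (0,0), (1,3), (0,0),
    (0,0), (1,0), (1,2), (1,0), (1,8), (0,0), (0,0), (1,0), (0,0), (0,0),
    (0,0), (1,5), (0,0), (0,0), (1,2), (0,0), (1,1), (0,0), (1,5), (0,0),
    (0,0), (0,0), (1,1), (1,3), (0,0), (1,0), (1,0), (1,0), (1,4), (0,0),
    (0,0), (1,7), (0,0), (0,0), (0,0), (0,0), (0,0), (1,0), (1,2), (1,0),
    (1,3), (0,0), (1,1), (1,3), (0,0), (0,0), (1,1), (0,0), (1,3), (0,0),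
    (0,0), (1,0), (1,6), (0,0), (0,0), (0,0), (1,0), (1,3), (0,0), (1,0),
    (1,4), (0,0), (0,0), (0,0), (0,0), (1,4), (0,0), (0,0), (1,1), (1,6),
    (0,0), (0,0), (0,0), (0,0), (1,1), (1,2), (0,0), (1,0), (1,2), (0,0),
    (1,1), (1,5), (0,0), (0,0), (0,0), (0,0), (1,3), (1,0), (1,3), (0,0),
    (1,0), (1,0), (1,8), (0,0), (0,0), (0,0), (0,0), (0,0), (0,0), (0,0),
    (0,0), (1,3), (1,2), (0,0), (1,0), (1,2), (1,3), (0,0), (0,0), (0,0),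
    (0,0), (1,2), (0,0), (1,3), (0,0), (0,0), (1,2), (1,3), (1,0), (1,5),
    (0,0), (0,0), (0,0), (0,0), (0,0), (1,3), (0,0), (1,0), (1,4), (0,0),
    (1,0), (1,0), (0,0), (1,1), (1,4), (0,0), (1,0), (1,0), (1,6), (0,0),
    (0,0), (0,0), (1,1), (1,0), (1,3), (0,0), (1,0), (1,4), (0,0), (1,1),
    (1,0), (0,0), (1,7), (0,0), (1,0), (0,0), (0,0), (0,0), (0,0), (1,3),
    (0,0), (1,1), (0,0), (0,0), (1,5), (0,0), (0,0), (1,2), (1,4), (0,0),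
    (0,0), (1,2), (0,0), (0,0), (0,0), (1,0), (1,2), (0,0), (0,0), (1,4),
    (0,0), (1,0), (1,2), (0,0), (1,1), (1,4), (1,6), (0,0), (0,0), (0,0),
    (0,0), (0,0), (0,0), (1,3), (0,0), (0,0), (1,0), (1,3), (0,0), (1,1),
    (0,0), (1,1), (1,5), (0,0), (0,0), (0,0), (0,0), (1,1), (1,2), (0,0),
    (0,0), (1,0), (1,3), (1,3), (0,0), (1,0), (1,2), (0,0), (1,1), (0,0),
    (1,5), (0,0), (0,0), (0,0), (1,1), (0,0), (0,0), (1,1), (1,5), (1,4),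
    (0,0), (0,0), (1,0), (0,0), (1,1), (0,0), (0,0), (1,2), (0,0), (1,1),
    (0,0), (1,6), (0,0), (0,0), (1,0), (0,0), (0,0), (1,2), (1,4), (0,0),
    (0,0), (1,0), (1,3), (0,0), (1,5), (0,0), (1,0), (0,0), (0,0), (1,1),
    (0,0), (1,5), (0,0), (0,0), (1,0), (1,3), (0,0), (0,0), (1,0), (1,0),
    (1,4), (0,0), (1,0), (1,8), (0,0), (0,0), (1,0), (0,0), (0,0), (1,1),
    (1,0), (0,0), (1,4), (0,0), (0,0), (1,0), (1,2), (1,2), (0,0), (1,5),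
    (0,0), (0,0), (0,0), (1,0), (1,0), (1,3), (1,2), (0,0), (0,0), (1,0),
    (0,0), (1,4), (0,0), (1,1), (0,0), (1,1), (1,5), (0,0), (0,0), (1,0),
    (1,2), (0,0), (1,0), (0,0), (1,8), (0,0), (0,0), (0,0), (0,0), (1,0),
    (1,2), (0,0), (1,1), (1,0), (1,4), (0,0), (0,0), (1,2), (1,3), (0,0),
    (0,0), (0,0), (0,0), (1,1), (1,2), (1,0), (1,4), (1,0), (0,0), (0,0),
    (1,1), (1,6), (1,0)]

def sO384Tree : List (ℕ × ℕ) :=
  sO384Tree0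

def sS1Start : List ℕ := [15, 5264, 622848, 3416064, 4196928, 8536096]

def sS1Gens : List ℕ := [
  884333444574242985858998375751586124]

def sS1Tree0 : List (ℕ × ℕ) := [
    ]

def sS1Tree : List (ℕ × ℕ) :=
  sS1Tree0

def sS90Start : List ℕ := [147, 5132, 272448, 737280, 7340544, 8421664]

def sS90Gens : List ℕ := [
  884333444574242985858998375751586124,
  277064550287232346632716503440014608]

def sS90Tree0 : List (ℕ × ℕ) := [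
    (0,0), (0,0), (0,0), (0,0), (1,0), (1,0), (1,3), (1,0), (0,0), (0,0),
    (1,1), (1,5), (0,0), (0,0), (0,0), (0,0), (1,0), (1,3), (0,0), (1,3),
    (0,0), (1,1), (0,0), (1,6), (0,0), (0,0), (0,0), (0,0), (1,0), (1,3),
    (1,0), (0,0), (1,4), (1,2), (0,0), (0,0), (0,0), (0,0), (1,1), (0,0),
    (1,1), (1,3), (1,0), (1,3), (0,0), (1,1), (1,3), (1,0), (1,5), (0,0),
    (0,0), (0,0), (0,0), (1,0), (0,0), (1,3), (0,0), (1,1), (0,0), (1,4),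
    (0,0), (0,0), (1,0), (1,2), (0,0), (1,1), (1,3), (0,0), (1,1), (1,4),
    (0,0), (0,0), (0,0), (0,0), (1,1), (1,4), (0,0), (1,0), (1,5), (0,0),
    (0,0), (1,0), (0,0), (0,0), (1,4), (0,0), (1,0), (1,2), (0,0)]

def sS90Tree : List (ℕ × ℕ) :=
  sS90Tree0

def sS240Start : List ℕ := [23, 5256, 786976, 1065280, 2263040, 12656640]

def sS240Gens : List ℕ := [
  884333444574242985858998375751586124,
  277064550287232346632716503440014608]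

def sS240Tree0 : List (ℕ × ℕ) := [
    (0,0), (0,0), (0,0), (0,0), (0,0), (0,0), (0,0), (1,0), (0,0), (1,4),
    (0,0), (1,3), (1,0), (0,0), (0,0), (1,2), (0,0), (1,1), (0,0), (1,6),
    (0,0), (0,0), (0,0), (0,0), (1,1), (1,2), (0,0), (1,1), (1,3), (0,0),
    (1,1), (0,0), (1,0), (1,5), (0,0), (0,0), (0,0), (0,0), (1,3), (1,2),
    (0,0), (1,0), (0,0), (0,0), (1,4), (0,0), (1,1), (1,6), (0,0), (0,0),
    (0,0), (0,0), (0,0), (1,1), (1,2), (0,0), (1,1), (1,3), (0,0), (0,0),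
    (1,4), (0,0), (0,0), (0,0), (1,1), (0,0), (1,4), (0,0), (1,0), (1,2),
    (0,0), (1,0), (1,6), (0,0), (1,0), (0,0), (1,0), (1,4), (0,0), (1,0),
    (0,0), (1,0), (1,2), (0,0), (1,4), (0,0), (1,1), (0,0), (1,0), (1,8),
    (0,0), (0,0), (0,0), (0,0), (0,0), (0,0), (1,0), (1,3), (0,0), (0,0),
    (1,4), (1,0), (0,0), (1,1), (1,5), (0,0), (0,0), (0,0), (0,0), (1,0),
    (1,2), (1,2), (1,3), (0,0), (0,0), (1,1), (1,2), (1,0), (0,0), (0,0),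
    (0,0), (1,3), (1,6), (0,0), (0,0), (0,0), (0,0), (1,0), (1,0), (1,3),
    (0,0), (1,1), (1,3), (0,0), (1,0), (0,0), (1,3), (0,0), (1,0), (1,5),
    (0,0), (1,0), (1,0), (1,5), (0,0), (0,0), (1,1), (1,0), (0,0), (1,0),
    (1,5), (1,0), (1,6), (0,0), (0,0), (0,0), (0,0), (0,0), (1,0), (1,2),
    (1,0), (0,0), (1,5), (0,0), (1,0), (1,2), (0,0), (0,0), (1,1), (0,0),
    (1,3), (0,0), (1,1), (1,0), (1,6), (0,0), (1,0), (0,0), (1,0), (1,0),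
    (0,0), (1,4), (0,0), (1,1), (1,4), (0,0), (1,0), (0,0), (0,0), (1,1),
    (1,2), (0,0), (1,1), (1,0), (1,8), (0,0), (0,0), (0,0), (0,0), (1,0),
    (1,0), (1,0), (1,4), (0,0), (1,1), (1,0), (1,4), (0,0), (0,0), (0,0),
    (1,3), (1,3), (0,0), (0,0), (0,0), (0,0), (0,0), (1,3), (1,0), (1,3),
    (1,0), (1,3), (0,0), (0,0), (1,0), (1,3), (0,0), (1,5), (0,0), (0,0),
    (0,0), (1,0), (1,0), (1,3), (1,2), (0,0), (0,0), (1,1), (1,0)]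

def sS240Tree : List (ℕ × ℕ) :=
  sS240Tree0

def sS1440Start : List ℕ := [51, 786948, 1188864, 2162760, 4216832, 8421760]

def sS1440Gens : List ℕ := [
  884333444574242985858998375751586124,
  277064550287232346632716503440014608]

def sS1440Tree0 : List (ℕ × ℕ) := [
    (0,0), (0,0), (0,0), (0,0), (0,0), (0,0), (0,0), (0,0), (0,0), (1,1),
    (1,0), (1,0), (1,4), (1,0), (0,0), (1,0), (1,2), (1,4), (0,0), (0,0),
    (0,0), (0,0), (1,0), (1,2), (1,2), (0,0), (1,0), (1,2), (1,3), (1,0),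
    (0,0), (1,1), (0,0), (1,7), (0,0), (0,0), (0,0), (0,0), (1,1), (0,0),
    (1,1), (1,3), (0,0), (1,0), (1,2), (0,0), (1,4), (0,0), (0,0), (1,0),
    (1,2), (0,0), (1,0), (0,0), (1,3), (1,3), (1,0), (0,0), (1,0), (1,2),
    (1,5), (0,0), (1,0), (0,0), (1,0), (0,0), (1,3), (1,3), (0,0), (0,0),
    (0,0), (0,0), (1,1), (1,2), (1,0), (1,3), (1,2), (1,0), (1,6), (0,0),
    (0,0), (0,0), (0,0), (1,0), (0,0), (0,0), (1,2), (1,3), (0,0), (1,0),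
    (0,0), (1,5), (0,0), (0,0), (0,0), (0,0), (1,3), (0,0), (0,0), (1,7),
    (0,0), (0,0), (1,1), (0,0), (0,0), (1,0), (1,3), (0,0), (1,1), (0,0),
    (0,0), (1,2), (1,0), (1,6), (0,0), (0,0), (0,0), (0,0), (1,2), (0,0),
    (0,0), (1,2), (0,0), (1,4), (1,2), (1,0), (0,0), (1,7), (0,0), (0,0),
    (0,0), (0,0), (1,0), (1,0), (1,0), (0,0), (1,1), (1,5), (1,0), (0,0),
    (0,0), (1,0), (1,2), (1,2), (0,0), (1,1), (1,5), (0,0), (0,0), (0,0),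
    (0,0), (1,1), (1,3), (0,0), (0,0), (1,1), (1,4), (0,0), (0,0), (0,0),
    (0,0), (1,1), (1,2), (0,0), (1,3), (1,2), (0,0), (1,0), (0,0), (1,1),
    (1,3), (1,5), (0,0), (0,0), (1,0), (0,0), (1,0), (1,0), (1,3), (1,3),
    (0,0), (0,0), (1,0), (1,3), (0,0), (0,0), (1,0), (1,3), (0,0), (0,0),
    (1,6), (0,0), (0,0), (0,0), (1,1), (1,3), (0,0), (0,0), (1,0), (1,2),
    (0,0), (0,0), (1,4), (0,0), (1,0), (1,2), (1,6), (0,0), (0,0), (0,0),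
    (0,0), (0,0), (1,1), (0,0), (1,1), (0,0), (1,4), (0,0), (0,0), (1,1),
    (1,4), (0,0), (1,0), (0,0), (1,0), (1,4), (0,0), (1,1), (1,4), (0,0),
    (0,0), (0,0), (1,1), (1,2), (0,0), (1,1), (0,0), (1,4), (1,0), (0,0),
    (1,1), (0,0), (1,6), (0,0), (0,0), (0,0), (0,0), (1,0), (0,0), (1,3),
    (1,3), (0,0), (0,0), (0,0), (1,0), (0,0), (1,4), (1,0), (1,3), (0,0),
    (0,0), (1,1), (0,0), (1,3), (0,0), (1,0), (1,2), (1,5), (0,0), (0,0),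
    (1,0), (1,0), (1,3), (1,2), (0,0), (1,0), (0,0), (0,0), (1,1), (1,2),
    (1,9), (0,0), (0,0), (0,0), (0,0), (0,0), (1,0), (1,0), (0,0), (1,0),
    (1,2), (1,0), (1,5), (0,0), (1,3), (0,0), (0,0), (0,0), (1,3), (0,0),
    (1,1), (1,0), (0,0), (1,6), (0,0), (0,0), (0,0), (0,0), (1,1), (1,0),
    (1,3), (0,0), (0,0), (1,1), (1,4), (0,0), (0,0), (1,2), (0,0), (1,1),
    (0,0), (1,5), (0,0), (0,0), (0,0), (0,0), (1,4), (0,0), (1,0), (1,2),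
    (0,0), (0,0), (1,1), (1,7), (0,0), (0,0), (0,0), (0,0), (0,0), (1,0),
    (0,0), (1,3), (1,0), (1,3), (0,0), (1,3), (1,0), (0,0), (0,0), (1,2),
    (1,4), (0,0), (0,0), (1,1), (1,2), (0,0), (0,0), (1,0), (1,3), (0,0),
    (1,0), (1,6), (0,0), (0,0), (1,0), (0,0), (1,0), (1,2), (0,0), (1,1),
    (1,4), (1,0), (0,0), (0,0), (1,2), (0,0), (0,0), (1,6), (0,0), (0,0),
    (1,6), (0,0), (1,0), (0,0), (0,0), (0,0), (0,0), (0,0), (1,2), (0,0),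
    (1,0), (1,4), (0,0), (0,0), (1,2), (0,0), (1,1), (1,4), (0,0), (0,0),
    (0,0), (1,2), (1,2), (1,0), (1,4), (0,0), (0,0), (1,0), (1,2), (0,0),
    (1,0), (1,2), (1,3), (0,0), (0,0), (0,0), (1,2), (1,2), (1,5), (0,0),
    (0,0), (0,0), (0,0), (1,0), (0,0), (1,0), (1,2), (1,3), (0,0), (0,0),
    (1,1), (1,2), (0,0), (0,0), (1,1), (1,2), (1,4), (1,0), (0,0), (0,0),
    (0,0), (1,3), (1,0), (1,5), (0,0), (0,0), (1,0), (1,0), (1,3), (1,2),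
    (0,0), (0,0), (1,1), (0,0), (1,3), (0,0), (1,0), (1,2), (0,0), (1,6),
    (0,0), (0,0), (0,0), (0,0), (1,0), (1,3), (0,0), (1,0), (1,2), (0,0),
    (1,4), (1,0), (0,0), (1,1), (0,0), (1,1), (1,5), (0,0), (0,0), (1,0),
    (1,2), (0,0), (1,9), (0,0), (0,0), (0,0), (0,0), (0,0), (1,0), (1,0),
    (0,0), (1,1), (1,0), (1,5), (0,0), (0,0), (1,0), (1,0), (1,0), (1,4)]

def sS1440Tree1 : List (ℕ × ℕ) := [
    (0,0), (1,3), (1,3), (0,0), (0,0), (0,0), (0,0), (1,0), (1,2), (0,0),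
    (1,3), (1,0), (1,3), (0,0), (0,0), (0,0), (1,0), (1,2), (1,2), (1,2),
    (0,0), (0,0), (0,0), (0,0), (1,3), (1,2), (0,0), (0,0), (1,6), (1,0),
    (0,0), (1,0), (1,0), (1,3), (1,0), (0,0), (1,7), (0,0), (0,0), (0,0),
    (0,0), (0,0), (0,0), (1,0), (1,4), (0,0), (1,3), (0,0), (0,0), (1,0),
    (1,2), (1,2), (0,0), (1,4), (0,0), (0,0), (1,0), (1,2), (0,0), (0,0),
    (1,0), (1,5), (0,0), (0,0), (1,2), (1,4), (0,0), (0,0), (0,0), (1,0),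
    (0,0), (0,0), (1,4), (0,0), (0,0), (1,0), (1,2), (0,0), (1,5), (0,0),
    (0,0), (1,0), (1,2), (0,0), (1,1), (1,3), (0,0), (0,0), (1,2), (0,0),
    (1,1), (1,0), (1,6), (0,0), (0,0), (0,0), (0,0), (1,1), (1,2), (0,0),
    (1,1), (1,3), (0,0), (0,0), (0,0), (1,9), (0,0), (0,0), (0,0), (0,0),
    (0,0), (0,0), (1,1), (1,2), (0,0), (1,1), (1,0), (1,4), (0,0), (1,0),
    (1,0), (1,3), (0,0), (1,1), (0,0), (0,0), (1,6), (1,0), (0,0), (0,0),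
    (1,0), (1,3), (0,0), (0,0), (1,1), (1,2), (0,0), (0,0), (1,2), (1,6),
    (0,0), (0,0), (0,0), (0,0), (1,1), (0,0), (1,3), (0,0), (1,3), (0,0),
    (1,0), (1,2), (1,0), (1,4), (0,0), (0,0), (1,1), (1,2), (1,0), (0,0),
    (0,0), (1,2), (1,6), (0,0), (0,0), (0,0), (0,0), (0,0), (0,0), (1,4),
    (0,0), (1,1), (1,0), (1,4), (0,0), (0,0), (0,0), (1,2), (0,0), (1,0),
    (0,0), (1,5), (0,0), (1,1), (0,0), (1,1), (1,5), (0,0), (0,0), (1,1),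
    (0,0), (0,0), (1,1), (1,0), (0,0), (1,1), (1,6), (0,0), (0,0), (0,0),
    (1,0), (1,4), (0,0), (1,0), (0,0), (1,9), (0,0), (0,0), (0,0), (0,0),
    (0,0), (0,0), (1,1), (1,0), (1,3), (0,0), (1,0), (1,2), (0,0), (1,4),
    (0,0), (0,0), (1,0), (0,0), (1,3), (0,0), (1,3), (1,3), (0,0), (0,0),
    (0,0), (0,0), (1,0), (1,0), (1,3), (0,0), (1,3), (1,0), (1,3), (0,0),
    (0,0), (1,0), (0,0), (1,3), (1,0), (1,3), (1,0), (1,4), (0,0), (1,0),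
    (0,0), (1,6), (0,0), (0,0), (0,0), (0,0), (1,0), (1,0), (1,4), (0,0),
    (1,3), (0,0), (0,0), (1,0), (0,0), (1,1), (1,4), (0,0), (0,0), (0,0),
    (0,0), (1,3), (0,0), (0,0), (1,4), (1,4), (0,0), (0,0), (0,0), (1,0),
    (0,0), (1,3), (0,0), (0,0), (1,0), (1,2), (1,0), (1,3), (1,3), (0,0),
    (0,0), (1,0), (1,0), (1,4), (0,0), (1,1), (1,4), (0,0), (0,0), (1,1),
    (0,0), (1,3), (0,0), (0,0), (1,1), (1,2), (0,0), (0,0), (1,8), (0,0),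
    (0,0), (0,0), (0,0), (1,0), (1,2), (0,0), (0,0), (0,0), (1,2), (0,0),
    (1,3), (1,0), (1,0), (1,5), (0,0), (0,0), (0,0), (1,0), (1,0), (1,4),
    (0,0), (0,0), (1,1), (1,4), (0,0), (0,0), (1,1), (1,2), (0,0), (0,0),
    (1,6), (0,0), (0,0), (0,0), (0,0), (0,0), (1,1), (0,0), (1,3), (0,0),
    (1,3), (0,0), (1,0), (1,2), (0,0), (1,4), (1,0), (1,0), (1,4), (0,0),
    (1,0), (0,0), (1,3), (0,0), (1,0), (1,0), (1,3), (1,0), (1,6), (0,0),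
    (0,0), (0,0), (0,0), (1,0), (1,0), (1,3), (1,2), (0,0), (0,0), (1,1),
    (1,0), (1,3), (1,3), (0,0), (1,0), (1,0), (0,0), (0,0), (1,5), (0,0),
    (1,0), (0,0), (1,3), (0,0), (0,0), (1,1), (1,6), (0,0), (0,0), (1,0),
    (0,0), (1,1), (1,3), (0,0), (0,0), (0,0), (1,2), (1,2), (1,0), (1,0),
    (1,11), (0,0), (0,0), (0,0), (0,0), (0,0), (0,0), (0,0), (0,0), (0,0),
    (1,1), (0,0), (1,4), (0,0), (0,0), (1,2), (0,0), (1,4), (0,0), (0,0),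
    (1,0), (1,0), (1,3), (1,0), (1,0), (1,4), (0,0), (1,0), (0,0), (1,6),
    (0,0), (0,0), (0,0), (0,0), (1,0), (0,0), (1,4), (0,0), (1,1), (0,0),
    (1,5), (0,0), (1,0), (0,0), (1,1), (1,3), (1,4), (0,0), (1,1), (0,0),
    (0,0), (0,0), (0,0), (1,0), (1,3), (1,3), (0,0), (0,0), (0,0), (0,0),
    (1,2), (1,7), (0,0), (0,0), (0,0), (0,0), (0,0), (0,0), (1,1), (1,2),
    (0,0), (1,3), (0,0), (1,0), (1,2), (0,0), (1,1), (1,4), (0,0), (1,0),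
    (0,0), (0,0), (1,0), (1,3), (1,0), (0,0), (1,5), (0,0), (1,0), (0,0)]

def sS1440Tree2 : List (ℕ × ℕ) := [
    (0,0), (1,2), (1,6), (0,0), (0,0), (0,0), (0,0), (1,1), (1,0), (1,3),
    (0,0), (0,0), (1,4), (1,0), (0,0), (0,0), (1,2), (1,4), (0,0), (1,0),
    (1,0), (0,0), (0,0), (1,1), (1,2), (1,0), (1,5), (0,0), (0,0), (1,0),
    (1,2), (1,2), (0,0), (0,0), (1,1), (1,9), (0,0), (0,0), (0,0), (0,0),
    (0,0), (1,1), (0,0), (1,0), (1,4), (0,0), (0,0), (0,0), (1,3), (1,0),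
    (0,0), (1,5), (0,0), (0,0), (0,0), (0,0), (0,0), (1,2), (1,2), (1,2),
    (0,0), (1,3), (0,0), (0,0), (1,0), (1,2), (0,0), (1,1), (1,0), (0,0),
    (1,5), (0,0), (0,0), (0,0), (1,1), (1,2), (0,0), (1,3), (0,0), (1,1),
    (0,0), (1,7), (0,0), (0,0), (0,0), (0,0), (1,0), (1,2), (0,0), (1,0),
    (1,2), (1,3), (0,0), (0,0), (1,2), (0,0), (1,0), (1,5), (0,0), (0,0),
    (1,1), (0,0), (1,1), (0,0), (1,6), (0,0), (1,1), (0,0), (0,0), (1,1),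
    (0,0), (1,1), (1,3), (0,0), (1,0), (0,0), (1,1), (1,3), (0,0), (0,0),
    (1,8), (0,0), (0,0), (0,0), (0,0), (0,0), (0,0), (0,0), (1,2), (1,0),
    (1,4), (0,0), (1,0), (1,2), (1,0), (1,4), (1,0), (0,0), (0,0), (1,0),
    (1,2), (1,2), (1,4), (0,0), (0,0), (0,0), (0,0), (0,0), (1,3), (0,0),
    (0,0), (1,4), (0,0), (1,1), (0,0), (0,0), (1,2), (1,4), (1,0), (0,0),
    (0,0), (1,1), (1,0), (1,3), (1,5), (0,0), (1,0), (0,0), (0,0), (0,0),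
    (0,0), (1,2), (1,2), (1,0), (1,3), (0,0), (1,1), (0,0), (1,1), (1,5),
    (0,0), (0,0), (1,0), (1,0), (1,3), (1,2), (0,0), (1,7), (0,0), (0,0),
    (0,0), (0,0), (0,0), (0,0), (0,0), (1,0), (1,2), (1,0), (1,3), (0,0),
    (1,0), (1,2), (0,0), (1,1), (0,0), (0,0), (1,6), (1,0), (0,0), (1,0),
    (1,0), (1,3), (0,0), (1,1), (1,5), (0,0), (1,0), (0,0), (1,0), (0,0),
    (1,0), (1,4), (0,0), (1,4), (0,0), (0,0), (1,2), (0,0), (0,0), (1,0),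
    (1,2), (1,6), (0,0), (0,0), (1,0), (0,0), (0,0), (1,2), (1,0), (1,0),
    (1,5), (0,0), (0,0), (1,0), (0,0), (1,1), (1,3), (0,0), (0,0), (1,2),
    (0,0), (1,4), (1,3), (0,0), (0,0), (0,0), (0,0), (1,0), (1,3), (1,2),
    (0,0), (0,0), (0,0), (1,3), (1,3), (0,0), (1,1), (1,0), (1,6), (0,0),
    (0,0), (0,0), (1,0), (0,0), (0,0), (0,0), (1,2), (1,0), (1,3), (1,4),
    (0,0), (0,0), (0,0), (0,0), (1,0), (1,4), (0,0), (0,0), (1,1), (0,0),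
    (0,0), (1,4), (0,0), (1,4), (0,0), (1,0), (1,0), (1,0), (1,4), (1,0),
    (1,0), (1,6), (0,0), (0,0), (0,0), (1,0), (1,2), (0,0), (0,0), (0,0),
    (1,2), (1,2), (1,3), (0,0), (0,0), (1,0), (1,2), (0,0), (1,5), (1,0),
    (0,0), (0,0), (1,1), (1,2), (1,6), (0,0), (0,0), (0,0), (0,0), (1,0),
    (1,2), (0,0), (0,0), (0,0), (0,0), (1,1), (1,0), (1,3), (1,2), (0,0),
    (0,0), (1,4), (0,0), (1,0), (1,2), (0,0), (1,1), (0,0), (1,6), (0,0),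
    (0,0), (1,0), (1,2), (0,0), (0,0), (1,0), (1,2), (1,0), (1,3), (1,3),
    (0,0), (1,0), (0,0), (1,1), (0,0), (1,4), (0,0), (0,0), (1,1), (0,0),
    (0,0), (1,4), (0,0), (0,0), (1,2), (1,6), (0,0), (0,0), (0,0), (0,0),
    (0,0), (1,0), (1,2), (1,0), (1,3), (0,0), (1,0), (1,2), (0,0), (1,4),
    (0,0), (0,0), (1,0), (1,3), (0,0), (0,0), (1,1), (1,5), (1,0), (1,0),
    (1,4), (0,0), (0,0), (0,0), (1,0), (0,0), (1,3), (0,0), (1,1), (1,3),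
    (0,0), (1,1), (1,0), (0,0), (1,5), (1,0), (1,0), (0,0), (1,0), (1,8),
    (1,0), (0,0), (0,0), (0,0), (0,0), (1,0), (0,0), (1,4), (0,0), (1,1),
    (0,0), (1,1), (1,4), (0,0), (0,0), (0,0), (1,3), (1,0), (1,0)]

def sS1440Tree : List (ℕ × ℕ) :=
  sS1440Tree0 ++ sS1440Tree1 ++ sS1440Tree2

def sT15Start : List ℕ := [5279, 4038912, 12733024]

def sT15Gens : List ℕ := [
  884333444574242985858998375751586124,
  277064550287232346632716503440014608]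

def sT15Tree0 : List (ℕ × ℕ) := [
    (0,0), (0,0), (0,0), (0,0), (1,0), (1,3), (0,0), (1,1), (0,0), (1,4),
    (0,0), (1,0), (1,0), (0,0)]

def sT15Tree : List (ℕ × ℕ) :=
  sT15Tree0

def sT180Start : List ℕ := [5279, 1009728, 15762208]

def sT180Gens : List ℕ := [
  884333444574242985858998375751586124,
  277064550287232346632716503440014608]

def sT180Tree0 : List (ℕ × ℕ) := [
    (0,0), (0,0), (0,0), (0,0), (1,0), (1,0), (0,0), (0,0), (1,1), (1,6),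
    (0,0), (0,0), (0,0), (0,0), (0,0), (1,1), (1,3), (0,0), (0,0), (1,0),
    (1,2), (1,4), (0,0), (1,1), (0,0), (0,0), (1,2), (1,4), (0,0), (0,0),
    (0,0), (0,0), (1,0), (1,2), (1,3), (0,0), (1,0), (1,0), (1,3), (0,0),
    (1,4), (0,0), (0,0), (0,0), (1,0), (1,2), (1,3), (0,0), (1,1), (0,0),
    (1,0), (1,8), (0,0), (0,0), (1,0), (0,0), (1,1), (0,0), (1,0), (1,5),
    (0,0), (0,0), (0,0), (1,0), (0,0), (0,0), (1,4), (0,0), (0,0), (1,2),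
    (0,0), (1,5), (0,0), (1,0), (1,2), (1,4), (1,0), (1,0), (1,0), (0,0),
    (0,0), (1,8), (0,0), (0,0), (0,0), (0,0), (0,0), (0,0), (1,1), (1,2),
    (0,0), (1,0), (1,4), (0,0), (1,0), (1,2), (0,0), (1,0), (1,5), (0,0),
    (0,0), (1,0), (1,2), (0,0), (1,3), (0,0), (0,0), (1,1), (0,0), (1,3),
    (0,0), (1,1), (1,5), (0,0), (0,0), (0,0), (1,0), (1,4), (0,0), (1,0),
    (1,5), (0,0), (0,0), (0,0), (0,0), (0,0), (0,0), (1,4), (0,0), (0,0),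
    (1,2), (0,0), (0,0), (1,5), (0,0), (0,0), (1,0), (1,0), (0,0), (1,4),
    (1,2), (0,0), (0,0), (1,1), (1,0), (1,3), (0,0), (0,0), (1,1), (1,2),
    (1,5), (0,0), (0,0), (0,0), (0,0), (1,0), (1,2), (1,2), (1,2), (0,0),
    (0,0), (0,0), (0,0), (1,4), (0,0), (1,0), (0,0), (1,1), (1,3), (1,4),
    (0,0), (0,0), (0,0), (0,0), (1,2), (1,2), (0,0), (1,1), (0,0)]

def sT180Tree : List (ℕ × ℕ) :=
  sT180Tree0

def sT720Start : List ℕ := [18147, 1839388, 14919680]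

def sT720Gens : List ℕ := [
  884333444574242985858998375751586124,
  277064550287232346632716503440014608]

def sT720Tree0 : List (ℕ × ℕ) := [
    (0,0), (0,0), (0,0), (0,0), (0,0), (1,0), (0,0), (0,0), (0,0), (1,1),
    (1,2), (0,0), (0,0), (1,2), (0,0), (1,1), (1,0), (1,5), (0,0), (1,0),
    (1,0), (1,0), (1,7), (1,0), (0,0), (0,0), (0,0), (1,2), (0,0), (1,1),
    (0,0), (1,4), (0,0), (0,0), (1,1), (1,2), (0,0), (1,1), (0,0), (1,7),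
    (0,0), (0,0), (0,0), (0,0), (1,2), (0,0), (1,0), (1,0), (1,0), (1,4),
    (0,0), (0,0), (1,2), (0,0), (1,0), (1,2), (0,0), (1,6), (0,0), (0,0),
    (0,0), (1,0), (1,2), (1,2), (0,0), (1,3), (0,0), (0,0), (1,0), (0,0),
    (1,3), (0,0), (0,0), (1,1), (1,4), (0,0), (1,1), (1,5), (0,0), (0,0),
    (1,0), (1,2), (0,0), (0,0), (1,0), (1,3), (0,0), (0,0), (1,0), (1,2),
    (0,0), (1,3), (0,0), (0,0), (0,0), (1,3), (0,0), (1,6), (0,0), (0,0),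
    (0,0), (1,2), (0,0), (1,0), (1,4), (1,0), (0,0), (0,0), (1,0), (1,9),
    (0,0), (0,0), (0,0), (0,0), (0,0), (1,0), (1,0), (1,3), (0,0), (0,0),
    (1,0), (1,3), (0,0), (1,1), (1,4), (0,0), (0,0), (1,0), (1,5), (0,0),
    (0,0), (0,0), (0,0), (1,2), (1,0), (0,0), (1,4), (0,0), (0,0), (0,0),
    (1,3), (0,0), (1,1), (0,0), (1,5), (0,0), (0,0), (0,0), (1,1), (1,0),
    (1,3), (1,0), (0,0), (0,0), (1,2), (1,4), (1,0), (1,0), (1,6), (0,0),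
    (0,0), (0,0), (1,1), (0,0), (1,0), (0,0), (1,3), (1,3), (1,0), (0,0),
    (1,4), (0,0), (0,0), (0,0), (1,0), (1,2), (0,0), (1,1), (0,0), (1,4),
    (0,0), (1,1), (0,0), (1,4), (0,0), (0,0), (1,1), (0,0), (1,3), (1,5),
    (0,0), (0,0), (0,0), (0,0), (0,0), (1,0), (0,0), (1,4), (0,0), (0,0),
    (1,1), (1,5), (0,0), (0,0), (0,0), (1,1), (1,2), (0,0), (1,5), (0,0),
    (0,0), (0,0), (0,0), (1,1), (0,0), (1,1), (1,3), (1,0), (0,0), (1,4),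
    (0,0), (0,0), (0,0), (1,1), (1,2), (1,0), (1,3), (0,0), (1,0), (0,0),
    (1,3), (1,4), (0,0), (0,0), (0,0), (1,2), (1,2), (0,0), (0,0), (0,0),
    (1,0), (0,0), (1,3), (1,2), (0,0), (0,0), (1,10), (0,0), (0,0), (0,0),
    (0,0), (0,0), (0,0), (0,0), (1,2), (0,0), (1,0), (1,0), (1,6), (0,0),
    (1,0), (0,0), (0,0), (1,0), (1,0), (1,3), (0,0), (1,3), (1,3), (0,0),
    (0,0), (0,0), (1,3), (0,0), (0,0), (1,0), (1,2), (1,6), (0,0), (0,0),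
    (0,0), (0,0), (1,1), (1,2), (0,0), (1,3), (0,0), (0,0), (1,1), (1,2),
    (0,0), (1,0), (1,5), (0,0), (0,0), (0,0), (0,0), (1,1), (1,3), (1,2),
    (0,0), (0,0), (0,0), (0,0), (1,3), (1,2), (1,5), (0,0), (0,0), (0,0),
    (0,0), (0,0), (1,2), (0,0), (1,3), (0,0), (0,0), (0,0), (0,0), (1,2),
    (1,5), (0,0), (1,0), (0,0), (1,0), (1,2), (0,0), (1,1), (0,0), (1,5),
    (0,0), (0,0), (0,0), (1,2), (1,0), (1,3), (1,4), (0,0), (0,0), (0,0),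
    (0,0), (0,0), (1,2), (1,0), (1,0), (1,4), (0,0), (0,0), (1,1), (1,4),
    (0,0), (1,0), (1,0), (1,3), (1,3), (1,0), (0,0), (0,0), (1,1), (1,7),
    (0,0), (0,0), (1,0), (0,0), (0,0), (1,1), (1,2), (0,0), (0,0), (0,0),
    (1,1), (1,2), (1,2), (1,4), (0,0), (0,0), (0,0), (0,0), (1,0), (0,0),
    (1,4), (0,0), (0,0), (0,0), (1,2), (1,2), (1,0), (1,4), (0,0), (0,0),
    (1,0), (1,2), (1,0), (0,0), (1,6), (0,0), (0,0), (1,1), (0,0), (0,0),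
    (0,0), (1,5), (0,0), (1,0), (0,0), (1,0), (1,2), (0,0), (1,8), (0,0),
    (0,0), (0,0), (1,0), (1,0), (1,3), (0,0), (0,0), (1,0), (1,2), (0,0),
    (0,0), (1,4), (1,0), (0,0), (1,0), (1,2), (1,5), (0,0), (0,0), (0,0),
    (0,0), (1,4), (0,0), (1,0), (1,2), (0,0), (1,1), (1,5), (1,0), (0,0),
    (1,0), (1,8), (0,0), (0,0), (0,0), (0,0), (0,0), (0,0), (1,0), (0,0),
    (1,3), (0,0), (1,1), (1,3), (0,0), (0,0), (0,0), (1,1), (1,0), (1,3),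
    (0,0), (1,5), (0,0), (1,0), (0,0), (1,5), (0,0), (0,0), (0,0), (0,0),
    (0,0), (0,0), (1,3), (0,0), (1,1), (0,0), (1,5), (0,0), (0,0), (0,0),
    (0,0), (1,2), (0,0), (0,0), (1,4), (0,0), (1,1), (1,3), (0,0), (1,1),
    (1,4), (0,0), (0,0), (1,1), (0,0), (1,0), (1,2), (1,0), (1,0), (1,5)]

def sT720Tree1 : List (ℕ × ℕ) := [
    (1,0), (0,0), (0,0), (1,0), (1,2), (1,0), (1,3), (0,0), (1,0), (1,8),
    (0,0), (0,0), (0,0), (0,0), (0,0), (0,0), (0,0), (1,1), (1,4), (1,2),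
    (0,0), (1,0), (0,0), (0,0), (1,2), (1,0), (1,6), (0,0), (0,0), (1,0),
    (0,0), (1,1), (1,4), (0,0), (0,0), (0,0), (1,1), (1,3), (0,0), (1,0),
    (1,2), (0,0), (1,1), (1,6), (0,0), (0,0), (0,0), (0,0), (1,1), (0,0),
    (1,0), (1,4), (0,0), (0,0), (0,0), (1,2), (1,2), (0,0), (0,0), (1,5),
    (0,0), (0,0), (0,0), (0,0), (1,0), (1,2), (1,2), (1,2), (1,0), (1,0),
    (1,4), (1,0), (1,4), (0,0), (0,0), (0,0), (1,1), (1,2), (1,0), (0,0),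
    (0,0), (1,1), (1,5), (1,0), (0,0), (1,0), (0,0), (1,9), (0,0), (0,0),
    (0,0), (0,0), (0,0), (1,1), (0,0), (0,0), (1,4), (0,0), (1,0), (0,0),
    (1,5), (0,0), (0,0), (0,0), (1,0), (1,0), (1,0), (1,4), (1,0), (1,3),
    (0,0), (1,0), (0,0), (1,0), (1,4), (1,5), (0,0), (0,0), (0,0), (0,0),
    (0,0), (0,0), (1,1), (1,3), (0,0), (1,4), (0,0), (0,0), (0,0), (0,0),
    (1,1), (1,3), (1,0), (1,3), (0,0), (0,0), (1,1), (1,2), (0,0), (1,5),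
    (0,0), (0,0), (0,0), (1,1), (1,2), (0,0), (1,0), (1,2), (1,3), (0,0),
    (0,0), (0,0), (0,0), (1,2), (1,0), (1,3), (1,2), (1,0), (1,6), (0,0),
    (0,0), (1,0), (0,0), (0,0), (1,0), (1,2), (1,0), (1,0), (1,0), (1,5),
    (0,0), (0,0), (0,0), (1,2), (0,0), (0,0), (1,2), (1,3), (1,0), (1,0),
    (1,6), (0,0), (0,0), (1,0), (1,2), (1,2), (1,0), (0,0), (0,0), (1,1),
    (1,2), (1,5), (0,0), (1,0), (0,0), (0,0), (0,0), (1,1), (0,0), (1,3),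
    (1,0), (1,3), (0,0), (1,4), (0,0), (0,0), (0,0), (0,0), (1,2), (0,0),
    (0,0), (1,1), (1,2), (0,0), (1,4), (1,0), (0,0), (1,1), (0,0)]

def sT720Tree : List (ℕ × ℕ) :=
  sT720Tree0 ++ sT720Tree1

def sT2880Start : List ℕ := [10558, 902657, 15864000]

def sT2880Gens : List ℕ := [
  884333444574242985858998375751586124,
  277064550287232346632716503440014608]

def sT2880Tree0 : List (ℕ × ℕ) := [
    (0,0), (0,0), (0,0), (0,0), (0,0), (0,0), (0,0), (0,0), (0,0), (1,0),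
    (0,0), (0,0), (1,1), (0,0), (1,3), (0,0), (1,0), (1,2), (1,0), (1,5),
    (0,0), (0,0), (1,2), (0,0), (1,0), (0,0), (1,1), (1,3), (1,4), (0,0),
    (0,0), (0,0), (0,0), (1,1), (1,0), (1,4), (0,0), (1,1), (0,0), (1,0),
    (1,5), (0,0), (1,0), (0,0), (1,3), (0,0), (0,0), (1,2), (1,5), (0,0),
    (0,0), (0,0), (0,0), (1,1), (1,0), (1,0), (1,4), (1,2), (0,0), (0,0),
    (1,1), (0,0), (1,1), (0,0), (1,4), (0,0), (1,1), (1,4), (0,0), (1,0),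
    (0,0), (0,0), (1,0), (1,5), (0,0), (1,1), (0,0), (0,0), (0,0), (1,2),
    (1,0), (1,8), (1,0), (0,0), (1,0), (0,0), (0,0), (0,0), (1,3), (0,0),
    (0,0), (0,0), (1,2), (0,0), (1,1), (1,3), (1,4), (0,0), (0,0), (0,0),
    (0,0), (1,1), (1,2), (0,0), (1,1), (0,0), (1,4), (1,0), (0,0), (1,1),
    (1,4), (1,0), (0,0), (1,0), (1,8), (0,0), (0,0), (0,0), (0,0), (1,0),
    (0,0), (1,1), (0,0), (1,4), (0,0), (0,0), (0,0), (1,1), (0,0), (1,4),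
    (0,0), (0,0), (1,2), (0,0), (0,0), (1,2), (0,0), (1,6), (0,0), (0,0),
    (0,0), (1,0), (1,0), (1,4), (0,0), (1,0), (1,2), (1,3), (0,0), (1,0),
    (0,0), (0,0), (1,0), (1,5), (0,0), (1,0), (1,2), (0,0), (1,0), (1,7),
    (0,0), (0,0), (0,0), (0,0), (0,0), (1,3), (0,0), (0,0), (1,1), (1,2),
    (1,0), (1,4), (0,0), (0,0), (1,0), (1,2), (1,2), (0,0), (0,0), (1,2),
    (1,4), (0,0), (0,0), (0,0), (0,0), (1,1), (0,0), (1,5), (0,0), (0,0),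
    (0,0), (1,1), (0,0), (1,4), (1,0), (0,0), (1,7), (0,0), (0,0), (0,0),
    (0,0), (1,0), (0,0), (1,3), (1,0), (0,0), (1,1), (0,0), (1,5), (0,0),
    (1,0), (1,4), (0,0), (0,0), (0,0), (1,0), (1,2), (0,0), (1,4), (0,0),
    (0,0), (1,1), (0,0), (0,0), (1,2), (1,3), (0,0), (0,0), (0,0), (1,7),
    (0,0), (0,0), (0,0), (0,0), (1,1), (1,0), (1,3), (0,0), (1,0), (1,2),
    (1,0), (1,4), (1,0), (0,0), (0,0), (1,1), (1,0), (1,0), (1,4), (0,0),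
    (1,0), (1,2), (1,9), (0,0), (0,0), (0,0), (0,0), (1,0), (0,0), (0,0),
    (0,0), (1,2), (0,0), (1,1), (1,3), (0,0), (0,0), (1,5), (0,0), (0,0),
    (0,0), (1,1), (0,0), (1,0), (1,2), (1,3), (0,0), (1,1), (0,0), (0,0),
    (1,5), (1,0), (0,0), (0,0), (0,0), (1,2), (1,2), (1,5), (0,0), (0,0),
    (0,0), (0,0), (0,0), (1,3), (1,0), (1,4), (0,0), (0,0), (0,0), (0,0),
    (1,1), (1,3), (0,0), (1,1), (1,3), (0,0), (0,0), (1,2), (0,0), (0,0),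
    (1,1), (1,7), (0,0), (0,0), (0,0), (0,0), (0,0), (1,0), (1,2), (1,2),
    (0,0), (1,1), (1,3), (0,0), (0,0), (1,0), (1,2), (1,2), (0,0), (1,1),
    (0,0), (1,1), (1,5), (0,0), (0,0), (1,1), (0,0), (0,0), (1,4), (0,0),
    (0,0), (1,5), (0,0), (1,0), (0,0), (1,0), (1,4), (0,0), (0,0), (0,0),
    (0,0), (1,0), (1,3), (0,0), (0,0), (1,4), (0,0), (1,3), (0,0), (1,0),
    (0,0), (0,0), (1,2), (1,3), (0,0), (1,7), (0,0), (0,0), (0,0), (0,0),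
    (0,0), (0,0), (1,0), (1,2), (0,0), (1,0), (1,4), (0,0), (1,0), (0,0),
    (1,3), (0,0), (0,0), (0,0), (1,6), (1,0), (1,0), (1,0), (1,6), (0,0),
    (1,0), (0,0), (1,3), (0,0), (1,0), (0,0), (0,0), (1,2), (0,0), (1,1),
    (0,0), (1,5), (0,0), (0,0), (0,0), (1,1), (1,3), (1,0), (1,6), (0,0),
    (0,0), (0,0), (0,0), (1,0), (0,0), (1,1), (1,3), (0,0), (1,0), (1,2),
    (0,0), (1,0), (1,5), (1,0), (0,0), (1,1), (1,0), (1,0), (1,6), (0,0),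
    (0,0), (0,0), (0,0), (1,0), (1,3), (0,0), (0,0), (1,4), (1,2), (1,0),
    (0,0), (1,0), (1,2), (1,0), (1,6), (0,0), (0,0), (0,0), (0,0), (1,0),
    (1,0), (1,5), (1,0), (0,0), (0,0), (0,0), (1,2), (1,2), (0,0), (1,1),
    (0,0), (1,6), (0,0), (0,0), (0,0), (0,0), (1,0), (1,2), (1,2), (0,0),
    (1,1), (1,10), (0,0), (0,0), (0,0), (0,0), (0,0), (0,0), (0,0), (1,0),
    (1,0), (1,4), (0,0), (0,0), (0,0), (0,0), (1,0), (1,4), (0,0), (1,1),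
    (1,3), (0,0), (1,0), (0,0), (1,3), (1,0), (1,5), (0,0), (0,0), (0,0)]

def sT2880Tree1 : List (ℕ × ℕ) := [
    (0,0), (1,1), (1,0), (1,3), (0,0), (1,0), (1,0), (1,5), (1,0), (1,0),
    (1,4), (0,0), (0,0), (0,0), (1,1), (1,0), (0,0), (1,4), (0,0), (0,0),
    (1,4), (1,0), (0,0), (1,1), (1,6), (0,0), (0,0), (0,0), (0,0), (1,0),
    (1,3), (0,0), (1,1), (0,0), (1,1), (1,0), (1,0), (1,6), (0,0), (1,0),
    (0,0), (1,3), (1,0), (0,0), (1,5), (0,0), (0,0), (0,0), (0,0), (0,0),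
    (1,1), (1,4), (0,0), (1,0), (0,0), (1,5), (1,0), (0,0), (0,0), (1,2),
    (1,6), (0,0), (0,0), (1,1), (0,0), (0,0), (0,0), (1,0), (1,2), (1,3),
    (0,0), (0,0), (0,0), (1,3), (0,0), (1,1), (0,0), (1,1), (1,6), (0,0),
    (0,0), (0,0), (1,1), (1,0), (0,0), (0,0), (1,2), (1,0), (1,5), (0,0),
    (1,0), (1,2), (1,3), (0,0), (0,0), (0,0), (1,0), (1,4), (0,0), (0,0),
    (1,1), (1,2), (0,0), (1,0), (1,8), (0,0), (0,0), (0,0), (0,0), (0,0),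
    (1,1), (1,0), (0,0), (1,1), (1,4), (0,0), (1,3), (0,0), (0,0), (0,0),
    (0,0), (1,1), (1,2), (0,0), (1,0), (1,4), (0,0), (1,3), (0,0), (0,0),
    (1,1), (0,0), (1,3), (1,0), (1,0), (1,6), (0,0), (0,0), (1,0), (1,0),
    (0,0), (1,4), (1,2), (0,0), (0,0), (0,0), (0,0), (1,2), (0,0), (1,4),
    (0,0), (0,0), (0,0), (0,0), (1,2), (1,7), (0,0), (0,0), (0,0), (0,0),
    (0,0), (1,0), (1,0), (1,3), (1,2), (1,0), (1,0), (1,5), (0,0), (0,0),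
    (0,0), (1,0), (1,3), (0,0), (1,0), (0,0), (1,5), (0,0), (1,0), (1,0),
    (1,3), (0,0), (0,0), (1,1), (1,6), (0,0), (0,0), (0,0), (1,0), (0,0),
    (1,1), (1,0), (1,5), (0,0), (0,0), (1,0), (1,2), (1,0), (1,5), (0,0),
    (1,0), (0,0), (1,0), (1,4), (0,0), (0,0), (1,0), (0,0), (1,3), (0,0),
    (1,9), (0,0), (0,0), (0,0), (0,0), (0,0), (1,0), (0,0), (1,1), (1,3),
    (0,0), (0,0), (1,2), (0,0), (1,1), (1,4), (0,0), (0,0), (0,0), (1,3),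
    (0,0), (0,0), (1,0), (1,2), (1,0), (1,0), (1,4), (0,0), (0,0), (1,1),
    (1,2), (0,0), (0,0), (1,1), (1,7), (0,0), (0,0), (0,0), (1,0), (0,0),
    (0,0), (0,0), (1,5), (1,0), (1,3), (1,0), (1,0), (0,0), (0,0), (1,6),
    (0,0), (0,0), (0,0), (1,1), (1,0), (1,0), (1,0), (1,5), (0,0), (0,0),
    (1,1), (0,0), (1,5), (0,0), (0,0), (1,2), (0,0), (0,0), (1,7), (0,0),
    (0,0), (0,0), (0,0), (0,0), (1,1), (0,0), (1,1), (1,3), (0,0), (1,1),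
    (1,0), (1,4), (0,0), (0,0), (1,0), (1,0), (1,3), (0,0), (0,0), (1,4),
    (0,0), (1,0), (1,0), (1,3), (0,0), (0,0), (1,6), (0,0), (0,0), (1,1),
    (0,0), (1,1), (1,3), (0,0), (1,0), (0,0), (1,1), (1,3), (0,0), (0,0),
    (1,6), (0,0), (0,0), (0,0), (0,0), (0,0), (0,0), (1,3), (0,0), (1,1),
    (1,0), (0,0), (1,6), (0,0), (0,0), (1,0), (1,2), (0,0), (1,1), (1,3),
    (0,0), (0,0), (0,0), (1,2), (1,0), (1,3), (1,0), (1,5), (1,0), (0,0),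
    (1,0), (0,0), (1,1), (1,3), (1,6), (0,0), (0,0), (0,0), (0,0), (1,0),
    (0,0), (1,1), (1,3), (0,0), (0,0), (1,1), (0,0), (1,1), (1,3), (1,0),
    (1,0), (1,5), (0,0), (0,0), (0,0), (0,0), (1,0), (1,4), (0,0), (0,0),
    (0,0), (1,2), (1,2), (1,3), (0,0), (1,0), (1,0), (1,3), (1,0), (0,0),
    (1,6), (0,0), (0,0), (0,0), (0,0), (1,1), (0,0), (1,3), (0,0), (1,1),
    (0,0), (0,0), (1,6), (0,0), (0,0), (0,0), (1,2), (0,0), (1,1), (1,0),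
    (1,4), (0,0), (1,0), (1,2), (1,0), (0,0), (1,7), (0,0), (0,0), (0,0),
    (0,0), (1,0), (1,2), (0,0), (1,0), (1,2), (1,3), (0,0), (0,0), (1,0),
    (1,2), (0,0), (1,1), (0,0), (1,6), (1,0), (0,0), (0,0), (0,0), (1,3),
    (1,0), (1,5), (1,6), (0,0), (0,0), (0,0), (0,0), (0,0), (0,0), (0,0),
    (0,0), (1,0), (0,0), (1,0), (1,2), (0,0), (1,1), (1,4), (1,0), (1,0),
    (0,0), (1,5), (0,0), (1,1), (1,3), (0,0), (0,0), (1,1), (0,0), (1,3),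
    (1,0), (0,0), (1,0), (1,6), (0,0), (0,0), (1,0), (0,0), (0,0), (1,1),
    (1,2), (1,0), (1,4), (0,0), (0,0), (1,1), (0,0), (1,0), (1,2), (1,0),
    (1,4), (1,0), (1,0), (1,5), (0,0), (0,0), (0,0), (0,0), (1,2), (0,0)]

def sT2880Tree2 : List (ℕ × ℕ) := [
    (1,3), (0,0), (0,0), (1,2), (1,6), (0,0), (0,0), (0,0), (0,0), (1,0),
    (1,0), (1,3), (0,0), (0,0), (1,1), (1,4), (0,0), (0,0), (1,1), (0,0),
    (1,1), (0,0), (1,6), (0,0), (0,0), (0,0), (1,0), (1,2), (1,0), (0,0),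
    (1,4), (1,0), (0,0), (1,1), (1,4), (0,0), (0,0), (1,0), (1,2), (0,0),
    (1,1), (1,3), (0,0), (0,0), (1,1), (0,0), (1,3), (1,5), (0,0), (1,1),
    (0,0), (0,0), (0,0), (0,0), (1,2), (1,0), (1,0), (1,4), (0,0), (1,0),
    (1,4), (1,0), (1,6), (0,0), (0,0), (0,0), (0,0), (0,0), (0,0), (1,1),
    (1,0), (0,0), (1,4), (1,0), (0,0), (1,0), (1,5), (0,0), (0,0), (1,2),
    (0,0), (1,0), (1,2), (1,4), (0,0), (0,0), (0,0), (1,2), (1,2), (0,0),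
    (0,0), (1,1), (1,2), (1,0), (0,0), (1,6), (0,0), (0,0), (0,0), (0,0),
    (1,0), (1,2), (1,0), (1,3), (1,2), (0,0), (0,0), (1,1), (1,0), (1,5),
    (0,0), (0,0), (1,1), (0,0), (1,0), (1,2), (1,0), (0,0), (1,5), (0,0),
    (0,0), (1,1), (1,2), (0,0), (1,0), (1,2), (0,0), (0,0), (1,8), (0,0),
    (0,0), (0,0), (0,0), (0,0), (1,0), (1,0), (1,3), (0,0), (1,3), (0,0),
    (1,0), (0,0), (1,0), (1,4), (0,0), (0,0), (1,5), (0,0), (1,0), (0,0),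
    (1,3), (0,0), (0,0), (1,2), (0,0), (1,5), (0,0), (1,0), (0,0), (0,0),
    (1,4), (0,0), (0,0), (1,1), (0,0), (1,0), (1,2), (1,3), (0,0), (1,5),
    (0,0), (0,0), (0,0), (0,0), (1,1), (1,3), (0,0), (0,0), (1,0), (0,0),
    (1,3), (1,2), (0,0), (1,1), (1,4), (0,0), (0,0), (1,0), (1,2), (1,0),
    (0,0), (1,0), (1,0), (1,3), (1,0), (1,5), (0,0), (1,7), (0,0), (0,0),
    (0,0), (0,0), (0,0), (0,0), (1,0), (1,2), (0,0), (0,0), (1,4), (0,0),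
    (0,0), (1,1), (0,0), (1,1), (1,3), (0,0), (1,0), (1,6), (0,0), (0,0),
    (1,0), (1,2), (0,0), (0,0), (1,1), (0,0), (1,5), (0,0), (0,0), (1,0),
    (1,0), (0,0), (1,4), (0,0), (1,0), (1,0), (1,0), (1,6), (0,0), (0,0),
    (0,0), (1,2), (0,0), (1,3), (0,0), (1,0), (1,2), (0,0), (1,7), (0,0),
    (0,0), (0,0), (0,0), (1,1), (1,0), (0,0), (1,4), (0,0), (0,0), (0,0),
    (1,0), (1,3), (1,2), (1,3), (0,0), (0,0), (0,0), (0,0), (1,1), (1,2),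
    (1,2), (1,0), (1,3), (0,0), (0,0), (1,1), (0,0), (1,3), (1,4), (0,0),
    (0,0), (0,0), (1,0), (1,0), (1,3), (1,2), (1,0), (0,0), (1,1), (0,0),
    (1,5), (0,0), (1,0), (0,0), (1,1), (1,3), (0,0), (0,0), (0,0), (1,8),
    (0,0), (0,0), (0,0), (0,0), (0,0), (0,0), (0,0), (1,1), (1,2), (0,0),
    (1,4), (1,0), (1,3), (0,0), (0,0), (1,0), (0,0), (1,0), (1,4), (0,0),
    (0,0), (1,0), (1,5), (1,0), (0,0), (0,0), (1,2), (1,5), (0,0), (0,0),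
    (0,0), (0,0), (1,2), (1,0), (1,0), (1,4), (0,0), (1,1), (1,3), (0,0),
    (1,0), (1,0), (1,3), (1,0), (0,0), (1,0), (0,0), (1,3), (0,0), (1,7),
    (0,0), (0,0), (1,0), (1,0), (1,3), (0,0), (0,0), (1,0), (1,2), (1,4),
    (0,0), (0,0), (0,0), (1,0), (1,3), (0,0), (0,0), (1,2), (0,0), (1,1),
    (0,0), (1,1), (0,0), (1,6), (0,0), (1,0), (0,0), (0,0), (0,0), (1,1),
    (1,3), (0,0), (1,1), (1,10), (0,0), (0,0), (0,0), (0,0), (0,0), (0,0),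
    (0,0), (0,0), (1,3), (0,0), (0,0), (0,0), (1,1), (1,2), (0,0), (1,1),
    (1,5), (0,0), (0,0), (1,0), (0,0), (1,1), (1,3), (0,0), (0,0), (1,4),
    (0,0), (0,0), (1,0), (0,0), (0,0), (1,5), (0,0), (1,5), (0,0), (0,0),
    (1,0), (1,2), (0,0), (0,0), (0,0), (0,0), (1,2), (1,2), (0,0), (0,0),
    (1,8), (0,0), (0,0), (0,0), (1,0), (0,0), (1,3), (0,0), (0,0), (1,0),
    (1,2), (1,2), (1,3), (0,0), (0,0), (1,1), (0,0), (1,0), (0,0), (1,5),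
    (0,0), (0,0), (1,0), (1,0), (1,3), (1,2), (0,0), (0,0), (0,0), (1,3),
    (1,5), (0,0), (0,0), (1,0), (0,0), (1,3), (0,0), (1,0), (0,0), (1,3),
    (1,3), (0,0), (0,0), (0,0), (1,3), (0,0), (0,0), (1,1), (1,0), (1,3),
    (0,0), (1,0), (1,8), (0,0), (0,0), (0,0), (0,0), (0,0), (1,0), (0,0),
    (1,3), (0,0), (1,1), (0,0), (1,1), (1,4), (0,0), (0,0), (1,1), (0,0)]

def sT2880Tree3 : List (ℕ × ℕ) := [
    (1,1), (0,0), (1,1), (1,6), (1,3), (0,0), (0,0), (0,0), (1,0), (0,0),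
    (0,0), (1,2), (0,0), (1,1), (1,4), (0,0), (1,0), (0,0), (1,1), (1,3),
    (1,3), (0,0), (1,0), (0,0), (1,3), (1,0), (0,0), (1,5), (0,0), (0,0),
    (1,0), (0,0), (0,0), (1,4), (1,0), (1,3), (0,0), (0,0), (0,0), (1,2),
    (0,0), (0,0), (1,1), (1,4), (0,0), (0,0), (1,0), (1,0), (1,3), (1,8),
    (0,0), (0,0), (0,0), (0,0), (1,0), (0,0), (0,0), (1,0), (1,0), (1,3),
    (0,0), (0,0), (1,2), (1,3), (1,0), (1,0), (0,0), (1,6), (0,0), (0,0),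
    (0,0), (0,0), (1,1), (1,2), (0,0), (1,4), (0,0), (0,0), (0,0), (1,1),
    (1,3), (0,0), (1,0), (1,6), (0,0), (0,0), (0,0), (0,0), (1,0), (1,2),
    (1,2), (1,0), (1,0), (1,4), (0,0), (0,0), (1,0), (0,0), (1,1), (1,3),
    (1,0), (0,0), (1,6), (0,0), (1,1), (0,0), (1,0), (0,0), (1,7), (0,0),
    (0,0), (0,0), (0,0), (0,0), (0,0), (1,4), (0,0), (1,1), (1,0), (0,0),
    (1,1), (0,0), (1,1), (1,6), (1,0), (1,0), (0,0), (0,0), (1,1), (1,2),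
    (1,0), (1,6), (0,0), (0,0), (0,0), (0,0), (1,0), (1,2), (1,2), (0,0),
    (0,0), (1,2), (1,4), (0,0), (1,0), (0,0), (0,0), (1,0), (1,9), (0,0),
    (0,0), (0,0), (0,0), (1,1), (1,0), (1,0), (0,0), (1,0), (1,6), (0,0),
    (0,0), (0,0), (1,1), (1,0), (1,0), (1,4), (0,0), (1,1), (1,5), (0,0),
    (0,0), (0,0), (1,0), (0,0), (1,3), (0,0), (1,0), (1,0), (1,3), (0,0),
    (1,4), (1,0), (0,0), (0,0), (1,1), (1,5), (0,0), (1,0), (0,0), (0,0),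
    (1,1), (1,2), (1,3), (0,0), (1,0), (1,6), (0,0), (0,0), (0,0), (0,0),
    (1,2), (1,0), (0,0), (1,0), (0,0), (1,3), (0,0), (1,5), (0,0), (0,0),
    (0,0), (1,0), (1,0), (1,3), (1,2), (1,2), (1,0), (0,0), (0,0), (1,1),
    (0,0), (1,1), (1,3), (1,0), (1,12), (0,0), (0,0), (0,0), (0,0), (0,0),
    (0,0), (0,0), (1,0), (0,0), (1,0), (0,0), (1,1), (0,0), (1,4), (1,0),
    (1,0), (1,5), (0,0), (0,0), (0,0), (0,0), (1,2), (1,3), (0,0), (1,1),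
    (1,0), (0,0), (1,6), (0,0), (0,0), (0,0), (0,0), (1,1), (1,0), (1,3),
    (0,0), (1,1), (1,3), (0,0), (1,0), (1,0), (1,3), (1,3), (0,0), (1,0),
    (0,0), (1,0), (1,4), (0,0), (1,0), (1,2), (0,0), (1,1), (0,0), (1,7),
    (0,0), (0,0), (0,0), (0,0), (1,1), (1,0), (1,3), (0,0), (0,0), (1,1),
    (1,4), (0,0), (1,0), (0,0), (0,0), (1,0), (1,2), (1,2), (1,3), (0,0),
    (1,0), (1,2), (1,4), (1,0), (0,0), (0,0), (0,0), (1,1), (1,0), (1,4),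
    (0,0), (1,1), (0,0), (0,0), (1,8), (0,0), (0,0), (0,0), (0,0), (1,0),
    (1,2), (0,0), (1,0), (1,0), (1,3), (1,0), (0,0), (0,0), (1,2), (1,5),
    (0,0), (0,0), (1,0), (1,0), (1,3), (0,0), (1,3), (0,0), (1,0), (1,5),
    (0,0), (0,0), (0,0), (0,0), (1,3), (1,0), (0,0), (0,0), (1,5), (0,0),
    (0,0), (1,0), (1,0), (1,3), (1,2), (0,0), (0,0), (1,0), (1,2), (1,0),
    (1,3), (0,0), (0,0), (1,7), (0,0), (0,0), (0,0), (0,0), (0,0), (1,1),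
    (1,2), (1,0), (0,0), (1,4), (1,3), (0,0), (0,0), (0,0), (0,0), (1,0),
    (1,2), (1,2), (1,2), (1,2), (0,0), (0,0), (0,0), (1,2), (1,7), (0,0),
    (0,0), (0,0), (0,0), (1,0), (0,0), (1,1), (0,0), (0,0), (1,2), (0,0),
    (1,5), (1,0), (0,0), (1,0), (0,0), (1,1), (1,0), (1,4), (1,0), (0,0),
    (1,0), (1,7), (0,0), (0,0), (0,0), (1,1), (0,0), (0,0), (0,0), (1,5),
    (0,0), (0,0), (1,2), (1,3), (0,0), (0,0), (0,0), (0,0), (1,0), (1,3),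
    (1,2), (0,0), (1,1), (1,6), (0,0), (0,0), (0,0), (0,0), (1,1), (1,0),
    (1,0), (1,4), (0,0), (1,0), (1,2), (1,0), (0,0), (1,0), (1,2), (0,0),
    (1,6), (0,0), (0,0), (1,1), (1,0), (0,0), (1,4), (0,0), (0,0), (1,2),
    (0,0), (1,5), (0,0), (0,0), (0,0), (0,0), (0,0), (1,3), (1,2), (0,0),
    (0,0), (0,0), (1,1), (1,3), (0,0), (0,0), (1,1), (1,2), (1,4), (0,0),
    (1,0), (1,0), (0,0), (1,4), (0,0), (0,0), (1,1), (0,0), (1,1), (1,0),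
    (1,9), (0,0), (0,0), (0,0), (0,0), (1,0), (1,0), (0,0), (1,4), (0,0)]

def sT2880Tree4 : List (ℕ × ℕ) := [
    (0,0), (1,1), (1,0), (1,0), (1,6), (0,0), (1,0), (0,0), (1,0), (0,0),
    (1,5), (1,0), (1,0), (1,5), (0,0), (0,0), (0,0), (0,0), (0,0), (1,0),
    (1,5), (0,0), (0,0), (1,4), (0,0), (1,1), (0,0), (1,0), (1,2), (1,5),
    (0,0), (0,0), (0,0), (0,0), (1,0), (1,2), (0,0), (1,0), (1,5), (0,0),
    (0,0), (0,0), (1,0), (1,2), (1,3), (0,0), (0,0), (1,0), (1,3), (0,0),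
    (1,0), (1,0), (1,3), (1,0), (1,6), (0,0), (0,0), (0,0), (0,0), (1,2),
    (1,0), (0,0), (1,4), (1,2), (0,0), (0,0), (0,0), (0,0), (1,2), (0,0),
    (1,0), (1,11), (0,0), (0,0), (0,0), (0,0), (0,0), (0,0), (1,0), (0,0),
    (1,1), (1,3), (0,0), (1,3), (0,0), (0,0), (1,0), (0,0), (0,0), (1,4),
    (0,0), (0,0), (1,1), (1,0), (1,5), (0,0), (0,0), (1,0), (1,3), (1,4),
    (0,0), (0,0), (0,0), (1,0), (0,0), (1,3), (1,2), (0,0), (1,1), (0,0),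
    (1,1), (0,0), (1,0), (1,2), (1,5), (0,0), (0,0), (0,0), (1,1), (1,3),
    (0,0), (0,0), (0,0), (1,0), (1,2), (1,7), (0,0), (0,0), (0,0), (0,0),
    (0,0), (1,1), (0,0), (0,0), (1,4), (0,0), (0,0), (1,4), (1,3), (0,0),
    (0,0), (0,0), (0,0), (1,2), (0,0), (0,0), (1,4), (0,0), (1,0), (0,0),
    (1,0), (1,2), (1,3), (0,0), (1,1), (1,0), (1,5), (0,0), (0,0), (0,0),
    (1,0), (1,2), (1,0), (1,4), (0,0), (0,0), (1,0), (1,3), (0,0), (0,0),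
    (1,1), (0,0), (1,9), (0,0), (0,0), (1,0), (0,0), (0,0), (0,0), (1,1),
    (1,2), (0,0), (1,3), (0,0), (0,0), (1,5), (0,0), (0,0), (1,0), (1,0),
    (1,3), (0,0), (1,3), (0,0), (0,0), (0,0), (1,2), (1,0), (1,3), (0,0),
    (0,0), (1,6), (0,0), (0,0), (0,0), (0,0), (1,1), (0,0), (1,1), (0,0),
    (1,1), (1,4), (0,0), (0,0), (1,4), (0,0), (1,0), (0,0), (1,0), (1,0),
    (1,7), (0,0), (0,0), (1,0), (1,3), (0,0), (0,0), (1,1), (0,0), (1,8),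
    (0,0), (0,0), (0,0), (0,0), (1,0), (0,0), (0,0), (0,0), (1,1), (1,3),
    (0,0), (1,4), (0,0), (1,3), (0,0), (0,0), (0,0), (1,2), (1,0), (0,0),
    (1,4), (1,0), (0,0), (0,0), (0,0), (1,2), (0,0), (1,7), (0,0), (0,0),
    (0,0), (0,0), (0,0), (1,1), (1,0), (1,3), (0,0), (1,4), (0,0), (1,1),
    (0,0), (0,0), (0,0), (1,3), (0,0), (1,1), (1,7), (0,0), (0,0), (0,0),
    (0,0), (1,0), (0,0), (1,0), (1,2), (1,3), (0,0), (0,0), (1,1), (1,2),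
    (1,0), (1,4), (0,0), (1,0), (0,0), (0,0), (1,4), (1,3), (0,0), (0,0),
    (0,0), (0,0), (1,1), (1,0), (1,4), (1,0), (0,0), (1,1), (0,0), (1,1),
    (1,5), (0,0), (0,0), (0,0), (1,0), (1,2), (1,2), (0,0), (1,3), (0,0),
    (1,0), (0,0), (1,7), (0,0), (0,0), (0,0), (1,0), (1,0), (1,0), (1,0),
    (1,5), (0,0), (0,0), (1,1), (1,0), (1,3), (1,0), (1,0), (1,5), (0,0),
    (0,0), (0,0), (1,0), (1,3), (1,2), (0,0), (0,0), (1,0), (1,3), (1,0),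
    (1,0), (1,6), (0,0), (0,0), (0,0), (0,0), (1,3), (1,8), (0,0), (0,0),
    (0,0), (0,0), (0,0), (0,0), (1,0), (0,0), (0,0), (1,2), (0,0), (1,1),
    (1,4), (0,0), (1,0), (1,0), (1,0), (1,4), (0,0), (1,0), (0,0), (1,3),
    (1,4), (0,0), (0,0), (0,0), (1,0), (0,0), (1,1), (0,0), (1,4), (1,3),
    (0,0), (1,0), (1,2), (0,0), (1,1), (0,0), (1,6), (0,0), (0,0), (0,0),
    (1,1), (0,0), (0,0), (0,0), (1,2), (1,0), (1,3), (0,0), (1,4), (0,0),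
    (0,0), (1,0), (1,2), (1,0), (0,0), (1,4), (1,0), (0,0), (0,0), (1,1),
    (1,2), (1,5), (0,0), (0,0), (0,0), (0,0), (1,1), (1,0), (1,4), (0,0),
    (1,1), (1,0), (1,4), (0,0), (0,0), (1,0), (0,0), (1,1), (1,3), (1,0),
    (1,3), (0,0), (1,6), (0,0), (0,0), (0,0), (0,0), (1,0), (0,0), (1,0),
    (1,2), (0,0), (1,4), (0,0), (1,3), (0,0), (0,0), (1,1), (0,0), (1,1),
    (0,0), (1,4), (0,0), (0,0), (1,0), (1,0), (1,3), (1,2), (0,0), (0,0),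
    (1,2), (1,5), (0,0), (0,0), (0,0), (1,2), (0,0), (1,0), (1,4), (0,0),
    (0,0), (1,2), (1,0), (0,0), (1,1), (0,0), (1,0), (1,8), (1,0), (0,0),
    (0,0), (0,0), (0,0), (1,0), (1,2), (0,0), (1,1), (1,0), (1,5), (0,0)]

def sT2880Tree5 : List (ℕ × ℕ) := [
    (1,1), (1,7), (0,0), (0,0), (0,0), (0,0), (0,0), (0,0), (1,0), (0,0),
    (0,0), (1,5), (0,0), (1,0), (1,2), (1,0), (0,0), (1,1), (1,5), (0,0),
    (1,1), (0,0), (0,0), (1,0), (1,2), (1,2), (1,0), (1,0), (1,6), (0,0),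
    (0,0), (0,0), (1,2), (0,0), (1,1), (1,3), (0,0), (0,0), (0,0), (1,1),
    (0,0), (1,4), (0,0), (0,0), (0,0), (1,0), (1,2), (1,2), (0,0), (0,0),
    (1,4), (0,0), (1,1), (1,6), (0,0), (0,0), (1,0), (0,0), (0,0), (1,4),
    (0,0), (0,0), (1,1), (0,0), (1,3), (0,0), (0,0), (0,0), (1,2), (1,2),
    (0,0), (1,5), (0,0), (1,0), (1,5), (0,0), (0,0), (0,0), (0,0), (0,0),
    (1,1), (0,0), (1,1), (1,0), (1,4), (0,0), (0,0), (1,1), (0,0), (1,3),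
    (0,0), (1,0), (1,2), (0,0), (1,1), (1,5), (0,0), (0,0), (0,0), (0,0),
    (0,0), (1,4), (0,0), (0,0), (1,1), (0,0), (1,3), (1,5), (0,0), (0,0),
    (1,0), (1,0), (0,0), (1,4), (0,0), (1,1), (1,0), (0,0), (1,7), (0,0),
    (0,0), (0,0), (0,0), (1,1), (0,0), (0,0), (1,4), (0,0), (0,0), (0,0),
    (1,3), (0,0), (1,0), (0,0), (1,6), (1,2), (0,0), (0,0), (1,1), (1,0),
    (1,3), (0,0), (1,0), (0,0), (0,0), (1,1), (1,10), (0,0), (0,0), (0,0),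
    (0,0), (1,0), (0,0), (1,0), (1,2), (1,0), (1,0), (0,0), (1,1), (1,6),
    (0,0), (0,0), (0,0), (0,0), (1,0), (1,2), (1,0), (1,3), (1,0), (1,3),
    (0,0), (0,0), (0,0), (1,0), (1,6), (0,0), (0,0), (1,0), (1,0), (1,3),
    (0,0), (1,3), (0,0), (1,0), (1,2), (0,0), (1,6), (0,0), (0,0), (1,0),
    (1,0), (0,0), (1,0), (1,5), (0,0), (1,0), (1,0), (0,0), (1,1), (1,4),
    (0,0), (0,0), (1,1), (1,0), (1,0), (1,4), (1,4), (0,0), (0,0), (0,0),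
    (1,0), (1,0), (1,3), (1,0), (1,0), (1,4), (0,0), (1,1), (1,0), (0,0),
    (1,5), (0,0), (0,0), (1,1), (0,0), (1,0), (1,4), (0,0), (0,0), (1,1),
    (1,0), (1,3), (0,0), (1,0), (1,8), (0,0), (0,0), (0,0), (1,0), (1,0),
    (1,0), (1,5), (1,0), (0,0), (0,0), (1,2), (0,0), (1,1), (1,5), (0,0),
    (0,0), (1,0), (0,0), (0,0), (1,1), (1,0), (1,3), (1,0), (1,4), (0,0),
    (0,0), (0,0), (1,2), (0,0), (1,1), (0,0), (1,4), (0,0), (1,1), (0,0),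
    (1,0), (1,2), (1,0), (1,6), (0,0), (0,0), (0,0), (1,1), (0,0), (1,1),
    (1,3), (0,0), (0,0), (0,0), (1,2), (1,8), (0,0), (0,0), (0,0), (0,0),
    (1,0), (0,0), (1,0), (1,4), (0,0), (0,0), (1,1), (1,2), (0,0), (0,0),
    (1,2), (0,0), (1,1), (0,0), (1,6), (0,0), (0,0), (0,0), (1,2), (0,0),
    (0,0), (1,1), (1,4), (0,0), (0,0), (0,0), (1,1), (1,2), (1,2), (0,0),
    (1,1), (1,5), (0,0), (0,0), (0,0), (1,0), (1,0), (1,3), (1,0), (1,0),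
    (1,4), (1,0), (0,0), (1,1), (0,0), (1,1), (1,0), (1,6), (1,0), (0,0),
    (0,0), (1,2), (0,0), (1,1), (1,6), (0,0), (0,0), (0,0), (0,0), (1,0),
    (1,2), (1,2), (0,0), (1,0), (1,0), (1,3), (0,0), (0,0), (1,2), (0,0),
    (0,0), (1,1), (1,2), (1,5), (0,0), (1,0), (1,0), (1,0), (1,4), (0,0),
    (0,0), (0,0), (1,2), (0,0), (1,0), (1,4), (0,0), (0,0), (1,1)]

def sT2880Tree : List (ℕ × ℕ) :=
  sT2880Tree0 ++ sT2880Tree1 ++ sT2880Tree2 ++ sT2880Tree3 ++ sT2880Tree4 ++ sT2880Tree5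

def tO3Start : List ℕ := [5279]

def tO3Gens : List ℕ := [
  479582228869969567225344139499409794,
  714489285119355298282256613060413772,
  605559311598629538815186954862514453]

def tO3Tree0 : List (ℕ × ℕ) := [
    (2,0), (0,0)]

def tO3Tree : List (ℕ × ℕ) :=
  tO3Tree0

def tO84Start : List ℕ := [90318]

def tO84Gens : List ℕ := [
  479582228869969567225344139499409794,
  714489285119355298282256613060413772,
  605559311598629538815186954862514453]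

def tO84Tree0 : List (ℕ × ℕ) := [
    (0,0), (0,0), (0,0), (1,0), (0,0), (2,1), (2,2), (0,0), (1,3), (0,0),
    (0,0), (1,2), (2,1), (2,2), (0,0), (1,0), (2,2), (1,3), (0,0), (0,0),
    (1,0), (1,2), (1,0), (2,0), (2,2), (2,2), (0,0), (1,3), (1,0), (2,1),
    (1,0), (2,3), (0,0), (1,1), (2,1), (0,0), (2,4), (2,0), (0,0), (1,1),
    (2,0), (1,5), (0,0), (0,0), (0,0), (1,1), (1,2), (1,0), (2,0), (2,2),
    (1,0), (2,3), (1,2), (0,0), (1,0), (2,1), (1,2), (1,0), (2,1), (2,3),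
    (0,0), (1,1), (2,1), (1,0), (0,0), (2,5), (0,0), (1,0), (0,0), (2,1),
    (2,2), (1,0), (2,1), (1,3), (0,0), (0,0), (2,1), (2,3), (0,0), (2,0),
    (1,2), (0,0), (1,0)]

def tO84Tree : List (ℕ × ℕ) :=
  tO84Tree0

def tO672Start : List ℕ := [10558]

def tO672Gens : List ℕ := [
  479582228869969567225344139499409794,
  714489285119355298282256613060413772,
  605559311598629538815186954862514453]

def tO672Tree0 : List (ℕ × ℕ) := [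
    (0,0), (0,0), (0,0), (1,0), (0,0), (0,0), (2,0), (1,2), (0,0), (1,3),
    (2,1), (0,0), (0,0), (2,1), (1,2), (2,3), (0,0), (2,0), (1,0), (1,3),
    (1,0), (2,1), (0,0), (2,3), (2,0), (1,0), (2,1), (1,5), (0,0), (0,0),
    (0,0), (1,0), (0,0), (1,4), (2,0), (0,0), (2,1), (2,3), (0,0), (2,0),
    (1,2), (1,3), (0,0), (0,0), (0,0), (1,1), (2,3), (0,0), (2,0), (2,2),
    (0,0), (2,4), (0,0), (0,0), (2,1), (2,0), (1,3), (0,0), (1,0), (1,0),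
    (1,3), (1,0), (2,2), (2,2), (0,0), (0,0), (1,0), (1,3), (1,0), (2,1),
    (2,2), (2,4), (0,0), (0,0), (1,0), (1,2), (1,0), (2,1), (1,0), (0,0),
    (2,4), (2,0), (1,0), (1,4), (2,0), (0,0), (1,1), (1,0), (2,4), (1,0),
    (0,0), (1,0), (2,2), (1,0), (1,6), (0,0), (0,0), (0,0), (1,0), (2,1),
    (1,2), (0,0), (0,0), (1,1), (0,0), (2,2), (1,2), (0,0), (2,2), (2,2),
    (0,0), (0,0), (1,2), (2,0), (2,2), (1,3), (0,0), (0,0), (0,0), (1,1),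
    (1,2), (1,2), (1,0), (2,0), (2,3), (0,0), (2,0), (2,4), (0,0), (0,0),
    (1,0), (1,2), (0,0), (2,1), (2,2), (2,0), (1,3), (0,0), (1,0), (1,2),
    (1,0), (2,2), (2,2), (0,0), (1,1), (0,0), (2,2), (1,4), (0,0), (0,0),
    (1,0), (2,1), (0,0), (0,0), (2,2), (1,3), (0,0), (2,1), (2,2), (0,0),
    (1,0), (0,0), (2,3), (0,0), (2,1), (1,4), (0,0), (0,0), (2,0), (1,2),
    (2,0), (1,3), (0,0), (1,0), (1,2), (0,0), (2,3), (0,0), (0,0), (2,2),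
    (2,3), (0,0), (0,0), (2,0), (1,3), (1,0), (2,1), (2,0), (2,3), (0,0),
    (1,0), (2,5), (0,0), (0,0), (0,0), (1,0), (1,2), (0,0), (2,2), (1,2),
    (0,0), (1,1), (2,0), (2,2), (2,2), (0,0), (1,1), (2,1), (0,0), (1,4),
    (0,0), (0,0), (1,1), (0,0), (2,2), (1,2), (0,0), (2,3), (0,0), (0,0),
    (1,1), (1,2), (0,0), (2,2), (0,0), (1,0), (1,2), (2,0), (2,2), (2,5),
    (0,0), (0,0), (0,0), (1,0), (0,0), (1,3), (0,0), (2,0), (1,2), (0,0),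
    (2,2), (0,0), (2,1), (2,3), (0,0), (1,1), (1,0), (2,2), (1,0), (1,4),
    (0,0), (0,0), (0,0), (1,2), (1,2), (0,0), (1,0), (2,1), (2,4), (0,0),
    (1,0), (0,0), (2,1), (2,2), (1,2), (0,0), (2,1), (1,0), (1,5), (0,0),
    (0,0), (0,0), (1,1), (2,0), (2,2), (2,0), (1,3), (1,0), (2,0), (2,2),
    (0,0), (2,3), (1,0), (1,0), (2,1), (2,2), (1,3), (0,0), (0,0), (1,1),
    (1,0), (1,3), (1,0), (2,1), (2,2), (1,0), (2,1), (2,3), (0,0), (0,0),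
    (2,1), (1,2), (2,0), (2,2), (0,0), (1,1), (2,0), (2,5), (0,0), (0,0),
    (1,0), (1,2), (0,0), (2,1), (2,2), (2,0), (1,3), (0,0), (0,0), (1,2),
    (1,0), (2,2), (0,0), (1,1), (2,3), (0,0), (0,0), (0,0), (2,1), (1,2),
    (1,2), (2,0), (2,2), (1,5), (0,0), (0,0), (0,0), (2,0), (0,0), (2,1),
    (1,0), (1,4), (0,0), (1,0), (0,0), (1,3), (1,0), (2,1), (2,0), (2,3),
    (0,0), (0,0), (2,2), (2,0), (2,4), (1,0), (2,1), (0,0), (1,1), (2,1),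
    (1,4), (0,0), (1,0), (0,0), (1,3), (0,0), (1,0), (2,1), (1,0), (2,3),
    (0,0), (1,1), (2,3), (0,0), (1,0), (0,0), (2,2), (0,0), (2,5), (0,0),
    (0,0), (1,0), (1,2), (0,0), (1,3), (0,0), (2,0), (1,2), (1,0), (1,0),
    (2,1), (2,3), (1,0), (1,0), (2,2), (2,3), (0,0), (1,4), (0,0), (0,0),
    (0,0), (1,0), (1,2), (1,0), (2,2), (0,0), (1,1), (1,3), (0,0), (1,0),
    (2,1), (1,2), (0,0), (2,2), (2,2), (1,0), (1,0), (2,2), (1,3), (1,0),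
    (0,0), (1,1), (2,0), (2,3), (0,0), (0,0), (1,2), (0,0), (2,0), (2,3),
    (0,0), (2,4), (0,0), (0,0), (0,0), (1,2), (2,0), (0,0), (2,3), (2,0),
    (1,3), (0,0), (2,1), (1,0), (2,3), (0,0), (0,0), (1,2), (0,0), (2,2),
    (0,0), (2,5), (0,0), (0,0), (0,0), (1,0), (0,0), (1,3), (0,0), (1,1),
    (2,2), (0,0), (2,0), (1,4), (0,0), (2,0), (2,2), (1,0), (2,0), (2,4),
    (1,2), (0,0), (0,0), (1,1), (2,0), (2,0), (2,3), (0,0), (1,0), (2,1),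
    (1,4), (0,0), (0,0), (1,1), (1,0), (1,3), (1,0), (2,0), (2,2), (2,2),
    (2,0), (0,0), (2,4), (0,0), (0,0), (2,0), (1,2), (0,0), (2,2), (1,2)]

def tO672Tree1 : List (ℕ × ℕ) := [
    (2,1), (2,3), (1,0), (0,0), (0,0), (1,1), (2,1), (2,2), (0,0), (2,1),
    (0,0), (2,4), (0,0), (1,1), (2,1), (0,0), (1,1), (2,6), (0,0), (0,0),
    (0,0), (1,0), (0,0), (1,0), (1,2), (2,2), (1,2), (0,0), (1,0), (1,0),
    (1,3), (0,0), (2,3), (0,0), (0,0), (1,2), (2,0), (1,4), (0,0), (0,0),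
    (1,1), (1,2), (1,0), (0,0), (2,2), (2,0), (2,3), (0,0), (1,0), (2,1),
    (2,2), (0,0), (1,0), (1,2), (2,1), (2,4), (0,0), (0,0), (1,1), (0,0),
    (2,1), (0,0), (2,3), (1,0), (2,1), (2,3), (1,0), (0,0), (1,1), (2,2),
    (0,0), (2,0), (1,2), (1,5), (0,0), (0,0), (0,0), (1,0), (2,1), (2,0),
    (1,3), (0,0), (1,3), (1,0), (0,0), (1,1), (2,3), (0,0), (1,1), (0,0),
    (2,1), (2,2), (0,0), (1,1), (1,4), (0,0), (1,0), (2,0), (2,2), (2,0),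
    (2,0), (2,4), (1,0), (1,0), (2,4), (0,0), (0,0), (1,0), (2,1), (1,2),
    (2,1), (0,0), (1,1), (2,1), (1,3), (2,0), (2,2), (1,0), (2,1), (2,4),
    (0,0), (0,0), (1,0), (2,1), (0,0), (1,3), (0,0), (0,0), (2,1), (1,0),
    (1,3), (1,0), (2,1), (2,2), (0,0), (2,3), (1,0), (0,0), (2,1), (2,2),
    (2,0), (1,4), (0,0), (2,0), (2,0), (1,0), (1,4), (1,0), (2,0), (2,0),
    (2,3), (0,0), (0,0), (1,2), (0,0), (2,2), (2,4), (0,0), (0,0), (1,0),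
    (2,1), (1,2), (1,2), (0,0), (1,0), (2,1), (2,2), (2,2), (0,0), (1,0),
    (1,2)]

def tO672Tree : List (ℕ × ℕ) :=
  tO672Tree0 ++ tO672Tree1

def tS7Start : List ℕ := [29, 5250, 346112, 663616, 5275680, 10486528]

def tS7Gens : List ℕ := [
  479582228869969567225344139499409794,
  714489285119355298282256613060413772]

def tS7Tree0 : List (ℕ × ℕ) := [
    (1,0), (0,0), (1,0), (1,0), (1,3), (0,0)]

def tS7Tree : List (ℕ × ℕ) :=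
  tS7Tree0

def tS84Start : List ℕ := [15, 5264, 622848, 3416064, 4196928, 8536096]

def tS84Gens : List ℕ := [
  479582228869969567225344139499409794,
  714489285119355298282256613060413772,
  605559311598629538815186954862514453]

def tS84Tree0 : List (ℕ × ℕ) := [
    (0,0), (0,0), (0,0), (1,0), (1,0), (2,2), (0,0), (1,1), (1,3), (0,0),
    (1,0), (1,2), (0,0), (2,2), (0,0), (2,3), (0,0), (1,1), (0,0), (2,2),
    (1,3), (0,0), (1,0), (2,1), (1,2), (0,0), (1,0), (2,1), (2,2), (2,2),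
    (1,0), (0,0), (2,2), (2,3), (0,0), (0,0), (1,2), (0,0), (1,0), (2,3),
    (0,0), (1,4), (0,0), (1,0), (1,0), (2,1), (0,0), (2,3), (0,0), (1,1),
    (1,3), (0,0), (1,0), (2,1), (1,0), (2,3), (0,0), (2,3), (0,0), (0,0),
    (1,2), (2,0), (2,2), (0,0), (1,1), (2,1), (0,0), (2,5), (0,0), (0,0),
    (0,0), (2,1), (0,0), (1,4), (0,0), (1,1), (0,0), (2,3), (0,0), (0,0),
    (1,2), (2,0), (2,2)]

def tS84Tree : List (ℕ × ℕ) :=
  tS84Tree0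

def tS336Start : List ℕ := [293, 51712, 200720, 262344, 6292482, 9969664]

def tS336Gens : List ℕ := [
  479582228869969567225344139499409794,
  714489285119355298282256613060413772]

def tS336Tree0 : List (ℕ × ℕ) := [
    (0,0), (0,0), (0,0), (1,0), (0,0), (1,0), (0,0), (0,0), (1,0), (0,0),
    (1,3), (1,0), (0,0), (1,0), (0,0), (1,3), (1,4), (0,0), (1,0), (0,0),
    (1,0), (0,0), (1,3), (0,0), (1,0), (1,0), (1,3), (1,4), (1,0), (0,0),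
    (1,1), (0,0), (1,7), (0,0), (0,0), (0,0), (1,0), (0,0), (1,0), (1,4),
    (0,0), (0,0), (1,4), (0,0), (0,0), (0,0), (1,2), (0,0), (1,0), (0,0),
    (1,1), (1,3), (1,0), (1,0), (0,0), (1,1), (1,6), (0,0), (1,0), (0,0),
    (1,3), (1,0), (0,0), (1,0), (0,0), (1,8), (1,0), (0,0), (1,0), (0,0),
    (1,1), (0,0), (1,0), (1,0), (1,6), (0,0), (1,0), (1,8), (0,0), (1,0),
    (0,0), (1,0), (0,0), (1,0), (1,0), (1,3), (1,5), (0,0), (1,0), (0,0),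
    (1,0), (0,0), (1,0), (0,0), (1,3), (1,3), (1,3), (1,0), (0,0), (1,0),
    (0,0), (1,1), (1,3), (0,0), (1,7), (0,0), (1,0), (0,0), (0,0), (0,0),
    (1,0), (0,0), (1,1), (0,0), (1,0), (0,0), (1,6), (0,0), (1,0), (1,0),
    (0,0), (1,4), (1,0), (0,0), (1,1), (1,0), (1,6), (0,0), (0,0), (1,0),
    (0,0), (1,0), (1,0), (1,6), (0,0), (1,0), (0,0), (1,0), (1,0), (1,3),
    (0,0), (1,4), (0,0), (1,0), (1,2), (1,5), (0,0), (1,0), (0,0), (0,0),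
    (1,0), (0,0), (1,3), (0,0), (1,0), (1,0), (1,0), (1,4), (1,0), (0,0),
    (1,0), (1,6), (0,0), (1,0), (0,0), (0,0), (1,1), (1,2), (0,0), (1,1),
    (1,4), (1,0), (0,0), (1,0), (0,0), (1,3), (0,0), (1,7), (0,0), (0,0),
    (0,0), (1,2), (1,0), (1,0), (1,4), (0,0), (1,0), (1,0), (0,0), (1,4),
    (0,0), (1,0), (0,0), (1,0), (1,2), (1,9), (0,0), (0,0), (0,0), (1,0),
    (0,0), (0,0), (0,0), (1,0), (1,0), (1,3), (1,2), (1,0), (0,0), (1,4),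
    (1,3), (0,0), (0,0), (0,0), (1,1), (1,3), (0,0), (1,0), (1,0), (1,3),
    (1,0), (1,0), (0,0), (1,7), (0,0), (0,0), (0,0), (1,0), (0,0), (1,0),
    (0,0), (1,1), (1,3), (0,0), (1,5), (0,0), (0,0), (0,0), (1,0), (0,0),
    (1,3), (0,0), (1,3), (0,0), (0,0), (0,0), (1,1), (1,3), (0,0), (1,0),
    (1,2), (1,4), (0,0), (1,1), (1,0), (0,0), (1,1), (1,6), (0,0), (1,0),
    (0,0), (0,0), (0,0), (1,2), (0,0), (1,0), (1,2), (0,0), (1,6), (1,0),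
    (0,0), (1,0), (0,0), (1,0), (1,4), (1,6), (0,0), (0,0), (1,0), (1,0),
    (1,3), (0,0), (1,3), (0,0), (1,0), (0,0), (1,1), (0,0), (1,0), (1,0),
    (1,3), (1,4), (0,0), (0,0), (1,1), (1,8), (1,0), (0,0), (0,0), (0,0),
    (1,0), (0,0), (1,0), (0,0), (1,0), (1,0), (1,3), (0,0), (1,4), (0,0),
    (1,4), (0,0), (1,0), (0,0), (1,0), (1,0), (0,0), (1,6), (0,0), (1,4),
    (0,0), (1,0), (0,0), (1,1), (0,0), (1,6), (1,0), (0,0), (1,1), (0,0),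
    (0,0), (0,0), (1,0), (1,2), (1,0)]

def tS336Tree : List (ℕ × ℕ) :=
  tS336Tree0

def tS1344Start : List ℕ := [39, 45120, 786960, 1116288, 6292736, 8536072]

def tS1344Gens : List ℕ := [
  479582228869969567225344139499409794,
  714489285119355298282256613060413772,
  605559311598629538815186954862514453]

def tS1344Tree0 : List (ℕ × ℕ) := [
    (0,0), (0,0), (0,0), (1,0), (0,0), (0,0), (0,0), (1,1), (1,0), (1,3),
    (1,0), (1,0), (2,3), (0,0), (1,1), (0,0), (1,1), (2,2), (1,3), (0,0),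
    (0,0), (1,1), (1,2), (1,0), (1,0), (2,2), (2,3), (1,0), (0,0), (1,1),
    (2,1), (2,2), (0,0), (1,1), (2,4), (0,0), (0,0), (1,0), (2,0), (2,2),
    (1,2), (0,0), (0,0), (2,3), (2,0), (1,0), (1,4), (0,0), (0,0), (0,0),
    (1,1), (2,1), (1,2), (1,0), (2,2), (1,2), (2,1), (1,0), (2,1), (0,0),
    (2,4), (0,0), (2,0), (1,2), (1,0), (0,0), (2,1), (2,3), (0,0), (1,1),
    (1,0), (2,2), (2,0), (2,0), (1,7), (0,0), (0,0), (2,0), (1,0), (1,0),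
    (1,4), (0,0), (0,0), (2,1), (1,2), (2,0), (0,0), (2,1), (2,3), (2,2),
    (0,0), (0,0), (1,0), (1,2), (2,1), (1,2), (1,0), (2,1), (0,0), (1,5),
    (0,0), (0,0), (0,0), (1,1), (1,0), (2,3), (0,0), (0,0), (1,2), (0,0),
    (1,1), (2,1), (1,4), (0,0), (0,0), (1,0), (2,1), (1,2), (2,0), (2,2),
    (1,2), (1,0), (2,0), (2,3), (0,0), (0,0), (1,1), (2,1), (2,0), (2,5),
    (1,0), (2,0), (2,2), (0,0), (2,1), (2,5), (0,0), (0,0), (2,0), (1,0),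
    (2,1), (1,3), (0,0), (0,0), (1,1), (1,2), (2,1), (0,0), (1,1), (2,3),
    (0,0), (0,0), (0,0), (2,2), (1,2), (1,0), (0,0), (2,2), (0,0), (2,3),
    (1,3), (0,0), (0,0), (0,0), (1,1), (2,1), (2,2), (1,0), (2,1), (2,0),
    (1,4), (0,0), (0,0), (1,0), (1,3), (0,0), (2,0), (1,2), (0,0), (2,3),
    (0,0), (1,0), (2,2), (2,3), (1,0), (1,0), (1,0), (2,2), (1,0), (2,5),
    (0,0), (0,0), (1,0), (0,0), (2,2), (2,2), (2,0), (1,3), (0,0), (1,0),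
    (1,2), (0,0), (2,0), (1,2), (2,3), (1,0), (1,0), (2,2), (1,5), (0,0),
    (0,0), (0,0), (1,0), (0,0), (1,1), (2,1), (2,2), (1,0), (2,1), (1,3),
    (0,0), (1,0), (0,0), (1,3), (0,0), (2,0), (0,0), (1,3), (0,0), (2,2),
    (2,3), (0,0), (1,0), (2,1), (1,2), (0,0), (2,2), (0,0), (2,0), (1,2),
    (0,0), (1,5), (0,0), (0,0), (2,0), (1,2), (2,0), (2,2), (0,0), (2,1),
    (0,0), (1,4), (0,0), (2,0), (2,0), (1,3), (0,0), (2,1), (2,2), (0,0),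
    (1,1), (0,0), (2,2), (1,0), (2,4), (0,0), (0,0), (1,1), (2,1), (1,2),
    (1,0), (2,1), (0,0), (1,1), (2,3), (2,0), (2,4), (0,0), (0,0), (0,0),
    (1,1), (2,1), (0,0), (1,3), (0,0), (1,1), (2,2), (0,0), (1,1), (1,3),
    (0,0), (0,0), (1,1), (2,1), (2,3), (0,0), (1,1), (1,0), (2,1), (2,2),
    (0,0), (0,0), (1,0), (2,3), (1,5), (0,0), (0,0), (0,0), (1,0), (2,0),
    (2,2), (2,2), (0,0), (2,0), (1,2), (2,1), (1,3), (0,0), (0,0), (1,1),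
    (2,2), (0,0), (2,0), (1,2), (1,0), (2,1), (2,2), (2,3), (0,0), (0,0),
    (1,0), (0,0), (1,3), (1,0), (2,1), (1,3), (0,0), (2,0), (2,3), (0,0),
    (2,1), (1,4), (0,0), (0,0), (1,0), (1,0), (2,2), (1,2), (0,0), (1,1),
    (2,1), (1,0), (2,3), (1,0), (1,3), (0,0), (0,0), (2,0), (1,2), (1,0),
    (2,1), (2,2), (2,2), (0,0), (2,1), (2,3), (0,0), (0,0), (1,1), (1,2),
    (1,0), (0,0), (2,2), (2,2), (1,0), (2,0), (2,2), (1,0), (2,5), (0,0),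
    (1,0), (0,0), (1,1), (2,0), (1,4), (0,0), (1,0), (2,1), (1,0), (1,3),
    (2,1), (0,0), (1,1), (1,0), (2,2), (2,3), (0,0), (1,1), (2,1), (0,0),
    (1,1), (2,5), (0,0), (1,0), (0,0), (1,0), (2,1), (1,2), (2,0), (2,2),
    (1,0), (1,0), (2,4), (0,0), (0,0), (1,2), (2,0), (2,2), (1,3), (0,0),
    (0,0), (1,0), (2,0), (2,2), (0,0), (1,3), (0,0), (1,0), (2,1), (1,2),
    (1,3), (0,0), (1,1), (0,0), (1,1), (2,2), (0,0), (2,1), (2,3), (0,0),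
    (0,0), (1,0), (2,2), (2,2), (0,0), (2,1), (0,0), (1,1), (2,1), (2,7),
    (0,0), (0,0), (0,0), (1,0), (0,0), (2,1), (1,0), (2,1), (2,3), (2,0),
    (1,3), (0,0), (1,0), (2,1), (0,0), (1,1), (2,1), (1,3), (0,0), (2,2),
    (0,0), (2,3), (0,0), (2,0), (1,2), (1,0), (2,2), (0,0), (1,1), (0,0),
    (2,2), (1,4), (0,0), (0,0), (1,1), (1,2), (0,0), (2,0), (1,2), (0,0),
    (1,1), (2,2), (0,0), (2,3), (0,0), (2,0), (1,2), (2,1), (1,0), (2,4)]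

def tS1344Tree1 : List (ℕ × ℕ) := [
    (1,0), (0,0), (2,0), (2,0), (1,3), (0,0), (1,1), (1,0), (2,2), (2,3),
    (1,0), (0,0), (0,0), (2,2), (1,5), (0,0), (0,0), (0,0), (1,0), (2,1),
    (1,2), (0,0), (2,1), (2,2), (1,0), (1,3), (0,0), (1,0), (2,1), (1,2),
    (2,0), (1,0), (2,3), (0,0), (1,0), (2,2), (2,3), (0,0), (1,0), (1,2),
    (2,0), (2,2), (0,0), (2,1), (1,4), (0,0), (0,0), (0,0), (2,1), (2,0),
    (1,3), (1,0), (2,1), (2,2), (1,2), (2,0), (0,0), (1,1), (2,1), (2,3),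
    (0,0), (0,0), (1,2), (0,0), (1,0), (2,3), (2,0), (2,4), (0,0), (0,0),
    (1,1), (2,1), (1,0), (1,3), (2,0), (2,2), (0,0), (1,0), (2,1), (1,0),
    (2,6), (0,0), (1,0), (2,0), (0,0), (1,0), (2,4), (0,0), (0,0), (1,4),
    (0,0), (0,0), (1,1), (0,0), (1,0), (2,3), (0,0), (1,3), (0,0), (0,0),
    (2,2), (1,0), (2,1), (2,3), (0,0), (0,0), (2,1), (1,2), (2,1), (1,0),
    (2,4), (0,0), (0,0), (1,1), (1,0), (2,2), (0,0), (0,0), (1,2), (2,0),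
    (2,2), (2,0), (1,4), (1,0), (0,0), (2,2), (2,2), (0,0), (1,1), (2,0),
    (2,2), (0,0), (1,1), (0,0), (1,8), (0,0), (0,0), (0,0), (1,0), (1,0),
    (2,1), (2,2), (0,0), (0,0), (1,2), (2,1), (1,0), (1,4), (0,0), (0,0),
    (1,0), (1,2), (2,1), (0,0), (1,1), (0,0), (1,1), (2,2), (1,3), (1,0),
    (0,0), (2,3), (2,0), (2,0), (2,4), (1,0), (0,0), (0,0), (1,2), (1,0),
    (2,1), (2,2), (2,0), (2,3), (1,0), (2,1), (0,0), (2,1), (1,5), (1,0),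
    (1,0), (0,0), (1,0), (2,1), (0,0), (1,3), (1,0), (0,0), (2,3), (2,2),
    (0,0), (2,0), (2,2), (0,0), (1,1), (2,4), (0,0), (0,0), (2,0), (1,0),
    (1,3), (2,1), (1,0), (2,1), (2,0), (1,4), (1,0), (0,0), (2,2), (1,0),
    (2,3), (2,0), (0,0), (2,5), (0,0), (0,0), (0,0), (1,1), (2,0), (2,2),
    (2,0), (0,0), (1,1), (2,1), (1,4), (0,0), (0,0), (2,2), (0,0), (2,3),
    (1,0), (1,0), (1,4), (0,0), (0,0), (0,0), (1,1), (1,2), (0,0), (1,1),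
    (2,1), (2,2), (2,0), (1,3), (0,0), (1,1), (2,1), (2,3), (1,0), (0,0),
    (2,0), (1,2), (1,0), (2,2), (2,0), (2,3), (1,0), (0,0), (2,1), (2,2),
    (0,0), (0,0), (1,2), (1,6), (0,0), (0,0), (0,0), (1,0), (0,0), (2,2),
    (0,0), (1,3), (0,0), (0,0), (1,2), (1,0), (2,3), (1,0), (2,1), (0,0),
    (1,1), (2,0), (2,5), (0,0), (0,0), (0,0), (1,2), (0,0), (0,0), (2,2),
    (2,0), (1,4), (0,0), (2,0), (1,2), (2,2), (0,0), (0,0), (1,2), (2,0),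
    (1,5), (0,0), (0,0), (1,0), (2,0), (2,0), (2,3), (0,0), (1,3), (0,0),
    (0,0), (0,0), (1,3), (2,0), (2,2), (2,0), (2,3), (0,0), (0,0), (1,1),
    (1,2), (0,0), (1,1), (2,1), (0,0), (2,3), (0,0), (1,1), (2,1), (1,4),
    (1,0), (2,0), (1,0), (2,0), (2,2), (2,0), (2,4), (0,0), (1,0), (1,2),
    (0,0), (2,2), (1,0), (2,4), (0,0), (0,0), (0,0), (1,2), (2,2), (0,0),
    (1,0), (0,0), (2,2), (2,2), (1,0), (2,1), (2,5), (0,0), (0,0), (1,0),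
    (2,1), (0,0), (1,1), (2,0), (2,2), (1,3), (0,0), (1,1), (0,0), (2,2),
    (2,2), (0,0), (1,1), (0,0), (2,2), (0,0), (0,0), (1,5), (0,0), (1,0),
    (2,1), (1,2), (0,0), (1,0), (2,3), (1,0), (2,1), (0,0), (1,1), (2,1),
    (2,4), (0,0), (0,0), (2,1), (1,2), (0,0), (1,1), (2,0), (2,2), (0,0),
    (2,1), (2,3), (0,0), (1,0), (1,0), (1,3), (2,1), (0,0), (2,6), (0,0),
    (0,0), (0,0), (1,0), (1,0), (2,2), (1,2), (0,0), (2,2), (0,0), (1,3),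
    (0,0), (1,0), (1,0), (2,2), (1,0), (2,1), (1,3), (0,0), (1,1), (2,0),
    (2,4), (0,0), (1,0), (0,0), (2,2), (0,0), (1,3), (0,0), (0,0), (1,1),
    (2,1), (2,2), (2,2), (1,0), (0,0), (2,2), (0,0), (1,5), (0,0), (1,0),
    (0,0), (1,1), (2,1), (0,0), (2,3), (1,0), (1,0), (2,2), (0,0), (1,0),
    (2,2), (1,4), (0,0), (0,0), (1,0), (0,0), (1,4), (2,0), (0,0), (1,1),
    (2,1), (2,3), (1,0), (2,0), (2,2), (2,0), (2,4), (0,0), (1,0), (1,2),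
    (1,0), (0,0), (1,1), (2,1), (2,0), (2,6), (0,0), (0,0), (0,0), (1,0),
    (2,1), (1,2), (2,1), (1,0), (2,1), (1,3), (0,0), (1,1), (0,0), (2,3)]

def tS1344Tree2 : List (ℕ × ℕ) := [
    (0,0), (1,3), (1,0), (1,0), (2,1), (0,0), (2,3), (2,0), (2,3), (0,0),
    (1,0), (1,0), (1,0), (2,3), (1,2), (1,0), (2,2), (0,0), (1,0), (1,2),
    (2,1), (2,6), (0,0), (0,0), (0,0), (1,0), (1,0), (2,1), (2,0), (2,3),
    (0,0), (1,1), (2,0), (1,4), (0,0), (0,0), (1,1), (1,0), (2,2), (0,0),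
    (1,3), (1,0), (2,1), (2,0), (0,0), (2,4), (1,0), (2,3), (0,0), (1,0),
    (0,0), (2,2), (1,0), (1,3), (0,0), (2,1), (1,0), (2,3), (0,0), (2,0),
    (1,2), (0,0), (0,0), (1,1), (2,2), (1,0), (1,6), (0,0), (0,0), (1,0),
    (0,0), (1,1), (2,2), (1,0), (2,1), (1,3), (0,0), (1,0), (2,2), (1,3),
    (0,0), (0,0), (2,0), (1,2), (2,1), (0,0), (1,1), (2,1), (1,3), (2,2),
    (0,0), (0,0), (0,0), (1,1), (2,2), (1,0), (2,1), (1,3), (0,0), (1,0),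
    (1,2), (2,0), (2,3), (2,3), (0,0), (0,0), (0,0), (1,1), (0,0), (1,3),
    (2,1), (0,0), (0,0), (1,2), (0,0), (2,2), (1,3), (0,0), (2,0), (1,2),
    (1,0), (2,0), (2,2), (1,0), (2,3), (0,0), (1,0), (2,1), (1,2), (1,0),
    (2,1), (2,4), (0,0), (0,0), (1,0), (1,2), (2,1), (1,2), (2,1), (1,0),
    (2,1), (0,0), (1,0), (1,7), (0,0), (0,0), (0,0), (1,0), (1,2), (0,0),
    (2,0), (1,2), (2,2), (1,2), (0,0), (1,0), (1,2), (0,0), (1,1), (1,0),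
    (2,1), (2,4), (0,0), (1,0), (0,0), (2,1), (2,2), (1,0), (1,3), (0,0),
    (0,0), (2,2), (2,0), (1,5), (0,0), (0,0), (0,0), (1,1), (0,0), (1,1),
    (2,2), (1,2), (0,0), (2,1), (2,0), (2,3), (2,0), (0,0), (2,4), (0,0),
    (0,0), (1,0), (2,1), (1,0), (1,3), (1,0), (1,3), (0,0), (0,0), (1,1),
    (2,2), (0,0), (1,1), (2,1), (2,3), (1,0), (1,0), (2,2), (2,4), (0,0),
    (0,0), (1,0), (0,0), (2,2), (1,2), (0,0), (1,0), (2,1), (1,0), (1,3),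
    (0,0), (2,2), (2,2), (1,0), (2,0), (1,4), (2,1), (0,0), (0,0), (1,1),
    (2,1), (0,0), (1,1), (1,3), (0,0), (1,1), (2,1), (0,0), (1,1), (2,3),
    (0,0), (2,0), (2,6), (0,0), (1,0), (0,0), (1,0), (2,1), (1,2), (1,0),
    (0,0), (2,2), (2,2), (0,0), (1,0), (2,4), (0,0), (0,0), (1,0), (1,2),
    (2,1), (0,0), (1,1), (1,3), (0,0), (2,1), (0,0), (2,3), (1,0), (1,4),
    (0,0), (0,0), (2,0), (0,0), (1,1), (1,3), (0,0), (0,0), (1,1), (2,2),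
    (0,0), (2,0), (1,5), (0,0), (0,0), (1,0), (2,2), (2,0), (1,3), (0,0),
    (1,0), (1,2), (0,0), (2,2), (1,0), (2,1), (2,3), (1,0), (1,0), (2,2),
    (2,3), (0,0), (0,0), (1,0), (1,2), (2,1), (1,2), (1,0), (2,1), (0,0),
    (2,1), (2,3), (2,3), (0,0), (0,0), (1,0), (2,1), (1,2), (0,0), (1,1),
    (0,0), (2,2), (2,2), (0,0), (1,1), (1,0), (2,1), (1,4), (1,0), (0,0),
    (2,0), (1,2), (1,0), (2,4), (0,0), (1,0), (2,0), (2,3), (0,0), (1,0),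
    (1,2), (1,0), (2,2)]

def tS1344Tree : List (ℕ × ℕ) :=
  tS1344Tree0 ++ tS1344Tree1 ++ tS1344Tree2

def tT1Start : List ℕ := [5279, 1009728, 15762208]

def tT1Gens : List ℕ := [
  479582228869969567225344139499409794]

def tT1Tree0 : List (ℕ × ℕ) := [
    ]

def tT1Tree : List (ℕ × ℕ) :=
  tT1Tree0

def tT42Start : List ℕ := [5279, 1256224, 15515712]

def tT42Gens : List ℕ := [
  479582228869969567225344139499409794,
  714489285119355298282256613060413772,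
  605559311598629538815186954862514453]

def tT42Tree0 : List (ℕ × ℕ) := [
    (0,0), (0,0), (0,0), (2,1), (0,0), (1,1), (0,0), (1,1), (2,2), (2,3),
    (0,0), (1,1), (0,0), (2,2), (1,3), (0,0), (1,0), (0,0), (2,0), (2,2),
    (2,2), (1,0), (1,3), (0,0), (1,0), (2,2), (2,2), (2,0), (2,3), (0,0),
    (1,0), (1,0), (2,2), (1,0), (1,3), (0,0), (2,0), (1,2), (0,0), (2,2),
    (2,2)]

def tT42Tree : List (ℕ × ℕ) :=
  tT42Tree0

def tT56Start : List ℕ := [90318, 2135601, 14551296]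

def tT56Gens : List ℕ := [
  479582228869969567225344139499409794,
  714489285119355298282256613060413772]

def tT56Tree0 : List (ℕ × ℕ) := [
    (0,0), (0,0), (0,0), (1,0), (0,0), (1,0), (0,0), (1,0), (1,2), (1,5),
    (0,0), (0,0), (0,0), (1,0), (1,3), (0,0), (1,0), (1,2), (1,3), (1,0),
    (1,4), (0,0), (0,0), (0,0), (1,0), (1,2), (1,2), (0,0), (1,0), (1,2),
    (0,0), (1,4), (0,0), (1,1), (1,4), (0,0), (0,0), (0,0), (1,0), (1,0),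
    (1,3), (0,0), (1,3), (0,0), (1,0), (1,2), (0,0), (1,1), (1,0), (1,0),
    (1,6), (1,0), (0,0), (1,1), (1,0)]

def tT56Tree : List (ℕ × ℕ) :=
  tT56Tree0

def tT1008Start : List ℕ := [10558, 1250945, 15515712]

def tT1008Gens : List ℕ := [
  479582228869969567225344139499409794,
  714489285119355298282256613060413772,
  605559311598629538815186954862514453]

def tT1008Tree0 : List (ℕ × ℕ) := [
    (0,0), (0,0), (0,0), (1,0), (0,0), (1,0), (0,0), (2,0), (1,2), (2,1),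
    (2,2), (1,0), (1,0), (1,4), (0,0), (0,0), (2,0), (1,2), (2,1), (2,2),
    (0,0), (1,1), (2,4), (0,0), (0,0), (1,0), (0,0), (2,1), (2,2), (2,0),
    (1,4), (1,0), (0,0), (1,1), (2,2), (0,0), (2,0), (2,2), (2,3), (1,0),
    (2,0), (0,0), (2,3), (2,0), (1,5), (0,0), (0,0), (0,0), (1,0), (1,2),
    (0,0), (1,0), (1,4), (2,0), (2,2), (0,0), (1,0), (2,1), (1,2), (1,0),
    (1,0), (2,2), (2,2), (0,0), (1,4), (0,0), (1,0), (0,0), (2,2), (0,0),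
    (2,1), (2,0), (2,4), (0,0), (1,0), (2,1), (2,2), (0,0), (1,1), (0,0),
    (2,1), (2,5), (1,0), (0,0), (1,1), (1,0), (2,3), (1,0), (0,0), (2,1),
    (2,2), (1,0), (0,0), (2,2), (0,0), (2,6), (0,0), (0,0), (1,0), (0,0),
    (2,0), (1,2), (2,1), (2,3), (0,0), (1,1), (1,0), (2,1), (1,0), (2,3),
    (1,0), (1,4), (0,0), (0,0), (2,0), (1,0), (1,3), (0,0), (0,0), (1,2),
    (1,0), (2,2), (2,2), (0,0), (2,0), (2,2), (2,0), (1,4), (0,0), (1,0),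
    (1,0), (2,2), (1,2), (2,0), (2,2), (1,0), (2,1), (2,4), (1,0), (0,0),
    (1,0), (2,2), (1,0), (1,6), (0,0), (0,0), (0,0), (1,0), (2,1), (0,0),
    (1,0), (0,0), (1,5), (0,0), (0,0), (1,1), (2,1), (0,0), (1,3), (2,0),
    (2,2), (0,0), (1,0), (1,2), (0,0), (2,2), (2,3), (1,0), (0,0), (1,4),
    (0,0), (1,0), (0,0), (1,1), (1,0), (2,3), (1,0), (2,1), (1,3), (0,0),
    (1,0), (1,2), (0,0), (1,0), (2,2), (2,2), (2,2), (0,0), (2,0), (2,4),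
    (0,0), (0,0), (0,0), (2,0), (1,0), (1,3), (1,0), (1,3), (0,0), (2,2),
    (1,0), (0,0), (2,2), (1,3), (1,0), (0,0), (1,0), (2,2), (2,2), (0,0),
    (2,0), (1,6), (0,0), (0,0), (0,0), (1,0), (2,2), (0,0), (2,1), (1,3),
    (1,0), (0,0), (2,1), (2,2), (0,0), (1,1), (2,3), (0,0), (1,0), (1,2),
    (1,0), (2,0), (2,2), (2,2), (0,0), (1,1), (2,1), (0,0), (1,5), (0,0),
    (2,0), (0,0), (1,3), (0,0), (1,0), (2,1), (2,2), (2,2), (1,0), (0,0),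
    (1,1), (2,1), (2,2), (2,3), (0,0), (0,0), (0,0), (1,1), (2,0), (2,2),
    (1,3), (0,0), (1,0), (0,0), (1,3), (0,0), (2,2), (0,0), (1,1), (2,1),
    (1,0), (2,1), (2,4), (0,0), (0,0), (1,2), (2,0), (2,2), (2,4), (0,0),
    (0,0), (0,0), (1,0), (2,1), (1,2), (0,0), (1,1), (2,0), (2,3), (0,0),
    (1,1), (1,3), (0,0), (2,0), (2,0), (2,0), (1,4), (2,0), (2,0), (2,4),
    (0,0), (2,0), (1,0), (1,3), (1,0), (2,2), (1,3), (0,0), (1,0), (0,0),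
    (1,1), (0,0), (2,3), (1,0), (2,1), (0,0), (1,1), (1,4), (0,0), (1,0),
    (1,0), (1,3), (1,0), (2,1), (2,0), (2,5), (0,0), (0,0), (1,1), (1,0),
    (1,3), (0,0), (1,0), (2,1), (2,3), (0,0), (1,0), (0,0), (1,3), (1,0),
    (2,2), (0,0), (2,6), (0,0), (0,0), (0,0), (1,0), (1,0), (1,3), (0,0),
    (2,0), (1,2), (0,0), (2,0), (2,3), (1,0), (2,3), (1,0), (1,0), (2,1),
    (2,2), (1,3), (0,0), (1,0), (1,2), (0,0), (1,0), (2,1), (1,2), (0,0),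
    (0,0), (2,1), (2,2), (1,5), (0,0), (0,0), (0,0), (2,0), (1,2), (0,0),
    (2,2), (0,0), (1,0), (1,2), (2,1), (0,0), (1,4), (1,0), (1,0), (2,2),
    (0,0), (2,3), (1,0), (1,0), (2,2), (2,0), (1,4), (0,0), (0,0), (1,1),
    (2,1), (1,2), (1,0), (1,0), (2,2), (0,0), (1,1), (2,3), (1,0), (2,1),
    (2,0), (2,4), (0,0), (1,0), (0,0), (2,2), (1,0), (1,3), (1,0), (2,0),
    (2,2), (0,0), (2,3), (1,0), (1,0), (2,1), (2,2), (1,0), (2,1), (1,0),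
    (2,6), (0,0), (0,0), (1,0), (2,2), (1,2), (0,0), (0,0), (1,1), (2,1),
    (1,2), (1,0), (2,0), (2,2), (1,0), (2,1), (2,3), (0,0), (1,1), (2,1),
    (0,0), (1,0), (2,5), (0,0), (0,0), (0,0), (1,1), (2,1), (0,0), (1,4),
    (2,0), (2,0), (2,3), (0,0), (1,1), (1,0), (2,2), (1,0), (1,7), (0,0),
    (0,0), (0,0), (2,0), (0,0), (1,0), (2,2), (1,3), (0,0), (1,0), (0,0),
    (2,2), (2,2), (0,0), (2,1), (1,0), (2,0), (2,5), (0,0), (1,0), (2,1),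
    (1,0), (2,1), (0,0), (1,4), (1,0), (0,0), (2,2), (1,0), (2,1), (2,3)]

def tT1008Tree1 : List (ℕ × ℕ) := [
    (0,0), (1,1), (2,1), (0,0), (1,1), (1,5), (0,0), (1,0), (0,0), (1,1),
    (1,0), (2,0), (2,4), (0,0), (0,0), (1,2), (1,0), (2,1), (2,2), (1,0),
    (1,4), (0,0), (1,0), (0,0), (2,2), (1,0), (1,3), (1,0), (2,2), (0,0),
    (1,0), (1,2), (0,0), (2,1), (2,4), (0,0), (1,0), (0,0), (2,1), (2,5),
    (0,0), (1,0), (0,0), (1,0), (1,4), (0,0), (1,0), (2,1), (0,0), (1,3),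
    (1,0), (2,0), (2,2), (2,0), (2,3), (1,0), (1,0), (2,2), (1,0), (2,4),
    (0,0), (1,4), (0,0), (0,0), (0,0), (1,0), (0,0), (2,3), (1,0), (2,1),
    (1,3), (0,0), (0,0), (0,0), (1,0), (1,3), (1,2), (0,0), (2,2), (2,2),
    (0,0), (2,0), (0,0), (1,1), (0,0), (1,4), (1,0), (1,0), (2,1), (2,2),
    (1,0), (2,1), (2,3), (0,0), (0,0), (2,0), (2,2), (2,2), (1,4), (2,0),
    (0,0), (0,0), (1,0), (2,2), (1,2), (0,0), (0,0), (1,2), (0,0), (1,1),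
    (2,3), (0,0), (2,1), (2,4), (0,0), (1,0), (0,0), (1,0), (1,2), (2,1),
    (0,0), (1,0), (2,4), (0,0), (2,0), (1,2), (0,0), (2,0), (2,2), (1,0),
    (2,1), (2,3), (0,0), (1,1), (1,0), (2,1), (1,5), (0,0), (1,0), (0,0),
    (2,3), (1,0), (2,3), (0,0), (0,0), (1,1), (1,2), (0,0), (2,0), (1,2),
    (2,0), (2,2), (0,0), (1,1), (2,1), (2,3), (2,4), (0,0), (0,0), (0,0),
    (1,0), (0,0), (2,2), (1,0), (1,3), (0,0), (1,0), (1,2), (2,2), (0,0),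
    (0,0), (1,2), (2,0), (2,4), (0,0), (1,0), (2,0), (1,3), (0,0), (1,0),
    (1,2), (2,1), (2,0), (2,3), (0,0), (0,0), (1,2), (0,0), (2,1), (1,5),
    (0,0), (1,0), (0,0), (2,0), (2,3), (2,0), (1,3), (0,0), (0,0), (1,1),
    (0,0), (1,1), (2,2), (1,2), (1,0), (2,0), (2,2), (2,2), (1,0), (2,1),
    (0,0), (2,4), (0,0), (0,0), (0,0), (2,1), (1,2), (0,0), (1,1), (2,2),
    (1,2), (1,0), (2,1), (1,0), (2,3), (0,0), (2,4), (1,0), (0,0), (2,0),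
    (2,2), (0,0), (2,1), (2,3), (0,0), (1,1), (0,0), (2,0), (1,2), (0,0),
    (2,3), (0,0), (1,1), (2,6), (0,0), (0,0), (0,0), (1,0), (0,0), (1,0),
    (1,2), (1,0), (2,3), (0,0), (2,0), (1,2), (0,0), (1,4), (0,0), (0,0),
    (1,0), (1,2), (0,0), (2,0), (2,3), (0,0), (1,1), (1,3), (0,0), (1,0),
    (1,2), (2,0), (2,2), (2,2), (0,0), (1,1), (2,1), (0,0), (2,4), (0,0),
    (2,0), (2,2), (0,0), (2,1), (0,0), (2,1), (1,5), (0,0), (0,0), (1,1),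
    (1,2), (0,0), (1,0), (1,2), (0,0), (1,0), (2,0), (2,2), (1,2), (2,0),
    (2,2), (1,0), (2,1), (2,3), (0,0), (2,3), (0,0), (1,0), (2,1), (1,2),
    (0,0), (1,1), (2,1), (2,4), (0,0), (2,0), (1,0), (1,0), (2,2), (2,0),
    (2,0), (1,5), (1,0), (0,0), (2,0), (2,3), (0,0), (2,0), (0,0), (2,3),
    (2,3), (0,0), (0,0), (2,0), (1,2), (2,1), (1,2), (0,0), (0,0), (1,1),
    (1,2), (2,0), (2,2), (2,2), (0,0), (1,1), (2,1), (1,5), (0,0), (0,0),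
    (0,0), (1,0), (0,0), (1,1), (2,2), (2,0), (2,3), (2,0), (0,0), (1,4),
    (0,0), (0,0), (0,0), (1,1), (1,2), (2,0), (2,2), (0,0), (1,3), (0,0),
    (1,0), (2,1), (1,2), (0,0), (2,1), (2,2), (2,2), (2,0), (1,0), (2,4),
    (0,0), (1,1), (0,0), (0,0), (1,1), (2,1), (2,2), (0,0), (1,0), (2,2),
    (2,3), (0,0), (1,0), (1,5), (0,0), (0,0), (1,0), (1,0), (2,1), (1,3),
    (1,0), (2,1), (2,2), (0,0), (1,1), (0,0), (2,2), (2,0), (1,4), (1,0),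
    (0,0), (1,1), (2,1), (0,0), (2,4), (1,0), (1,0), (2,1), (0,0), (1,1),
    (2,3), (0,0), (2,1), (2,4), (0,0), (0,0), (1,0), (2,1), (2,0), (1,3),
    (0,0), (2,1), (0,0), (2,3), (0,0), (2,0), (1,2), (2,1), (2,0), (1,4),
    (1,0), (0,0), (2,0), (2,3), (2,2), (0,0), (1,0), (2,1), (1,2), (1,0),
    (2,1), (0,0), (2,3), (1,0), (2,0), (2,2), (2,5), (0,0), (0,0), (0,0),
    (1,1), (1,2), (0,0), (2,0), (1,0), (2,1), (1,3), (1,0), (2,1), (2,0),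
    (2,3), (0,0), (2,3), (1,0), (0,0), (2,1), (2,2), (1,0), (2,1), (2,4),
    (1,0), (0,0), (1,0), (1,2), (0,0), (2,0), (2,2), (2,2), (0,0), (2,1),
    (2,0), (2,4), (0,0), (1,1), (0,0), (0,0), (1,2), (2,1), (0,0), (1,1)]

def tT1008Tree2 : List (ℕ × ℕ) := [
    (2,3), (0,0), (1,0), (1,2), (2,0), (2,2), (2,0)]

def tT1008Tree : List (ℕ × ℕ) :=
  tT1008Tree0 ++ tT1008Tree1 ++ tT1008Tree2

def tT2688Start : List ℕ := [10558, 902657, 15864000]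

def tT2688Gens : List ℕ := [
  479582228869969567225344139499409794,
  714489285119355298282256613060413772]

def tT2688Tree0 : List (ℕ × ℕ) := [
    (0,0), (0,0), (0,0), (1,0), (0,0), (0,0), (0,0), (1,0), (0,0), (0,0),
    (0,0), (1,1), (0,0), (1,1), (1,0), (1,0), (1,5), (1,0), (0,0), (1,1),
    (1,4), (0,0), (1,0), (0,0), (0,0), (0,0), (1,1), (1,2), (0,0), (1,0),
    (1,4), (0,0), (1,0), (1,0), (0,0), (1,4), (0,0), (1,5), (0,0), (0,0),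
    (1,1), (0,0), (0,0), (0,0), (1,2), (0,0), (1,5), (0,0), (1,0), (1,2),
    (1,6), (0,0), (0,0), (0,0), (1,0), (0,0), (1,0), (1,0), (1,0), (1,0),
    (1,0), (1,6), (0,0), (1,0), (0,0), (1,3), (1,0), (0,0), (1,6), (1,0),
    (0,0), (0,0), (1,2), (1,4), (0,0), (0,0), (0,0), (1,1), (0,0), (1,0),
    (0,0), (1,5), (0,0), (1,0), (0,0), (1,0), (1,2), (1,0), (1,4), (0,0),
    (1,0), (1,5), (0,0), (1,0), (0,0), (1,1), (1,0), (1,4), (0,0), (0,0),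
    (1,2), (0,0), (1,0), (1,7), (0,0), (0,0), (0,0), (1,3), (0,0), (1,0),
    (1,0), (0,0), (1,0), (1,0), (1,6), (0,0), (0,0), (1,1), (0,0), (1,8),
    (0,0), (0,0), (0,0), (1,1), (0,0), (1,0), (0,0), (0,0), (0,0), (1,1),
    (1,2), (0,0), (1,0), (1,4), (0,0), (1,0), (1,0), (1,3), (1,4), (1,0),
    (0,0), (1,1), (0,0), (1,1), (1,6), (0,0), (1,1), (0,0), (1,0), (0,0),
    (1,0), (1,2), (0,0), (1,1), (1,4), (0,0), (1,0), (0,0), (1,3), (1,0),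
    (1,6), (0,0), (1,0), (0,0), (0,0), (0,0), (1,0), (1,0), (1,3), (0,0),
    (1,0), (1,0), (1,0), (1,6), (0,0), (0,0), (0,0), (1,5), (0,0), (1,0),
    (1,0), (0,0), (1,0), (0,0), (1,3), (1,4), (0,0), (0,0), (1,0), (1,3),
    (0,0), (0,0), (1,0), (1,2), (0,0), (1,3), (0,0), (1,7), (0,0), (0,0),
    (0,0), (1,1), (0,0), (1,1), (1,0), (1,0), (1,0), (1,6), (0,0), (0,0),
    (0,0), (1,2), (0,0), (1,0), (1,0), (1,7), (0,0), (0,0), (0,0), (1,1),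
    (0,0), (1,3), (0,0), (1,1), (0,0), (1,0), (1,2), (0,0), (1,5), (0,0),
    (0,0), (0,0), (1,0), (1,2), (1,2), (0,0), (0,0), (0,0), (1,1), (1,2),
    (0,0), (1,3), (0,0), (1,1), (1,10), (0,0), (0,0), (0,0), (1,0), (0,0),
    (0,0), (0,0), (1,0), (1,0), (0,0), (1,4), (1,2), (0,0), (0,0), (0,0),
    (1,1), (0,0), (1,3), (0,0), (1,1), (1,3), (0,0), (1,1), (0,0), (0,0),
    (1,2), (0,0), (1,1), (1,6), (0,0), (1,0), (0,0), (1,0), (0,0), (1,1),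
    (1,5), (0,0), (0,0), (1,1), (1,2), (0,0), (1,0), (0,0), (1,8), (0,0),
    (0,0), (1,0), (0,0), (1,0), (0,0), (1,1), (0,0), (1,4), (1,3), (1,0),
    (0,0), (1,1), (0,0), (1,5), (0,0), (0,0), (0,0), (1,2), (1,0), (0,0),
    (1,4), (1,0), (1,0), (0,0), (1,7), (0,0), (0,0), (0,0), (1,0), (0,0),
    (1,0), (0,0), (1,1), (1,3), (0,0), (1,1), (1,0), (0,0), (0,0), (1,1),
    (1,7), (0,0), (1,0), (0,0), (0,0), (1,1), (0,0), (1,1), (0,0), (1,8),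
    (0,0), (0,0), (0,0), (1,0), (1,2), (0,0), (1,0), (1,0), (1,0), (1,4),
    (1,0), (1,0), (0,0), (1,6), (0,0), (0,0), (0,0), (1,1), (1,2), (1,2),
    (0,0), (1,1), (0,0), (0,0), (1,2), (0,0), (0,0), (1,1), (1,2), (0,0),
    (1,7), (0,0), (1,0), (1,0), (0,0), (1,0), (1,2), (1,4), (1,0), (0,0),
    (0,0), (0,0), (1,0), (1,2), (1,2), (0,0), (1,3), (0,0), (1,7), (0,0),
    (1,0), (0,0), (0,0), (0,0), (1,0), (0,0), (1,0), (1,8), (1,0), (0,0),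
    (1,0), (0,0), (0,0), (1,0), (1,2), (0,0), (1,3), (0,0), (1,9), (0,0),
    (0,0), (0,0), (1,1), (0,0), (1,0), (1,0), (0,0), (1,0), (0,0), (1,0),
    (1,4), (1,4), (1,0), (1,0), (1,5), (0,0), (0,0), (1,0), (1,3), (0,0),
    (1,0), (1,2), (1,4), (0,0), (0,0), (0,0), (1,0), (0,0), (1,1), (0,0),
    (1,4), (1,0), (1,0), (1,0), (1,5), (0,0), (0,0), (1,0), (1,0), (1,3),
    (0,0), (0,0), (1,0), (0,0), (1,0), (0,0), (1,6), (0,0), (1,0), (0,0),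
    (1,3), (0,0), (1,5), (0,0), (1,0), (1,0), (1,3), (1,0), (0,0), (1,1),
    (0,0), (1,7), (0,0), (0,0), (0,0), (1,1), (1,2), (0,0), (1,0), (0,0),
    (1,1), (1,3), (0,0), (1,0), (1,2), (0,0), (1,11), (0,0), (0,0), (0,0),
    (1,0), (0,0), (0,0), (0,0), (1,5), (0,0), (0,0), (0,0), (1,0), (1,0)]

def tT2688Tree1 : List (ℕ × ℕ) := [
    (1,3), (0,0), (0,0), (1,0), (1,2), (0,0), (1,1), (0,0), (1,4), (1,0),
    (1,4), (0,0), (0,0), (0,0), (1,1), (0,0), (1,3), (0,0), (1,1), (0,0),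
    (1,0), (1,2), (1,0), (0,0), (1,1), (1,6), (0,0), (1,1), (0,0), (1,0),
    (0,0), (1,1), (1,7), (0,0), (0,0), (0,0), (1,2), (0,0), (1,0), (1,0),
    (0,0), (1,0), (1,0), (0,0), (1,7), (0,0), (1,1), (1,4), (1,0), (1,0),
    (1,6), (0,0), (0,0), (0,0), (1,2), (0,0), (1,1), (0,0), (1,0), (1,0),
    (0,0), (1,4), (0,0), (0,0), (1,1), (0,0), (1,3), (0,0), (1,0), (0,0),
    (1,3), (1,6), (0,0), (1,0), (0,0), (0,0), (1,4), (0,0), (0,0), (0,0),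
    (1,2), (1,0), (0,0), (1,1), (1,4), (0,0), (0,0), (0,0), (1,1), (1,3),
    (0,0), (0,0), (0,0), (1,0), (0,0), (1,1), (1,3), (1,2), (0,0), (1,9),
    (0,0), (0,0), (0,0), (1,0), (0,0), (0,0), (1,1), (0,0), (1,0), (0,0),
    (1,1), (0,0), (1,4), (0,0), (1,0), (1,5), (0,0), (1,1), (0,0), (0,0),
    (1,1), (1,6), (0,0), (0,0), (0,0), (1,1), (1,0), (1,3), (0,0), (0,0),
    (0,0), (1,2), (0,0), (1,0), (1,2), (0,0), (1,4), (0,0), (1,1), (1,4),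
    (0,0), (0,0), (0,0), (1,3), (1,0), (1,0), (1,6), (0,0), (0,0), (0,0),
    (1,0), (0,0), (1,0), (0,0), (1,3), (1,3), (0,0), (1,3), (0,0), (0,0),
    (0,0), (1,0), (0,0), (1,3), (0,0), (1,0), (0,0), (1,0), (0,0), (1,0),
    (1,4), (1,6), (0,0), (1,0), (0,0), (1,0), (0,0), (1,1), (1,3), (0,0),
    (1,0), (0,0), (1,6), (0,0), (0,0), (1,2), (0,0), (1,1), (0,0), (1,0),
    (1,8), (0,0), (1,0), (1,2), (0,0), (0,0), (1,1), (0,0), (1,0), (1,2),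
    (0,0), (1,4), (1,5), (0,0), (0,0), (0,0), (1,0), (0,0), (1,0), (0,0),
    (1,1), (0,0), (1,0), (1,0), (0,0), (1,9), (0,0), (1,0), (0,0), (1,0),
    (0,0), (1,3), (0,0), (1,0), (1,2), (1,4), (1,0), (1,0), (1,5), (0,0),
    (0,0), (0,0), (1,0), (0,0), (1,1), (0,0), (1,4), (1,0), (1,0), (0,0),
    (1,1), (1,5), (0,0), (0,0), (1,0), (0,0), (1,1), (1,3), (0,0), (1,1),
    (1,3), (0,0), (1,0), (0,0), (1,1), (0,0), (1,0), (1,2), (1,0), (1,0),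
    (1,6), (1,0), (0,0), (1,1), (0,0), (1,0), (0,0), (1,1), (1,9), (0,0),
    (1,0), (1,2), (1,0), (0,0), (1,1), (1,6), (0,0), (0,0), (0,0), (1,1),
    (0,0), (1,3), (0,0), (1,0), (0,0), (1,3), (0,0), (1,0), (1,2), (0,0),
    (1,5), (0,0), (0,0), (0,0), (1,1), (1,2), (0,0), (1,1), (0,0), (1,10),
    (0,0), (0,0), (0,0), (1,0), (0,0), (0,0), (0,0), (1,0), (0,0), (1,1),
    (0,0), (1,0), (1,0), (0,0), (1,4), (1,4), (0,0), (1,0), (1,0), (0,0),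
    (1,0), (1,2), (1,4), (1,0), (0,0), (1,0), (1,0), (0,0), (1,0), (1,5),
    (0,0), (1,0), (1,7), (0,0), (0,0), (1,0), (0,0), (1,0), (1,0), (0,0),
    (1,7), (0,0), (1,0), (0,0), (0,0), (0,0), (1,0), (1,0), (1,5), (0,0),
    (1,0), (1,5), (0,0), (0,0), (1,0), (1,2), (0,0), (1,0), (1,0), (0,0),
    (1,6), (1,0), (0,0), (1,0), (0,0), (1,9), (0,0), (1,0), (0,0), (0,0),
    (0,0), (1,0), (1,2), (0,0), (1,0), (1,0), (1,5), (0,0), (0,0), (0,0),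
    (1,0), (1,0), (1,3), (1,2), (1,0), (1,0), (1,6), (0,0), (1,0), (0,0),
    (0,0), (1,1), (1,2), (0,0), (1,0), (1,0), (1,0), (1,4), (0,0), (1,5),
    (0,0), (0,0), (1,2), (0,0), (1,0), (0,0), (1,0), (1,4), (0,0), (1,7),
    (0,0), (0,0), (0,0), (1,0), (0,0), (1,0), (0,0), (1,5), (1,0), (1,3),
    (0,0), (0,0), (1,1), (0,0), (0,0), (1,1), (0,0), (1,0), (0,0), (1,3),
    (1,7), (0,0), (0,0), (0,0), (1,1), (0,0), (1,3), (0,0), (1,1), (0,0),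
    (1,0), (1,0), (1,3), (1,4), (0,0), (0,0), (0,0), (1,2), (1,0), (0,0),
    (1,1), (1,10), (0,0), (0,0), (0,0), (1,0), (0,0), (0,0), (0,0), (1,2),
    (0,0), (1,0), (0,0), (1,3), (0,0), (1,1), (0,0), (0,0), (1,2), (1,0),
    (1,6), (1,0), (1,0), (0,0), (1,1), (1,6), (0,0), (0,0), (1,0), (0,0),
    (1,1), (1,4), (0,0), (0,0), (0,0), (1,2), (0,0), (1,1), (0,0), (1,0),
    (1,5), (0,0), (1,0), (0,0), (0,0), (0,0), (1,2), (1,0), (0,0), (1,10)]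

def tT2688Tree2 : List (ℕ × ℕ) := [
    (0,0), (0,0), (0,0), (1,1), (0,0), (1,0), (0,0), (1,3), (0,0), (0,0),
    (1,2), (0,0), (1,0), (0,0), (1,7), (0,0), (1,0), (1,0), (0,0), (1,0),
    (0,0), (1,3), (1,0), (1,0), (0,0), (1,7), (0,0), (1,0), (1,0), (0,0),
    (1,0), (1,2), (1,4), (1,0), (0,0), (1,0), (0,0), (1,3), (0,0), (1,7),
    (0,0), (1,0), (0,0), (0,0), (0,0), (1,5), (0,0), (0,0), (1,0), (0,0),
    (1,4), (0,0), (0,0), (0,0), (1,2), (0,0), (1,0), (1,2), (0,0), (1,4),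
    (0,0), (1,0), (0,0), (1,9), (0,0), (0,0), (1,1), (0,0), (1,1), (0,0),
    (1,0), (1,2), (1,4), (0,0), (1,0), (0,0), (0,0), (0,0), (1,1), (1,0),
    (1,3), (0,0), (1,1), (0,0), (1,0), (0,0), (1,1), (1,3), (1,4), (0,0),
    (1,0), (1,0), (1,3), (0,0), (1,0), (0,0), (1,0), (0,0), (1,5), (0,0),
    (1,1), (0,0), (1,0), (1,8), (0,0), (0,0), (0,0), (1,0), (0,0), (1,4),
    (0,0), (0,0), (0,0), (1,2), (0,0), (1,5), (1,6), (0,0), (0,0), (0,0),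
    (1,0), (1,0), (0,0), (1,0), (0,0), (1,0), (0,0), (1,0), (1,2), (1,3),
    (0,0), (1,1), (0,0), (0,0), (1,2), (1,5), (1,0), (1,0), (1,6), (0,0),
    (1,1), (0,0), (0,0), (0,0), (1,3), (0,0), (1,0), (1,2), (0,0), (1,0),
    (1,0), (0,0), (1,1), (1,4), (1,6), (0,0), (0,0), (0,0), (1,1), (0,0),
    (1,0), (0,0), (0,0), (0,0), (1,1), (1,2), (1,0), (0,0), (1,1), (1,0),
    (1,5), (0,0), (1,4), (1,3), (1,0), (0,0), (1,0), (0,0), (1,0), (1,0),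
    (1,3), (1,3), (1,4), (0,0), (1,0), (0,0), (0,0), (0,0), (1,0), (1,0),
    (0,0), (1,1), (1,4), (0,0), (1,1), (1,0), (0,0), (1,5), (0,0), (0,0),
    (1,0), (1,2), (0,0), (1,1), (1,0), (0,0), (1,1), (1,5), (1,3), (0,0),
    (1,1), (0,0), (0,0), (1,2), (0,0), (0,0), (0,0), (1,1), (1,2), (0,0),
    (0,0), (1,4), (1,6), (0,0), (0,0), (0,0), (1,1), (0,0), (1,1), (1,3),
    (0,0), (1,1), (1,0), (0,0), (1,1), (1,5), (0,0), (0,0), (1,0), (0,0),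
    (1,0), (1,0), (1,6), (0,0), (1,0), (0,0), (1,0), (0,0), (0,0), (1,2),
    (1,3), (0,0), (1,10), (0,0), (1,0), (0,0), (0,0), (0,0), (1,0), (0,0),
    (1,0), (1,2), (1,0), (1,0), (1,0), (1,6), (0,0), (1,1), (0,0), (0,0),
    (1,2), (0,0), (1,0), (1,2), (0,0), (1,0), (1,2), (1,6), (0,0), (1,0),
    (0,0), (0,0), (1,0), (1,2), (0,0), (0,0), (1,4), (1,0), (0,0), (0,0),
    (1,2), (1,0), (1,6), (1,0), (0,0), (0,0), (1,0), (1,2), (0,0), (1,1),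
    (1,3), (0,0), (1,0), (0,0), (1,1), (1,8), (0,0), (1,0), (1,0), (0,0),
    (1,0), (1,0), (1,0), (1,4), (1,0), (1,0), (0,0), (0,0), (1,8), (0,0),
    (0,0), (1,0), (0,0), (1,0), (0,0), (1,1), (1,3), (1,0), (1,5), (0,0),
    (0,0), (0,0), (1,0), (0,0), (1,3), (0,0), (1,3), (0,0), (0,0), (1,2),
    (0,0), (1,1), (1,4), (0,0), (0,0), (0,0), (1,2), (1,0), (0,0), (1,1),
    (1,10), (0,0), (0,0), (0,0), (1,0), (0,0), (1,0), (0,0), (1,0), (0,0),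
    (1,5), (1,3), (0,0), (1,1), (1,0), (1,0), (1,0), (1,6), (0,0), (0,0),
    (0,0), (1,0), (1,3), (0,0), (0,0), (1,1), (0,0), (1,0), (1,0), (0,0),
    (1,4), (1,7), (0,0), (0,0), (0,0), (1,0), (1,0), (0,0), (1,0), (0,0),
    (1,6), (0,0), (1,0), (0,0), (0,0), (1,1), (0,0), (1,3), (0,0), (1,6),
    (0,0), (1,3), (0,0), (0,0), (0,0), (1,0), (0,0), (1,0), (1,2), (0,0),
    (1,4), (1,0), (1,0), (1,4), (0,0), (0,0), (0,0), (1,0), (0,0), (1,3),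
    (1,2), (0,0), (0,0), (1,1), (1,0), (1,3), (1,0), (1,0), (0,0), (1,6),
    (0,0), (1,0), (1,2), (0,0), (1,11), (0,0), (0,0), (0,0), (1,0), (0,0),
    (0,0), (0,0), (1,0), (0,0), (1,1), (0,0), (1,0), (1,6), (0,0), (0,0),
    (1,0), (0,0), (1,0), (1,0), (0,0), (1,1), (1,6), (0,0), (1,1), (1,0),
    (1,0), (0,0), (1,6), (0,0), (1,0), (0,0), (0,0), (1,0), (1,2), (1,2),
    (0,0), (1,4), (0,0), (0,0), (1,0), (1,0), (1,3), (1,2), (0,0), (0,0),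
    (1,2), (0,0), (0,0), (0,0), (1,9), (0,0), (1,0), (0,0), (0,0), (0,0),
    (1,0), (1,0), (1,4), (0,0), (1,0), (1,2), (1,5), (0,0), (0,0), (1,0)]

def tT2688Tree3 : List (ℕ × ℕ) := [
    (0,0), (1,0), (1,0), (1,3), (1,3), (1,0), (1,3), (0,0), (0,0), (0,0),
    (1,0), (1,3), (0,0), (0,0), (1,0), (1,2), (1,0), (1,3), (0,0), (1,1),
    (1,0), (1,5), (0,0), (0,0), (1,1), (0,0), (1,9), (0,0), (0,0), (0,0),
    (1,1), (0,0), (1,0), (0,0), (0,0), (0,0), (1,3), (0,0), (1,4), (1,3),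
    (0,0), (0,0), (1,1), (0,0), (1,3), (1,0), (0,0), (1,0), (0,0), (1,0),
    (1,4), (1,5), (0,0), (0,0), (0,0), (1,2), (0,0), (1,0), (0,0), (0,0),
    (1,2), (1,0), (1,4), (0,0), (1,0), (1,0), (0,0), (1,4), (1,0), (0,0),
    (1,1), (0,0), (1,7), (0,0), (1,0), (0,0), (0,0), (0,0), (1,0), (0,0),
    (1,1), (1,4), (0,0), (1,0), (1,0), (1,7), (1,0), (0,0), (1,7), (0,0),
    (0,0), (0,0), (1,0), (0,0), (1,0), (0,0), (1,0), (0,0), (1,3), (1,0),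
    (1,0), (0,0), (1,1), (1,6), (0,0), (1,1), (1,0), (0,0), (0,0), (0,0),
    (1,0), (1,2), (0,0), (1,3), (1,2), (0,0), (0,0), (1,8), (0,0), (1,0),
    (0,0), (0,0), (0,0), (1,2), (0,0), (1,0), (0,0), (1,3), (0,0), (1,4),
    (1,0), (1,4), (0,0), (0,0), (1,1), (1,0), (1,0), (1,4), (0,0), (1,0),
    (0,0), (1,0), (0,0), (1,3), (0,0), (1,4), (1,0), (1,6), (0,0), (0,0),
    (0,0), (1,0), (0,0), (1,1), (0,0), (1,1), (1,4), (0,0), (1,0), (1,0),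
    (1,3), (1,0), (0,0), (1,0), (0,0), (1,1), (0,0), (1,4), (0,0), (1,6),
    (0,0), (1,0), (0,0), (0,0), (0,0), (1,3), (0,0), (1,0), (1,2), (1,0),
    (1,5), (0,0), (1,0), (0,0), (0,0), (1,0), (1,3), (1,0), (0,0), (1,5),
    (0,0), (0,0), (0,0), (1,1), (1,2), (1,2), (1,5), (0,0), (1,0), (0,0),
    (0,0), (1,0), (0,0), (1,3), (1,0), (1,3), (0,0), (1,0), (1,2), (0,0),
    (1,5), (0,0), (0,0), (1,0), (0,0), (1,0), (0,0), (1,3), (1,0), (1,0),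
    (1,5), (1,2), (0,0), (0,0), (0,0), (1,0), (0,0), (1,4), (0,0), (0,0),
    (1,0), (1,2), (1,2), (1,0), (1,0), (1,5), (0,0), (0,0), (1,0), (1,0),
    (1,10), (0,0), (1,0), (0,0), (0,0), (0,0), (1,0), (0,0), (1,0), (1,2),
    (0,0), (1,4), (1,0), (0,0), (1,4), (0,0), (0,0), (1,1), (0,0), (1,0),
    (1,4), (0,0), (1,0), (0,0), (1,0), (1,2), (0,0), (1,7), (0,0), (1,0),
    (0,0), (1,0), (1,4), (0,0), (0,0), (1,0), (0,0), (1,8), (0,0), (0,0),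
    (1,0), (0,0), (1,0), (0,0), (1,0), (0,0), (1,5), (1,0), (1,0), (1,5),
    (0,0), (1,1), (0,0), (1,0), (1,2), (1,4), (0,0), (0,0), (0,0), (1,0),
    (0,0), (1,0), (0,0), (1,1), (1,3), (0,0), (1,4), (1,0), (1,0), (1,4),
    (0,0), (1,0), (0,0), (0,0), (1,0), (1,2), (1,2), (0,0), (1,1), (1,6),
    (1,6), (0,0), (0,0), (0,0), (1,0), (0,0), (1,3), (0,0), (1,0), (0,0),
    (1,0), (0,0), (1,1), (0,0), (1,0), (1,5), (0,0), (1,0), (0,0), (1,1),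
    (0,0), (1,4), (1,0), (1,0), (1,6), (1,0), (1,0), (1,0), (1,6), (0,0),
    (0,0), (0,0), (1,0), (0,0), (1,3), (1,0), (1,0), (1,4), (0,0), (1,1),
    (0,0), (1,0), (1,5), (0,0), (1,0), (1,2), (0,0), (1,0), (0,0), (1,0),
    (1,2), (1,3), (0,0), (0,0), (1,7), (0,0), (0,0), (0,0), (1,0), (0,0),
    (1,0), (0,0), (1,1), (0,0), (1,0), (1,2), (1,4), (0,0), (1,0), (0,0),
    (1,0), (0,0), (1,8), (1,0), (1,0), (1,0), (1,5), (0,0), (0,0), (0,0),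
    (1,0), (1,0), (0,0), (1,4), (1,0), (0,0), (1,1), (0,0), (1,1), (1,5),
    (1,0), (0,0), (1,0), (0,0), (0,0), (1,0), (1,2), (1,4), (0,0), (1,0),
    (1,6), (0,0), (1,0), (1,0), (0,0), (1,0), (1,2), (1,0), (1,0), (1,6),
    (0,0), (1,0), (1,0), (1,3), (1,0), (0,0), (1,0), (1,0), (0,0), (1,0),
    (1,11), (0,0), (0,0), (0,0), (1,0), (0,0), (1,0), (0,0), (1,1), (0,0),
    (1,6), (1,0), (1,0), (1,4), (0,0), (0,0), (0,0), (1,0), (0,0), (1,0),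
    (0,0), (1,5), (1,0), (0,0), (1,1), (0,0), (1,0), (1,6), (0,0), (0,0),
    (1,0), (0,0), (1,3), (0,0), (0,0), (0,0), (1,2), (1,2), (1,0), (1,0),
    (1,5), (0,0), (1,1), (0,0), (1,0), (1,2), (0,0), (1,0), (1,7), (0,0),
    (1,1), (0,0), (1,11), (0,0), (0,0), (0,0), (1,1), (0,0), (1,0), (0,0)]

def tT2688Tree4 : List (ℕ × ℕ) := [
    (1,0), (0,0), (1,0), (0,0), (1,1), (0,0), (1,0), (1,0), (0,0), (1,7),
    (0,0), (1,0), (1,0), (0,0), (1,0), (1,2), (1,4), (1,4), (0,0), (1,0),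
    (1,0), (0,0), (1,0), (0,0), (1,6), (0,0), (0,0), (1,1), (0,0), (1,0),
    (1,0), (1,5), (0,0), (0,0), (0,0), (1,2), (0,0), (1,8), (0,0), (0,0),
    (0,0), (1,2), (0,0), (1,0), (0,0), (1,0), (0,0), (1,1), (0,0), (1,0),
    (0,0), (0,0), (1,7), (0,0), (1,0), (0,0), (1,0), (1,2), (0,0), (1,1),
    (1,4), (0,0), (1,0), (1,2), (1,0), (1,6), (0,0), (1,0), (0,0), (0,0),
    (0,0), (1,2), (0,0), (1,1), (1,8), (0,0), (1,1), (0,0), (0,0), (0,0),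
    (1,0), (0,0), (1,0), (1,4), (0,0), (1,0), (1,2), (1,4), (0,0), (1,7),
    (0,0), (1,0), (0,0), (0,0), (0,0), (1,0), (0,0), (1,1), (1,3), (0,0),
    (1,1), (1,0), (0,0), (1,0), (0,0), (1,3), (0,0), (1,6), (0,0), (0,0),
    (0,0), (1,0), (1,0), (0,0), (1,0), (1,0), (1,6), (0,0), (1,0), (0,0),
    (1,0), (0,0), (1,3), (1,3), (1,0), (0,0), (1,5), (0,0), (1,1), (0,0),
    (1,0), (0,0), (1,0), (1,2), (0,0), (1,4), (1,0), (0,0), (1,1), (0,0),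
    (1,7), (0,0), (1,0), (0,0), (1,0), (1,0), (1,3), (0,0), (1,0), (1,8),
    (0,0), (1,1), (0,0), (0,0), (0,0), (1,2), (0,0), (1,0), (0,0), (0,0),
    (1,4), (0,0), (1,1), (1,0), (1,5), (0,0), (0,0), (0,0), (1,8), (0,0),
    (1,0), (0,0), (0,0), (0,0), (1,0), (0,0), (1,0), (1,0), (1,3), (0,0),
    (1,1), (1,4), (0,0), (1,1), (0,0), (1,0), (1,2), (0,0), (1,0), (1,0),
    (1,7), (0,0), (1,0), (1,0), (0,0), (1,0), (1,2), (1,0), (1,5), (0,0),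
    (1,0), (0,0), (0,0), (1,0), (1,2), (0,0), (1,1), (1,0), (1,4), (0,0),
    (1,1), (1,7), (0,0), (1,0), (0,0), (0,0), (1,1), (0,0), (1,0), (0,0),
    (1,3), (0,0), (1,1), (1,0), (0,0), (1,6), (0,0), (1,0), (0,0), (1,0),
    (1,0), (1,8), (0,0), (0,0), (1,0), (1,0), (1,4), (0,0), (0,0), (0,0),
    (1,2), (0,0), (1,1), (0,0), (1,0), (1,0), (0,0), (1,7), (0,0), (1,7),
    (0,0), (0,0), (0,0), (1,0), (0,0), (1,0), (1,2), (1,3), (1,0), (1,3),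
    (0,0), (0,0), (1,0), (1,0), (1,3), (0,0), (0,0), (1,1), (1,0), (1,5),
    (0,0), (1,0), (1,0), (0,0), (1,0), (1,5), (1,4), (0,0), (0,0), (0,0),
    (1,0), (0,0), (1,3), (0,0), (1,0), (0,0), (1,1), (0,0), (1,6), (1,2),
    (0,0), (0,0), (0,0), (1,0), (0,0), (1,3), (1,2), (0,0), (0,0), (0,0),
    (1,1), (1,2), (0,0), (1,3), (0,0), (1,0), (1,2), (1,10), (0,0), (0,0),
    (0,0), (1,0), (0,0), (0,0), (0,0), (1,1), (0,0), (1,3), (0,0), (1,0),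
    (0,0), (1,1), (0,0), (1,0), (0,0), (0,0), (1,1), (1,2), (0,0), (1,7),
    (0,0), (1,0), (0,0), (1,0), (0,0), (1,3), (0,0), (1,0), (1,8), (0,0),
    (1,1), (0,0), (0,0), (1,1), (1,0), (1,3), (0,0), (0,0), (1,2), (0,0),
    (1,7), (0,0), (0,0), (0,0), (1,0), (0,0), (0,0), (1,4), (0,0), (1,0),
    (1,0), (0,0), (1,4), (1,3), (0,0), (0,0), (0,0), (1,2), (0,0), (1,1),
    (0,0), (1,0), (1,0), (0,0), (1,1), (1,7), (0,0), (1,0), (0,0), (1,0),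
    (1,4), (0,0), (1,0), (1,2), (0,0), (1,0), (0,0), (1,1), (0,0), (1,0),
    (1,5), (1,6), (0,0), (0,0), (0,0), (1,2), (0,0), (1,0), (0,0), (1,0),
    (1,0), (1,5), (0,0), (1,0), (1,2), (1,0), (1,5), (0,0), (1,0), (1,2),
    (1,5), (0,0), (0,0), (0,0), (1,0), (0,0), (1,0), (0,0), (1,0), (1,2),
    (0,0), (1,0), (1,0), (1,6), (0,0), (1,1), (1,4), (0,0), (1,0), (0,0),
    (0,0), (1,2), (0,0), (1,4), (0,0), (0,0), (1,1), (1,0), (1,3), (0,0),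
    (1,1), (1,5), (0,0), (0,0), (0,0), (1,0), (0,0), (1,1), (1,3), (1,0),
    (1,3), (0,0), (0,0), (0,0), (1,1), (0,0), (1,0), (1,0), (0,0), (1,7),
    (0,0), (1,0), (0,0), (0,0), (1,0), (0,0), (1,3), (0,0), (0,0), (0,0),
    (1,5), (0,0), (1,7), (0,0), (1,0), (0,0), (0,0), (0,0), (1,0), (0,0),
    (1,1), (1,4), (1,0), (1,0), (1,0), (0,0), (1,6), (0,0), (1,0), (0,0),
    (1,3), (0,0), (0,0), (1,0), (1,3), (0,0), (1,0), (1,7), (0,0), (0,0)]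

def tT2688Tree5 : List (ℕ × ℕ) := [
    (1,0), (0,0), (1,1), (1,8), (0,0), (1,0), (1,0), (0,0), (1,0), (0,0),
    (1,0), (1,0), (0,0), (1,4), (0,0), (1,0), (1,5), (1,4), (0,0), (0,0),
    (1,0), (0,0), (1,0), (0,0), (1,0), (1,0), (0,0), (1,4), (1,5), (0,0),
    (1,0), (0,0), (0,0), (1,1), (0,0), (1,1), (1,7), (0,0), (0,0), (0,0),
    (1,0), (1,3), (0,0), (0,0), (1,0), (1,2), (1,2), (0,0), (1,0), (1,2),
    (1,0), (1,5), (0,0), (0,0), (1,1), (1,8), (0,0), (0,0), (0,0), (1,0),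
    (0,0), (1,0), (0,0), (1,0), (1,0), (0,0), (1,4), (0,0), (1,0), (0,0),
    (1,0), (0,0), (1,3), (1,6), (1,3), (0,0), (0,0), (1,0), (0,0), (1,0),
    (1,2), (1,3), (0,0), (1,3), (1,0), (1,0), (1,5), (0,0), (0,0), (0,0),
    (1,0), (0,0), (1,0), (1,2), (0,0), (1,1), (1,0), (1,0), (0,0), (1,0),
    (1,8), (1,0), (0,0), (1,0), (1,2), (0,0), (1,0), (1,2), (1,5), (0,0),
    (0,0), (1,0), (0,0), (1,1), (1,3), (0,0), (0,0), (1,0), (0,0), (1,0),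
    (1,2), (1,4), (1,3), (0,0), (1,0), (0,0), (0,0), (1,0), (0,0), (1,3),
    (0,0), (1,0), (1,4), (0,0), (1,0), (1,2), (1,0), (1,0), (1,6), (0,0),
    (0,0), (1,0), (1,0), (1,3), (1,2), (0,0), (1,0), (1,0), (1,3), (0,0),
    (1,7), (0,0), (1,0), (1,0), (0,0), (1,0), (1,2), (0,0), (0,0), (1,0),
    (1,3), (1,0), (1,6), (0,0), (1,1), (0,0), (0,0), (0,0), (1,1), (1,2),
    (0,0), (1,3), (0,0), (1,0), (1,8), (0,0), (0,0), (0,0), (1,3), (0,0),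
    (0,0), (0,0), (1,0), (0,0), (1,3), (1,0), (1,3)]

def tT2688Tree : List (ℕ × ℕ) :=
  tT2688Tree0 ++ tT2688Tree1 ++ tT2688Tree2 ++ tT2688Tree3 ++ tT2688Tree4 ++ tT2688Tree5

def dS396Start : List ℕ := [163, 17984, 1116164, 2494464, 4726792, 8421648]

def dS396Gens : List ℕ := [
  336708340117883753566742048113568501,
  726095452067593200762093513176848904]

def dS396Tree0 : List (ℕ × ℕ) := [
    (0,0), (0,0), (0,0), (1,0), (0,0), (0,0), (0,0), (1,2), (0,0), (0,0),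
    (1,1), (0,0), (1,0), (1,2), (1,3), (0,0), (0,0), (0,0), (1,3), (0,0),
    (1,5), (0,0), (0,0), (0,0), (1,0), (1,2), (1,0), (1,3), (0,0), (1,0),
    (1,4), (0,0), (0,0), (0,0), (1,1), (1,2), (0,0), (1,1), (1,3), (0,0),
    (0,0), (1,2), (1,6), (0,0), (0,0), (0,0), (1,1), (0,0), (1,0), (1,2),
    (1,0), (0,0), (1,0), (0,0), (1,1), (1,3), (0,0), (1,6), (0,0), (1,0),
    (0,0), (1,0), (1,0), (1,5), (1,3), (0,0), (0,0), (0,0), (1,0), (0,0),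
    (0,0), (1,1), (1,2), (0,0), (1,5), (0,0), (1,0), (0,0), (1,1), (1,0),
    (1,6), (1,0), (0,0), (0,0), (1,0), (0,0), (1,1), (1,3), (1,2), (0,0),
    (0,0), (1,0), (1,0), (1,10), (0,0), (0,0), (0,0), (1,0), (0,0), (0,0),
    (0,0), (1,2), (0,0), (0,0), (1,2), (1,3), (0,0), (0,0), (1,0), (1,3),
    (1,4), (0,0), (0,0), (0,0), (1,0), (1,3), (0,0), (1,1), (1,3), (0,0),
    (0,0), (1,1), (0,0), (1,1), (1,0), (1,4), (0,0), (1,1), (0,0), (0,0),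
    (1,7), (0,0), (0,0), (0,0), (1,0), (0,0), (1,3), (0,0), (0,0), (1,1),
    (1,0), (1,3), (0,0), (0,0), (1,1), (1,6), (0,0), (0,0), (0,0), (1,1),
    (1,0), (1,3), (0,0), (0,0), (1,2), (0,0), (1,1), (1,4), (0,0), (0,0),
    (1,1), (0,0), (1,1), (1,3), (0,0), (0,0), (1,1), (1,2), (1,6), (0,0),
    (0,0), (0,0), (1,0), (0,0), (1,3), (0,0), (0,0), (1,1), (0,0), (1,3),
    (1,3), (0,0), (0,0), (0,0), (1,0), (0,0), (1,3), (1,2), (0,0), (1,0),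
    (1,2), (1,0), (1,0), (1,5), (0,0), (0,0), (1,0), (0,0), (1,7), (0,0),
    (0,0), (0,0), (1,0), (0,0), (1,3), (1,0), (0,0), (1,4), (0,0), (1,0),
    (0,0), (1,3), (1,3), (0,0), (0,0), (0,0), (1,1), (1,0), (1,0), (1,4),
    (0,0), (1,0), (1,2), (0,0), (0,0), (1,0), (1,6), (0,0), (1,0), (0,0),
    (1,9), (0,0), (0,0), (0,0), (1,0), (0,0), (0,0), (1,1), (1,0), (1,0),
    (0,0), (1,5), (0,0), (1,0), (0,0), (1,0), (1,2), (1,6), (0,0), (0,0),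
    (0,0), (1,0), (0,0), (1,3), (0,0), (0,0), (1,2), (0,0), (1,4), (0,0),
    (1,0), (1,0), (1,0), (1,6), (0,0), (0,0), (0,0), (1,0), (1,2), (1,0),
    (1,3), (1,0), (1,3), (1,4), (0,0), (0,0), (0,0), (1,0), (1,0), (0,0),
    (1,4), (0,0), (0,0), (0,0), (1,3), (1,3), (0,0), (0,0), (0,0), (1,1),
    (1,3), (0,0), (0,0), (1,0), (1,2), (1,2), (0,0), (1,1), (1,0), (1,6),
    (0,0), (1,1), (0,0), (0,0), (0,0), (1,2), (0,0), (1,1), (0,0), (0,0),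
    (1,2), (1,4), (0,0), (1,0), (1,2), (0,0), (1,7), (0,0), (0,0), (0,0),
    (1,0), (0,0), (1,3), (1,0), (0,0), (1,1), (0,0), (1,5), (0,0), (0,0),
    (0,0), (1,0), (1,0), (1,4), (0,0), (0,0), (1,1), (1,2), (1,3), (0,0),
    (0,0), (0,0), (1,1), (0,0), (1,3), (0,0), (1,1), (1,3), (0,0), (0,0),
    (0,0), (1,1), (1,3), (0,0), (1,6), (0,0), (0,0), (0,0), (1,0), (1,0),
    (1,3), (1,0), (0,0), (0,0), (1,1), (1,2), (0,0), (1,0), (1,6), (0,0),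
    (0,0), (0,0), (1,1), (0,0), (1,1), (1,3), (1,0), (1,3), (0,0), (1,0),
    (1,2), (1,4), (0,0), (0,0), (0,0), (1,0), (1,3), (0,0), (1,3), (0,0),
    (1,0), (0,0), (1,1), (0,0), (1,1)]

def dS396Tree : List (ℕ × ℕ) :=
  dS396Tree0

def dS495Start : List ℕ := [15, 5264, 622848, 3416064, 4196928, 8536096]

def dS495Gens : List ℕ := [
  336708340117883753566742048113568501,
  726095452067593200762093513176848904]

def dS495Tree0 : List (ℕ × ℕ) := [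
    (0,0), (0,0), (0,0), (1,0), (0,0), (0,0), (0,0), (1,1), (0,0), (0,0),
    (1,0), (1,0), (1,3), (1,0), (1,3), (0,0), (0,0), (1,1), (1,0), (1,3),
    (0,0), (1,0), (1,6), (0,0), (0,0), (0,0), (1,2), (0,0), (1,3), (0,0),
    (0,0), (1,1), (1,0), (1,6), (0,0), (0,0), (0,0), (1,1), (1,0), (1,3),
    (0,0), (1,0), (1,2), (1,0), (0,0), (1,1), (1,5), (0,0), (0,0), (0,0),
    (1,1), (0,0), (0,0), (1,5), (0,0), (0,0), (0,0), (1,1), (1,2), (0,0),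
    (0,0), (1,2), (0,0), (1,9), (0,0), (0,0), (0,0), (1,0), (0,0), (1,0),
    (0,0), (1,3), (0,0), (1,0), (1,2), (1,4), (0,0), (0,0), (1,0), (1,2),
    (0,0), (0,0), (1,1), (1,2), (1,0), (1,4), (0,0), (0,0), (0,0), (1,1),
    (1,3), (0,0), (1,5), (1,0), (1,0), (1,0), (0,0), (0,0), (1,7), (1,0),
    (0,0), (0,0), (0,0), (1,0), (0,0), (1,1), (1,4), (1,2), (0,0), (0,0),
    (0,0), (1,1), (1,0), (1,3), (0,0), (1,1), (1,0), (1,4), (0,0), (0,0),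
    (0,0), (1,0), (1,3), (1,8), (0,0), (0,0), (0,0), (1,0), (0,0), (1,3),
    (0,0), (1,0), (0,0), (0,0), (1,2), (1,3), (1,0), (0,0), (0,0), (1,0),
    (1,3), (0,0), (0,0), (1,7), (0,0), (0,0), (0,0), (1,0), (1,2), (0,0),
    (0,0), (1,1), (0,0), (1,0), (1,4), (1,0), (1,0), (1,6), (0,0), (0,0),
    (0,0), (1,0), (0,0), (1,3), (1,0), (1,3), (0,0), (1,0), (0,0), (1,0),
    (1,2), (0,0), (1,4), (0,0), (1,0), (0,0), (1,1), (1,0), (1,4), (0,0),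
    (1,0), (1,2), (1,8), (0,0), (0,0), (0,0), (1,1), (0,0), (0,0), (0,0),
    (1,2), (0,0), (1,1), (1,3), (1,0), (0,0), (1,0), (1,6), (0,0), (1,0),
    (0,0), (0,0), (1,0), (1,2), (0,0), (0,0), (1,2), (1,3), (0,0), (1,4),
    (0,0), (1,0), (0,0), (0,0), (1,2), (0,0), (1,4), (0,0), (0,0), (0,0),
    (1,3), (1,5), (0,0), (0,0), (0,0), (1,0), (1,0), (1,3), (1,0), (1,3),
    (0,0), (1,1), (1,3), (0,0), (1,0), (0,0), (0,0), (1,0), (1,0), (1,3),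
    (1,0), (0,0), (1,4), (1,0), (0,0), (1,5), (0,0), (1,0), (1,0), (1,9),
    (0,0), (0,0), (0,0), (1,0), (0,0), (0,0), (0,0), (1,0), (0,0), (1,3),
    (1,0), (1,3), (1,2), (0,0), (1,0), (0,0), (1,1), (0,0), (0,0), (1,2),
    (1,0), (1,8), (0,0), (0,0), (1,0), (1,0), (0,0), (1,0), (0,0), (1,6),
    (0,0), (1,0), (0,0), (0,0), (1,1), (1,2), (1,3), (0,0), (1,0), (1,2),
    (0,0), (0,0), (1,1), (1,6), (0,0), (0,0), (0,0), (1,1), (1,0), (1,3),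
    (0,0), (0,0), (1,1), (1,0), (1,3), (0,0), (1,4), (0,0), (0,0), (1,2),
    (0,0), (1,0), (1,0), (1,3), (0,0), (0,0), (1,1), (1,8), (0,0), (0,0),
    (0,0), (1,0), (0,0), (1,0), (1,0), (1,3), (1,0), (0,0), (1,5), (0,0),
    (1,0), (0,0), (1,1), (0,0), (0,0), (1,1), (1,5), (0,0), (1,1), (1,0),
    (0,0), (1,1), (1,6), (1,0), (0,0), (0,0), (0,0), (1,0), (1,2), (1,2),
    (1,2), (0,0), (1,0), (0,0), (1,0), (1,4), (1,5), (0,0), (0,0), (0,0),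
    (1,0), (1,2), (0,0), (1,1), (0,0), (1,0), (1,5), (1,0), (0,0), (1,1),
    (1,4), (0,0), (0,0), (1,1), (1,0), (1,0), (1,0), (1,5), (0,0), (0,0),
    (1,0), (1,3), (0,0), (1,7), (0,0), (0,0), (0,0), (1,0), (0,0), (1,1),
    (0,0), (1,4), (0,0), (0,0), (0,0), (1,1), (0,0), (0,0), (1,1), (1,0),
    (1,3), (1,6), (0,0), (0,0), (0,0), (1,0), (1,2), (0,0), (0,0), (1,1),
    (0,0), (1,1), (1,3), (0,0), (1,4), (0,0), (0,0), (1,2), (0,0), (0,0),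
    (0,0), (1,6), (0,0), (1,1), (0,0), (0,0), (0,0), (1,0), (1,3), (0,0),
    (1,3), (0,0), (1,0), (1,2), (0,0), (1,0), (1,8), (0,0), (0,0), (0,0),
    (1,0), (1,2), (0,0), (0,0), (0,0), (1,0), (1,0), (1,3), (0,0), (1,3),
    (0,0), (1,3), (1,0), (0,0), (1,1), (1,0), (1,6), (0,0), (0,0), (0,0),
    (1,0), (1,0), (1,4), (0,0), (0,0), (1,0), (1,2), (1,2), (0,0), (1,0),
    (1,5), (0,0), (1,0), (0,0), (1,3), (0,0), (1,1), (1,5), (0,0), (0,0),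
    (0,0), (1,0), (1,0), (0,0), (1,0), (1,5), (0,0), (1,4), (0,0), (1,0),
    (0,0), (1,0), (1,2), (0,0)]

def dS495Tree : List (ℕ × ℕ) :=
  dS495Tree0

def dS880Start : List ℕ := [39, 45120, 786960, 1116288, 6292736, 8536072]

def dS880Gens : List ℕ := [
  336708340117883753566742048113568501,
  726095452067593200762093513176848904]

def dS880Tree0 : List (ℕ × ℕ) := [
    (0,0), (0,0), (0,0), (1,0), (0,0), (0,0), (0,0), (1,0), (0,0), (0,0),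
    (0,0), (1,0), (1,6), (0,0), (0,0), (0,0), (1,0), (1,0), (1,3), (1,0),
    (1,3), (1,0), (0,0), (1,4), (0,0), (1,0), (0,0), (1,0), (1,2), (1,0),
    (1,8), (0,0), (0,0), (0,0), (1,0), (1,2), (1,0), (1,3), (0,0), (0,0),
    (0,0), (1,0), (1,0), (1,3), (1,0), (0,0), (1,7), (0,0), (0,0), (0,0),
    (1,0), (1,2), (0,0), (0,0), (1,0), (1,2), (0,0), (1,3), (0,0), (1,4),
    (0,0), (1,0), (1,0), (0,0), (1,4), (0,0), (1,0), (1,0), (1,3), (0,0),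
    (1,5), (1,0), (0,0), (0,0), (1,1), (1,0), (1,9), (0,0), (0,0), (0,0),
    (1,0), (0,0), (0,0), (0,0), (1,0), (1,2), (0,0), (1,1), (0,0), (1,5),
    (1,0), (0,0), (1,5), (0,0), (0,0), (0,0), (1,1), (1,2), (1,0), (1,0),
    (1,4), (0,0), (0,0), (1,0), (1,6), (0,0), (0,0), (0,0), (1,0), (1,0),
    (0,0), (1,0), (1,5), (0,0), (1,0), (1,0), (1,0), (1,4), (0,0), (0,0),
    (1,1), (1,5), (0,0), (0,0), (0,0), (1,1), (0,0), (1,3), (1,0), (1,3),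
    (1,3), (0,0), (0,0), (0,0), (1,0), (1,0), (0,0), (1,4), (0,0), (1,0),
    (0,0), (1,5), (0,0), (0,0), (1,1), (1,2), (0,0), (1,0), (1,5), (0,0),
    (0,0), (0,0), (1,0), (1,0), (1,4), (1,0), (1,3), (0,0), (1,0), (1,2),
    (0,0), (1,7), (0,0), (0,0), (0,0), (1,0), (1,0), (0,0), (1,1), (1,0),
    (1,5), (0,0), (0,0), (0,0), (1,1), (0,0), (1,1), (1,3), (1,2), (0,0),
    (0,0), (0,0), (1,1), (1,2), (1,0), (1,3), (1,0), (1,0), (1,6), (0,0),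
    (0,0), (1,0), (0,0), (0,0), (0,0), (1,1), (1,3), (0,0), (1,4), (0,0),
    (1,1), (0,0), (1,1), (1,4), (0,0), (0,0), (0,0), (1,1), (1,0), (0,0),
    (1,4), (1,0), (1,3), (1,0), (0,0), (0,0), (1,1), (0,0), (1,1), (1,8),
    (0,0), (1,0), (0,0), (0,0), (0,0), (1,2), (0,0), (1,0), (1,4), (1,0),
    (0,0), (0,0), (1,2), (1,0), (1,6), (0,0), (0,0), (1,0), (0,0), (1,1),
    (1,3), (0,0), (1,0), (1,0), (1,5), (0,0), (0,0), (0,0), (1,0), (1,2),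
    (0,0), (1,0), (1,4), (0,0), (0,0), (0,0), (1,1), (1,11), (0,0), (0,0),
    (0,0), (1,0), (0,0), (0,0), (0,0), (1,0), (1,3), (0,0), (1,1), (0,0),
    (1,1), (1,4), (0,0), (0,0), (0,0), (1,0), (1,2), (1,2), (0,0), (1,1),
    (0,0), (1,0), (1,2), (1,4), (1,0), (0,0), (1,0), (1,7), (0,0), (1,0),
    (0,0), (0,0), (0,0), (1,0), (1,2), (1,2), (0,0), (0,0), (0,0), (1,1),
    (1,2), (1,2), (0,0), (1,4), (0,0), (0,0), (1,0), (1,2), (0,0), (1,6),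
    (0,0), (0,0), (0,0), (1,0), (0,0), (1,1), (1,3), (0,0), (0,0), (1,4),
    (0,0), (0,0), (1,1), (0,0), (1,1), (1,3), (0,0), (0,0), (1,2), (1,4),
    (0,0), (0,0), (1,0), (1,0), (1,3), (1,2), (0,0), (1,1), (1,6), (0,0),
    (0,0), (0,0), (1,0), (1,0), (0,0), (1,1), (1,4), (0,0), (0,0), (1,0),
    (0,0), (0,0), (1,4), (0,0), (0,0), (1,4), (0,0), (0,0), (1,1), (1,0),
    (0,0), (1,1), (1,4), (0,0), (1,5), (0,0), (0,0), (0,0), (1,0), (1,2),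
    (0,0), (1,1), (0,0), (1,1), (1,4), (0,0), (0,0), (0,0), (1,1), (1,5),
    (0,0), (0,0), (1,0), (1,2), (0,0), (1,0), (1,2), (0,0), (1,1), (1,4),
    (1,0), (0,0), (1,0), (1,2), (1,6), (0,0), (0,0), (0,0), (1,0), (0,0),
    (1,3), (1,0), (1,3), (1,0), (1,0), (0,0), (1,8), (0,0), (0,0), (0,0),
    (1,0), (0,0), (0,0), (1,2), (0,0), (0,0), (1,1), (1,0), (1,3), (0,0),
    (1,1), (1,5), (0,0), (0,0), (0,0), (1,1), (1,0), (1,3), (0,0), (1,0),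
    (1,0), (1,3), (1,0), (0,0), (1,1), (1,5), (0,0), (0,0), (1,0), (1,0),
    (1,3), (0,0), (1,1), (1,3), (0,0), (0,0), (1,0), (1,3), (1,0), (1,6),
    (0,0), (0,0), (1,1), (0,0), (0,0), (0,0), (1,0), (1,3), (0,0), (0,0),
    (1,1), (1,6), (0,0), (1,0), (1,0), (0,0), (1,4), (0,0), (0,0), (1,0),
    (1,0), (1,3), (0,0), (1,3), (1,0), (0,0), (1,10), (0,0), (0,0), (0,0),
    (1,0), (0,0), (0,0), (0,0), (1,0), (1,2), (0,0), (0,0), (0,0), (1,3),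
    (1,0), (1,4), (0,0), (0,0), (1,1), (1,2), (0,0), (0,0), (1,1), (1,5)]

def dS880Tree1 : List (ℕ × ℕ) := [
    (0,0), (0,0), (0,0), (1,0), (1,0), (1,4), (1,0), (0,0), (0,0), (1,2),
    (1,4), (0,0), (0,0), (1,1), (1,0), (1,3), (1,0), (1,6), (0,0), (0,0),
    (0,0), (1,0), (0,0), (0,0), (1,1), (0,0), (0,0), (1,4), (1,0), (1,4),
    (0,0), (0,0), (0,0), (1,1), (1,0), (1,0), (1,4), (1,0), (1,3), (0,0),
    (0,0), (1,1), (1,0), (0,0), (1,1), (1,4), (0,0), (0,0), (0,0), (1,3),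
    (0,0), (1,1), (1,6), (0,0), (0,0), (0,0), (1,0), (0,0), (1,1), (1,3),
    (0,0), (1,3), (1,0), (1,3), (0,0), (1,0), (0,0), (1,3), (1,0), (0,0),
    (1,6), (1,0), (0,0), (1,0), (0,0), (1,1), (1,3), (0,0), (0,0), (1,0),
    (0,0), (0,0), (1,4), (1,2), (0,0), (1,7), (0,0), (0,0), (0,0), (1,0),
    (0,0), (0,0), (0,0), (1,1), (1,5), (0,0), (0,0), (0,0), (1,1), (0,0),
    (1,0), (1,0), (1,5), (0,0), (1,0), (1,0), (1,3), (0,0), (1,1), (0,0),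
    (1,0), (1,6), (0,0), (0,0), (1,0), (1,2), (0,0), (1,0), (1,0), (1,3),
    (1,0), (1,0), (1,5), (0,0), (1,0), (1,2), (0,0), (1,1), (0,0), (0,0),
    (1,8), (0,0), (0,0), (1,0), (1,0), (1,4), (0,0), (1,0), (1,0), (0,0),
    (0,0), (1,2), (1,4), (0,0), (1,0), (1,2), (0,0), (0,0), (0,0), (1,2),
    (1,0), (1,3), (1,6), (0,0), (0,0), (0,0), (1,0), (0,0), (1,3), (0,0),
    (0,0), (1,1), (1,0), (1,5), (0,0), (0,0), (1,0), (0,0), (1,1), (0,0),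
    (1,4), (0,0), (0,0), (0,0), (1,3), (0,0), (0,0), (1,5), (0,0), (0,0),
    (1,0), (1,0), (1,0), (1,4), (0,0), (1,0), (1,4), (0,0), (0,0), (1,2),
    (1,0), (1,6), (0,0), (0,0), (0,0), (1,2), (0,0), (0,0), (0,0), (1,0),
    (1,2), (1,2), (1,2), (0,0), (1,1), (1,4), (1,0), (0,0), (1,0), (0,0),
    (1,1), (1,9), (0,0), (0,0), (0,0), (1,0), (0,0), (0,0), (0,0), (1,1),
    (0,0), (1,0), (1,2), (1,4), (0,0), (1,0), (1,0), (1,0), (1,7), (0,0),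
    (0,0), (1,0), (1,0), (0,0), (1,0), (1,5), (1,0), (0,0), (0,0), (1,0),
    (1,3), (0,0), (0,0), (0,0), (1,7), (0,0), (0,0), (0,0), (1,1), (0,0),
    (1,0), (1,0), (1,5), (0,0), (1,0), (0,0), (1,3), (1,0), (1,7), (0,0),
    (1,0), (0,0), (0,0), (0,0), (1,2), (0,0), (0,0), (1,1), (0,0), (1,5),
    (0,0), (0,0), (1,1), (1,2), (0,0), (0,0), (1,0), (1,9), (0,0), (0,0),
    (0,0), (1,0), (0,0), (0,0), (0,0), (1,0), (1,3), (1,0), (1,3), (1,0),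
    (0,0), (1,0), (1,2), (1,5), (0,0), (1,0), (1,0), (0,0), (1,0), (1,5),
    (0,0), (0,0), (0,0), (1,3), (0,0), (1,0), (0,0), (1,1), (1,3), (1,5),
    (0,0), (0,0), (0,0), (1,0), (0,0), (0,0), (1,4), (0,0), (0,0), (0,0),
    (1,5), (0,0), (1,1), (0,0), (0,0), (1,0), (1,2), (1,5), (0,0), (0,0),
    (0,0), (1,1), (1,2), (1,0), (1,0), (0,0), (1,1), (1,5), (1,0), (0,0),
    (1,1), (0,0), (1,7), (0,0), (0,0), (0,0), (1,0), (1,0), (1,3), (0,0),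
    (0,0), (1,2), (0,0), (0,0), (1,5), (1,0), (0,0), (0,0), (1,0), (1,2),
    (0,0), (1,0), (1,7), (0,0), (0,0), (0,0), (1,1), (0,0), (0,0), (1,4),
    (0,0), (0,0), (0,0), (1,0), (1,3), (0,0), (1,3), (1,0), (1,0)]

def dS880Tree : List (ℕ × ℕ) :=
  dS880Tree0 ++ dS880Tree1

def yS21Start : List ℕ := [15, 5264, 622848, 3416064, 4196928, 8536096]

def yS21Gens : List ℕ := [
  432589199530075517012859592507590688,
  419956865622286068190890746557400066]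

def yS21Tree0 : List (ℕ × ℕ) := [
    (0,0), (0,0), (0,0), (0,0), (1,0), (1,3), (1,2), (0,0), (1,0), (0,0),
    (1,3), (1,3), (0,0), (1,0), (0,0), (1,0), (1,2), (0,0), (1,4), (1,0)]

def yS21Tree : List (ℕ × ℕ) :=
  yS21Tree0

def yS630Start : List ℕ := [27, 5252, 57856, 2162784, 4587776, 9963520]

def yS630Gens : List ℕ := [
  432589199530075517012859592507590688,
  419956865622286068190890746557400066]

def yS630Tree0 : List (ℕ × ℕ) := [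
    (0,0), (0,0), (0,0), (0,0), (0,0), (0,0), (1,0), (0,0), (0,0), (1,1),
    (0,0), (0,0), (1,2), (1,3), (0,0), (0,0), (1,0), (1,3), (1,0), (0,0),
    (1,6), (1,0), (0,0), (1,1), (0,0), (1,5), (0,0), (0,0), (0,0), (0,0),
    (1,0), (1,2), (0,0), (1,3), (0,0), (1,1), (1,0), (1,4), (1,2), (0,0),
    (1,4), (0,0), (0,0), (0,0), (0,0), (0,0), (1,0), (1,2), (1,2), (0,0),
    (0,0), (1,0), (1,5), (0,0), (1,3), (0,0), (1,0), (0,0), (0,0), (1,2),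
    (0,0), (1,4), (0,0), (1,1), (0,0), (0,0), (1,1), (1,0), (1,7), (0,0),
    (0,0), (0,0), (1,1), (1,0), (0,0), (1,1), (1,4), (1,0), (1,0), (1,4),
    (0,0), (0,0), (0,0), (1,3), (0,0), (0,0), (0,0), (1,8), (0,0), (0,0),
    (0,0), (0,0), (0,0), (1,0), (0,0), (1,3), (0,0), (1,0), (0,0), (1,3),
    (1,3), (0,0), (1,1), (0,0), (1,0), (1,2), (1,0), (1,5), (0,0), (0,0),
    (0,0), (0,0), (1,3), (1,0), (1,0), (1,4), (0,0), (0,0), (1,1), (0,0),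
    (1,1), (1,6), (0,0), (1,0), (0,0), (1,1), (0,0), (1,1), (1,0), (1,5),
    (0,0), (0,0), (0,0), (0,0), (1,1), (1,4), (1,0), (0,0), (1,1), (0,0),
    (1,7), (0,0), (0,0), (0,0), (0,0), (0,0), (1,0), (1,2), (1,0), (1,3),
    (1,0), (1,3), (0,0), (0,0), (0,0), (1,2), (1,2), (1,0), (1,4), (1,0),
    (0,0), (1,1), (1,0), (0,0), (1,6), (0,0), (0,0), (1,0), (0,0), (1,3),
    (0,0), (1,3), (0,0), (1,1), (1,0), (0,0), (1,0), (1,2), (1,8), (0,0),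
    (0,0), (0,0), (0,0), (1,1), (1,0), (0,0), (1,0), (1,0), (1,3), (0,0),
    (1,5), (0,0), (0,0), (0,0), (1,0), (0,0), (1,4), (0,0), (0,0), (1,0),
    (1,0), (1,3), (1,2), (0,0), (1,1), (1,4), (1,0), (1,0), (0,0), (1,0),
    (1,7), (0,0), (0,0), (0,0), (0,0), (1,1), (0,0), (1,3), (0,0), (1,0),
    (1,2), (0,0), (1,0), (1,0), (1,3), (1,4), (1,0), (0,0), (0,0), (1,5),
    (0,0), (0,0), (0,0), (1,1), (0,0), (1,0), (1,2), (0,0), (1,4), (0,0),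
    (0,0), (1,1), (0,0), (1,3), (0,0), (1,4), (0,0), (0,0), (1,0), (1,2),
    (0,0), (0,0), (0,0), (1,2), (1,2), (1,0), (1,4), (1,0), (0,0), (1,1),
    (1,0), (1,8), (0,0), (0,0), (0,0), (0,0), (0,0), (0,0), (1,1), (1,3),
    (0,0), (0,0), (0,0), (1,2), (1,0), (1,3), (0,0), (1,4), (0,0), (1,0),
    (1,0), (1,0), (1,4), (0,0), (0,0), (1,2), (0,0), (1,5), (0,0), (0,0),
    (0,0), (1,0), (1,2), (0,0), (1,0), (1,4), (1,0), (0,0), (1,0), (1,2),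
    (1,4), (0,0), (0,0), (1,0), (1,2), (1,0), (0,0), (1,4), (0,0), (1,1),
    (1,0), (0,0), (1,1), (1,7), (0,0), (0,0), (0,0), (1,0), (1,0), (1,0),
    (1,4), (0,0), (0,0), (1,2), (1,0), (1,0), (1,5), (0,0), (0,0), (1,0),
    (1,2), (0,0), (1,1), (1,0), (1,4), (0,0), (1,0), (1,2), (1,0), (0,0),
    (1,6), (0,0), (1,0), (0,0), (0,0), (1,0), (1,3), (1,0), (0,0), (1,5),
    (0,0), (1,1), (0,0), (1,0), (1,2), (1,0), (1,0), (1,10), (0,0), (0,0),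
    (0,0), (0,0), (0,0), (0,0), (1,0), (0,0), (1,3), (1,0), (0,0), (0,0),
    (1,2), (1,4), (0,0), (0,0), (0,0), (1,1), (1,2), (0,0), (0,0), (1,1),
    (1,2), (1,0), (1,0), (1,7), (0,0), (0,0), (0,0), (1,0), (1,2), (0,0),
    (1,3), (1,0), (1,3), (0,0), (1,1), (0,0), (0,0), (1,2), (1,0), (1,6),
    (0,0), (0,0), (0,0), (0,0), (1,0), (1,0), (1,3), (1,0), (0,0), (1,5),
    (0,0), (0,0), (1,1), (1,0), (0,0), (1,1), (1,4), (0,0), (1,1), (0,0),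
    (1,1), (1,0), (1,6), (0,0), (0,0), (0,0), (1,1), (1,0), (1,3), (0,0),
    (0,0), (0,0), (1,5), (1,0), (0,0), (1,0), (0,0), (1,3), (0,0), (1,7),
    (0,0), (0,0), (0,0), (0,0), (0,0), (0,0), (1,0), (1,2), (1,2), (1,0),
    (1,3), (0,0), (1,0), (1,2), (0,0), (0,0), (0,0), (1,1), (1,3), (0,0),
    (1,5), (0,0), (0,0), (1,1), (1,2), (0,0), (1,0), (1,2), (1,4), (0,0),
    (0,0), (0,0), (1,0), (1,2), (0,0), (1,1), (1,3), (1,2), (0,0), (0,0),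
    (0,0), (0,0), (1,3), (0,0), (0,0), (1,4), (0,0), (1,1), (0,0), (1,0),
    (1,7), (0,0), (1,0), (0,0), (0,0), (1,0), (1,2), (0,0), (1,3), (0,0)]

def yS630Tree1 : List (ℕ × ℕ) := [
    (0,0), (1,1), (1,2), (1,4), (1,0), (0,0), (0,0), (1,1), (1,0), (0,0),
    (1,4), (0,0), (0,0), (1,8), (0,0), (0,0), (0,0), (0,0), (1,0), (0,0),
    (1,0), (1,2), (1,3), (0,0), (0,0), (1,1), (1,0), (1,3), (1,0), (0,0),
    (0,0), (1,6), (0,0), (0,0), (0,0), (1,0), (1,4), (0,0), (1,4), (0,0),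
    (0,0), (0,0), (0,0), (0,0), (1,2), (0,0), (0,0), (1,4), (0,0), (1,1),
    (1,0), (1,4), (1,0), (0,0), (0,0), (1,5), (1,0), (0,0), (1,0), (0,0),
    (0,0), (1,1), (1,2), (1,3), (0,0), (1,0), (1,2), (1,6), (0,0), (0,0),
    (0,0), (0,0), (0,0), (1,1), (1,2), (0,0), (1,3), (1,0), (1,0), (0,0),
    (1,5), (0,0), (0,0), (1,0), (1,2), (0,0), (1,0), (1,0), (1,5), (0,0),
    (1,0), (0,0), (0,0), (1,4), (1,4), (0,0), (0,0), (0,0), (0,0), (0,0),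
    (1,1), (1,3), (0,0), (1,1), (1,3), (0,0), (0,0), (0,0), (0,0), (1,2),
    (1,2), (1,0), (1,0), (1,4), (0,0), (1,0), (1,2), (1,4), (0,0), (0,0),
    (0,0), (1,1), (1,2), (0,0), (1,0), (1,4), (1,0), (1,0), (1,0)]

def yS630Tree : List (ℕ × ℕ) :=
  yS630Tree0 ++ yS630Tree1

def yS1120Start : List ℕ := [57, 133760, 541952, 2162754, 5275652, 8663040]

def yS1120Gens : List ℕ := [
  432589199530075517012859592507590688,
  419956865622286068190890746557400066]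

def yS1120Tree0 : List (ℕ × ℕ) := [
    (0,0), (0,0), (0,0), (0,0), (0,0), (0,0), (1,0), (0,0), (0,0), (0,0),
    (1,0), (0,0), (1,4), (0,0), (0,0), (0,0), (1,3), (1,3), (0,0), (1,0),
    (1,2), (1,0), (0,0), (1,0), (1,7), (0,0), (0,0), (0,0), (0,0), (1,0),
    (0,0), (1,4), (1,0), (1,3), (0,0), (0,0), (0,0), (1,0), (1,3), (1,0),
    (1,3), (1,3), (0,0), (1,0), (0,0), (1,0), (1,2), (0,0), (1,1), (1,0),
    (1,0), (1,6), (0,0), (1,0), (0,0), (1,3), (1,0), (1,6), (0,0), (1,0),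
    (0,0), (0,0), (1,0), (0,0), (0,0), (1,2), (1,3), (0,0), (0,0), (0,0),
    (1,2), (1,2), (1,3), (0,0), (0,0), (0,0), (0,0), (1,3), (1,0), (1,3),
    (0,0), (1,5), (0,0), (0,0), (1,0), (0,0), (0,0), (1,2), (0,0), (0,0),
    (1,6), (0,0), (0,0), (0,0), (1,1), (1,2), (0,0), (1,3), (0,0), (0,0),
    (1,0), (0,0), (1,4), (0,0), (0,0), (1,2), (1,0), (1,8), (0,0), (0,0),
    (0,0), (0,0), (0,0), (0,0), (1,1), (1,2), (0,0), (1,0), (1,5), (0,0),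
    (0,0), (1,1), (1,0), (1,3), (0,0), (1,4), (0,0), (0,0), (1,0), (1,2),
    (0,0), (0,0), (1,1), (0,0), (1,0), (1,4), (0,0), (1,0), (1,7), (0,0),
    (0,0), (1,0), (0,0), (0,0), (0,0), (1,2), (1,0), (1,0), (1,4), (1,0),
    (0,0), (1,5), (0,0), (0,0), (0,0), (1,3), (0,0), (1,0), (0,0), (1,3),
    (1,0), (1,0), (1,6), (0,0), (1,0), (0,0), (0,0), (0,0), (1,1), (1,3),
    (0,0), (1,4), (0,0), (0,0), (1,0), (1,0), (1,0), (1,5), (0,0), (1,1),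
    (0,0), (1,0), (0,0), (1,1), (1,3), (1,8), (0,0), (0,0), (0,0), (0,0),
    (1,0), (1,0), (1,3), (0,0), (0,0), (0,0), (0,0), (1,2), (1,0), (1,3),
    (0,0), (1,1), (1,3), (1,0), (1,4), (0,0), (0,0), (1,2), (0,0), (1,0),
    (0,0), (1,0), (0,0), (1,3), (1,3), (0,0), (1,0), (0,0), (1,0), (1,2),
    (0,0), (1,4), (0,0), (1,0), (1,0), (1,8), (0,0), (0,0), (1,0), (0,0),
    (1,1), (0,0), (1,4), (0,0), (0,0), (1,0), (1,2), (0,0), (0,0), (1,1),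
    (1,0), (1,3), (0,0), (1,1), (1,4), (1,0), (0,0), (0,0), (1,1), (1,6),
    (0,0), (1,0), (0,0), (0,0), (0,0), (1,2), (1,4), (0,0), (1,0), (0,0),
    (0,0), (1,2), (1,7), (0,0), (1,0), (0,0), (0,0), (0,0), (0,0), (0,0),
    (1,0), (1,0), (1,4), (1,2), (0,0), (0,0), (1,1), (0,0), (1,3), (0,0),
    (1,4), (1,2), (0,0), (0,0), (1,0), (1,0), (1,3), (1,2), (0,0), (0,0),
    (0,0), (1,1), (1,0), (1,3), (1,0), (1,3), (1,5), (0,0), (0,0), (0,0),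
    (0,0), (1,1), (0,0), (0,0), (1,1), (1,0), (1,5), (0,0), (0,0), (0,0),
    (1,2), (0,0), (1,1), (1,3), (1,0), (1,5), (0,0), (0,0), (0,0), (1,0),
    (1,3), (1,0), (0,0), (1,0), (1,2), (0,0), (1,0), (0,0), (1,1), (1,3),
    (0,0), (1,11), (0,0), (0,0), (0,0), (0,0), (0,0), (0,0), (1,0), (1,0),
    (1,3), (0,0), (0,0), (0,0), (1,2), (0,0), (0,0), (1,1), (1,4), (1,0),
    (1,4), (0,0), (1,0), (0,0), (1,3), (0,0), (0,0), (1,0), (1,3), (0,0),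
    (1,5), (0,0), (0,0), (0,0), (0,0), (1,0), (1,2), (1,2), (1,0), (1,3),
    (0,0), (1,0), (1,0), (1,3), (1,0), (1,4), (0,0), (1,1), (1,4), (0,0),
    (0,0), (0,0), (0,0), (1,0), (0,0), (1,0), (1,4), (1,0), (1,4), (0,0),
    (0,0), (1,1), (0,0), (1,1), (1,3), (0,0), (1,0), (0,0), (1,3), (0,0),
    (1,1), (1,5), (0,0), (0,0), (0,0), (1,0), (1,0), (1,4), (0,0), (1,0),
    (1,0), (1,3), (0,0), (0,0), (1,2), (0,0), (1,1), (1,5), (0,0), (0,0),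
    (0,0), (0,0), (0,0), (1,3), (1,2), (0,0), (1,3), (0,0), (1,1), (1,0),
    (1,7), (0,0), (1,0), (0,0), (0,0), (0,0), (0,0), (1,1), (1,0), (1,3),
    (1,2), (1,0), (1,3), (0,0), (0,0), (0,0), (1,0), (1,2), (1,2), (1,0),
    (0,0), (1,1), (0,0), (1,8), (0,0), (0,0), (0,0), (0,0), (1,1), (0,0),
    (0,0), (1,2), (0,0), (1,1), (1,4), (0,0), (0,0), (1,2), (0,0), (0,0),
    (1,2), (0,0), (1,5), (0,0), (1,0), (1,2), (0,0), (0,0), (1,0), (1,3),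
    (1,4), (0,0), (0,0), (0,0), (0,0), (1,0), (0,0), (1,4), (0,0), (1,0),
    (1,2), (0,0), (0,0), (1,6), (0,0), (0,0), (1,0), (1,2), (0,0), (0,0)]

def yS1120Tree1 : List (ℕ × ℕ) := [
    (1,1), (0,0), (1,3), (1,0), (1,4), (1,0), (1,7), (0,0), (0,0), (0,0),
    (0,0), (0,0), (0,0), (1,0), (0,0), (1,5), (0,0), (0,0), (0,0), (1,0),
    (1,3), (1,0), (0,0), (1,4), (0,0), (0,0), (0,0), (1,2), (0,0), (1,1),
    (1,6), (0,0), (0,0), (0,0), (1,0), (1,3), (1,0), (1,0), (1,4), (0,0),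
    (0,0), (1,0), (0,0), (1,0), (1,2), (1,4), (1,0), (1,0), (0,0), (1,0),
    (1,8), (0,0), (0,0), (0,0), (0,0), (0,0), (1,0), (1,2), (1,2), (0,0),
    (1,3), (0,0), (0,0), (1,1), (1,2), (0,0), (1,4), (0,0), (0,0), (0,0),
    (0,0), (1,1), (0,0), (1,4), (0,0), (0,0), (1,4), (0,0), (1,1), (0,0),
    (0,0), (1,6), (0,0), (0,0), (0,0), (1,1), (0,0), (0,0), (1,1), (1,4),
    (0,0), (0,0), (1,1), (1,2), (1,3), (0,0), (0,0), (0,0), (1,1), (1,0),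
    (0,0), (1,4), (0,0), (1,0), (1,2), (1,3), (0,0), (0,0), (0,0), (1,1),
    (1,0), (1,4), (0,0), (0,0), (1,2), (1,7), (0,0), (0,0), (0,0), (0,0),
    (1,0), (0,0), (1,0), (1,4), (0,0), (0,0), (1,4), (0,0), (0,0), (1,1),
    (1,0), (1,0), (1,4), (0,0), (0,0), (1,0), (1,3), (0,0), (1,0), (1,2),
    (0,0), (1,1), (0,0), (1,7), (0,0), (0,0), (0,0), (1,0), (0,0), (1,4),
    (0,0), (0,0), (1,0), (1,5), (0,0), (1,0), (0,0), (1,1), (1,3), (0,0),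
    (0,0), (1,2), (0,0), (1,1), (0,0), (1,0), (1,2), (1,0), (1,8), (0,0),
    (0,0), (1,1), (0,0), (0,0), (0,0), (0,0), (1,1), (1,3), (0,0), (1,1),
    (1,3), (0,0), (0,0), (0,0), (1,2), (1,0), (0,0), (1,4), (1,0), (1,5),
    (0,0), (0,0), (0,0), (1,0), (1,2), (1,0), (1,0), (1,4), (1,0), (1,0),
    (0,0), (0,0), (1,1), (1,6), (0,0), (0,0), (0,0), (1,0), (1,3), (1,0),
    (0,0), (1,4), (1,8), (0,0), (0,0), (0,0), (0,0), (0,0), (0,0), (1,1),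
    (0,0), (1,0), (0,0), (1,1), (1,3), (0,0), (0,0), (0,0), (1,3), (0,0),
    (1,1), (1,5), (0,0), (1,0), (0,0), (0,0), (1,1), (1,2), (0,0), (1,1),
    (0,0), (1,5), (0,0), (1,0), (1,6), (0,0), (0,0), (0,0), (0,0), (1,0),
    (1,2), (0,0), (0,0), (1,1), (1,2), (1,4), (0,0), (0,0), (0,0), (0,0),
    (1,0), (1,2), (0,0), (1,0), (1,2), (1,4), (0,0), (0,0), (1,0), (1,3),
    (0,0), (1,1), (1,4), (0,0), (0,0), (1,1), (1,2), (0,0), (0,0), (1,2),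
    (1,5), (0,0), (0,0), (0,0), (0,0), (1,3), (0,0), (0,0), (1,0), (1,3),
    (0,0), (1,0), (0,0), (0,0), (1,4), (1,4), (0,0), (1,1), (0,0), (0,0),
    (1,0), (1,2), (0,0), (1,3), (0,0), (0,0), (1,1), (1,8), (0,0), (0,0),
    (0,0), (1,0), (0,0), (1,0), (0,0), (1,1), (1,0), (1,4), (1,0), (0,0),
    (1,0), (1,6), (0,0), (0,0), (0,0), (0,0), (0,0), (1,2), (1,3), (0,0),
    (0,0), (1,0), (1,3), (1,0), (0,0), (1,5), (0,0), (1,0), (1,2), (0,0),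
    (1,0), (1,6), (0,0), (0,0), (0,0), (1,1), (1,0), (0,0), (1,4), (1,0),
    (0,0), (0,0), (1,2), (1,0), (1,5), (0,0), (0,0), (0,0), (1,0), (0,0),
    (1,1), (1,0), (1,5), (0,0), (0,0), (1,1), (0,0), (1,3), (1,3), (1,0),
    (0,0), (0,0), (1,1), (1,0), (1,3), (0,0), (0,0), (1,8), (0,0), (1,0),
    (0,0), (0,0), (0,0), (0,0), (0,0), (1,2), (0,0), (1,3), (0,0), (1,0),
    (0,0), (1,5), (0,0), (1,0), (0,0), (1,7), (0,0), (0,0), (0,0), (1,0),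
    (1,2), (0,0), (1,0), (0,0), (1,5), (0,0), (1,0), (0,0), (0,0), (1,0),
    (1,2), (1,6), (0,0), (0,0), (1,0), (0,0), (1,1), (1,3), (1,0), (0,0),
    (1,1), (1,4), (1,0), (0,0), (0,0), (1,0), (1,2), (0,0), (1,10), (0,0),
    (0,0), (0,0), (0,0), (1,0), (0,0), (0,0), (1,1), (1,4), (0,0), (0,0),
    (0,0), (0,0), (1,1), (1,0), (1,3), (0,0), (1,0), (1,4), (0,0), (0,0),
    (1,4), (1,3), (0,0), (0,0), (0,0), (0,0), (1,1), (0,0), (1,1), (0,0),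
    (1,5), (0,0), (0,0), (0,0), (1,1), (0,0), (1,4), (0,0), (1,1), (0,0),
    (0,0), (1,1), (1,2), (1,5), (0,0), (1,1), (0,0), (0,0), (1,0), (1,2),
    (0,0), (1,1), (1,0), (1,8), (0,0), (0,0), (0,0), (0,0), (0,0), (1,0),
    (1,4), (0,0), (1,1), (0,0), (1,1), (1,0), (1,0), (1,6), (0,0), (0,0)]

def yS1120Tree2 : List (ℕ × ℕ) := [
    (1,0), (1,0), (0,0), (1,4), (1,2), (0,0), (0,0), (1,0), (0,0), (1,1),
    (1,3), (0,0), (0,0), (1,4), (1,4), (0,0), (0,0), (0,0), (0,0), (0,0),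
    (0,0), (1,2), (1,3), (0,0), (1,0), (1,2), (1,4), (0,0), (0,0), (1,0),
    (0,0), (1,0), (1,2), (1,3), (0,0), (1,0), (1,2), (0,0), (1,1), (1,0),
    (0,0), (1,6), (0,0), (0,0), (0,0), (1,0), (1,4), (0,0), (0,0), (1,2),
    (1,7), (0,0), (1,0), (0,0), (0,0), (0,0), (0,0), (1,1), (0,0), (1,3),
    (1,3), (0,0), (0,0), (0,0), (0,0), (1,2), (1,2), (0,0), (1,1), (1,6),
    (0,0), (1,0), (0,0), (1,1), (0,0), (0,0), (0,0), (0,0), (1,1), (1,2),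
    (1,2), (1,2), (1,4), (0,0), (0,0), (0,0), (0,0), (1,0), (0,0), (1,3),
    (0,0), (1,0), (1,2), (0,0), (1,4), (1,2), (0,0), (0,0), (1,1), (0,0),
    (1,1), (1,0), (1,4), (1,0), (0,0), (1,1), (1,0), (1,6), (0,0), (0,0),
    (0,0), (1,0), (1,0), (1,4), (1,0), (1,3), (1,0), (1,0), (1,0)]

def yS1120Tree : List (ℕ × ℕ) :=
  yS1120Tree0 ++ yS1120Tree1 ++ yS1120Tree2

end Cfsg.Agent.Lib.Golay
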