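import Cfsg.Agent.Lib.Golay.Pairs

/-! # Octads relative to an incident configuration, and counts -/

set_option autoImplicit false

namespace Cfsg.Agent.Lib.Golay

open Cfsg
open scoped Pointwise

theorem inter_eq (a b : ℕ) : (toSet a ∩ toSet b).card = pc (a &&& b) := by
  rw [← toSet_and, card_toSet]

theorem toSet_mem_iff (p : GolayPt) (m : ℕ) :
    p ∈ toSet m ↔ ((m >>> ix p) &&& 1 == 1) = true := by
  rw [mem_toSet, beq_iff_eq, shift_and_one]

/-- Counting octads by intersection with `b` and prescribed incidences. -/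
theorem ncard_octClass (b k f g : ℕ) (P : Finset GolayPt → Prop)
    (hP : ∀ m ∈ octList, P (toSet m) ↔
      ((toSet b ∩ toSet m).card = k ∧ m &&& f = f ∧ m &&& g = 0)) :
    {o | o ∈ octads ∧ P o}.ncard = (octList.filter (octClass b k f g)).length := by
  refine ncard_octads _ P fun m hm => ?_
  rw [hP m hm, Finset.inter_comm, inter_eq]
  simp [octClass, mem_octList.1 hm, and_assoc]

theorem ncard_dodClass (b k f : ℕ) (P : Finset GolayPt → Prop)
    (hP : ∀ m ∈ dodList, P (toSet m) ↔ ((toSet b ∩ toSet m).card = k ∧ m &&& f = f)) :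
    {o | o ∈ dodecads ∧ P o}.ncard = (dodList.filter (dodClass b k f)).length := by
  refine ncard_dodecads _ P fun m hm => ?_
  rw [hP m hm, Finset.inter_comm, inter_eq]
  simp [dodClass, mem_dodList.1 hm, and_assoc]

theorem and_or_iff {m a b : ℕ} : m &&& (a ||| b) = a ||| b ↔ m &&& a = a ∧ m &&& b = b := by
  constructor
  · intro h
    refine ⟨?_, ?_⟩ <;> (apply Nat.eq_of_testBit_eq; intro i)
    all_goals
      have := congrArg (fun n => n.testBit i) h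
      simp only [Nat.testBit_and, Nat.testBit_or] at this ⊢
      revert this
      cases m.testBit i <;> cases a.testBit i <;> cases b.testBit i <;> simp
  · rintro ⟨h1, h2⟩
    rw [Nat.and_or_distrib_left, h1, h2]

theorem two_bits (m : ℕ) : m &&& 3 = 3 ↔ pt 0 ∈ toSet m ∧ pt 1 ∈ toSet m := by
  rw [show (3 : ℕ) = 1 <<< 0 ||| 1 <<< 1 by decide, and_or_iff, and_bit_iff (by norm_num),
    and_bit_iff (by norm_num)]

theorem bit0 (m : ℕ) : m &&& 1 = 1 ↔ pt 0 ∈ toSet m := and_bit_iff (i := 0) (by norm_num)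

theorem bit5 (m : ℕ) : m &&& 32 = 0 ↔ pt 5 ∉ toSet m := and_bit_zero (i := 5) (by norm_num)

/-- Octads at a standard configuration, moved between equal classes. -/
theorem flag_trans {S : List ℕ} {F f g : ℕ} (hS : o0 ∈ S) {y z : Finset GolayPt}
    (hy : y ∈ octads) (hz : z ∈ octads)
    (hf : ∀ a ∈ octList, toSet a = y ∨ toSet a = z → a &&& f = f ∧ a &&& g = 0)
    (h : (toSet o0 ∩ y).card = (toSet o0 ∩ z).card)
    {g2 g4 : List ℕ} {t2 t4 : List (ℕ × ℕ)} {s2 s4 : ℕ}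
    (h2 : octCover S F g2 t2 s2 o0 2 f g = true) (h4 : octCover S F g4 t4 s4 o0 4 f g = true)
    (h0 : (toSet o0 ∩ y).card = 0 → ∃ σ ∈ stabM S F, σ • y = z) :
    ∃ σ ∈ stabM S F, σ • toSet o0 = toSet o0 ∧ σ • y = z := by
  suffices ∃ σ ∈ stabM S F, σ • y = z by
    obtain ⟨σ, hσ, he⟩ := this
    exact ⟨σ, hσ, stabM_smul hσ hS, he⟩
  have hc := octad_inter_cases o0_octad hy
  have hc' := octad_inter_cases o0_octad hz
  rw [Finset.inter_comm _ y, Finset.inter_comm _ z] at h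
  rw [Finset.inter_comm _ y] at h0
  obtain ⟨a, ha, rfl⟩ := mem_octads.1 hy
  obtain ⟨b, hb, rfl⟩ := mem_octads.1 hz
  obtain ⟨fa, ga⟩ := hf a ha (Or.inl rfl)
  obtain ⟨fb, gb⟩ := hf b hb (Or.inr rfl)
  rcases hc with e | e | e | ⟨e, e'⟩
  · exact h0 e
  · exact oct_same h2 (octClass_of ha e fa ga) (octClass_of hb (h ▸ e) fb gb)
  · exact oct_same h4 (octClass_of ha e fa ga) (octClass_of hb (h ▸ e) fb gb)
  · rcases hc' with v | v | v | ⟨v, v'⟩
    · omega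
    · omega
    · omega
    · exact ⟨1, one_mem _, by rw [one_smul, e', v']⟩

theorem move_pq {p q : GolayPt} {o : Finset GolayPt} (hpq : p ≠ q) (ho : o ∈ octads)
    (hp : p ∈ o) (hq : q ∈ o) : ∃ σ ∈ M24, σ • (pt 0, pt 1, toSet o0) = (p, q, o) := by
  obtain ⟨σ, hσ, h1, h2⟩ := trans_flag_in o0_octad ho (k := 2) (by norm_num) ![pt 0, pt 1] ![p, q]
    (by decide) (by intro i j; fin_cases i <;> fin_cases j <;> simp [hpq, hpq.symm])
    (by decide +kernel) (by intro i; fin_cases i <;> simp [hp, hq])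
  exact ⟨σ, hσ, Prod.ext (h2 0) (Prod.ext (h2 1) h1)⟩

theorem move_x_in {x : GolayPt} {o : Finset GolayPt} (ho : o ∈ octads) (hx : x ∈ o) :
    ∃ σ ∈ M24, σ • (pt 0, toSet o0) = (x, o) := by
  obtain ⟨σ, hσ, h1, h2⟩ := trans_flag_in o0_octad ho (k := 1) (by norm_num) ![pt 0] ![x]
    (Function.injective_of_subsingleton _) (Function.injective_of_subsingleton _)
    (by decide +kernel) (by simpa using hx)
  exact ⟨σ, hσ, Prod.ext (h2 0) h1⟩

theorem move_x_out {x : GolayPt} {o : Finset GolayPt} (ho : o ∈ octads) (hx : x ∉ o) :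
    ∃ σ ∈ M24, σ • (pt 5, toSet o0) = (x, o) := by
  obtain ⟨σ, hσ, h1, h2⟩ := trans_flag_out o0_octad ho (p := pt 5) (q := x) (by decide +kernel) hx
  exact ⟨σ, hσ, Prod.ext h2 h1⟩

theorem pq_cover :
    octCover [o0] 3 pqo2Gens pqo2Tree pqo2Start o0 2 3 0 = true ∧
      octCover [o0] 3 pqo4Gens pqo4Tree pqo4Start o0 4 3 0 = true := by
  refine ⟨?_, ?_⟩ <;> decide +kernel

theorem xi_cover :
    octCover [o0] 1 xio2Gens xio2Tree xio2Start o0 2 1 0 = true ∧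
      octCover [o0] 1 xio4Gens xio4Tree xio4Start o0 4 1 0 = true := by
  refine ⟨?_, ?_⟩ <;> decide +kernel

theorem xn_cover :
    octCover [o0] 32 xno0Gens xno0Tree xno0Start o0 0 0 32 = true ∧
      octCover [o0] 32 xno2Gens xno2Tree xno2Start o0 2 0 32 = true ∧
      octCover [o0] 32 xno4Gens xno4Tree xno4Start o0 4 0 32 = true := by
  refine ⟨?_, ?_, ?_⟩ <;> decide +kernel

theorem pn_cover :
    coverOK [] 33 act pnqAllGens pnqAllTree pnqAllStart octList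
        (fun m => isCode m && pc m == 8 && m &&& 1 == 1 && m &&& 32 == 0) codeKey = true ∧
      octCover [o0] 33 pnqo2Gens pnqo2Tree pnqo2Start o0 2 1 32 = true ∧
      octCover [o0] 33 pnqo4Gens pnqo4Tree pnqo4Start o0 4 1 32 = true := by
  refine ⟨?_, ?_, ?_⟩ <;> decide +kernel

theorem pq_octad_pairs {p q : GolayPt} (hpq : p ≠ q) {o y z : Finset GolayPt} (ho : o ∈ octads)
    (hp : p ∈ o) (hq : q ∈ o) (hy : y ∈ octads) (hz : z ∈ octads) (hpy : p ∈ y) (hqy : q ∈ y)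
    (hpz : p ∈ z) (hqz : q ∈ z) (h : (o ∩ y).card = (o ∩ z).card) :
    ∃ σ ∈ M24, σ • (p, q, o) = (p, q, o) ∧ σ • y = z := by
  refine trans_transfer (move_pq hpq ho hp hq)
    (Rel := fun c y z => y ∈ octads ∧ z ∈ octads ∧ (c.1 ∈ y ∧ c.2.1 ∈ y ∧ c.1 ∈ z ∧ c.2.1 ∈ z) ∧
      (c.2.2 ∩ y).card = (c.2.2 ∩ z).card) ?_ ?_ ⟨hy, hz, ⟨hpy, hqy, hpz, hqz⟩, h⟩
  · rintro σ hσ ⟨a, b, c⟩ u v ⟨h1, h2, ⟨h3, h4, h5, h6⟩, h7⟩
    exact ⟨smul_mem_octads hσ h1, smul_mem_octads hσ h2, ⟨Finset.smul_mem_smul_finset h3,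
      Finset.smul_mem_smul_finset h4, Finset.smul_mem_smul_finset h5,
      Finset.smul_mem_smul_finset h6⟩, by simp only [Prod.smul_mk]; rw [smul_inter_card, smul_inter_card, h7]⟩
  · rintro u v ⟨h1, h2, ⟨h3, h4, h5, h6⟩, h7⟩
    obtain ⟨σ, hσ, e1, e2⟩ := flag_trans (by simp) h1 h2 (f := 3) (g := 0) (fun a _ ha => by
        rcases ha with rfl | rfl <;> exact ⟨(two_bits a).2 ⟨by assumption, by assumption⟩, by simp⟩)
      h7 pq_cover.1 pq_cover.2 (fun e => absurd e (by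
        rw [Finset.card_eq_zero, ← Ne, ← Finset.nonempty_iff_ne_empty]
        exact ⟨pt 0, Finset.mem_inter.2 ⟨by decide +kernel, h3⟩⟩))
    exact ⟨σ, (mem_stabM.1 hσ).1, Prod.ext (stabM_fix (i := 0) hσ (by norm_num) (by decide))
      (Prod.ext (stabM_fix (i := 1) hσ (by norm_num) (by decide)) e1), e2⟩

theorem x_in_octad_pairs {x : GolayPt} {o y z : Finset GolayPt} (ho : o ∈ octads) (hx : x ∈ o)
    (hy : y ∈ octads) (hz : z ∈ octads) (hxy : x ∈ y) (hxz : x ∈ z)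
    (h : (o ∩ y).card = (o ∩ z).card) : ∃ σ ∈ M24, σ • (x, o) = (x, o) ∧ σ • y = z := by
  refine trans_transfer (move_x_in ho hx)
    (Rel := fun c y z => y ∈ octads ∧ z ∈ octads ∧ c.1 ∈ y ∧ c.1 ∈ z ∧
      (c.2 ∩ y).card = (c.2 ∩ z).card) ?_ ?_ ⟨hy, hz, hxy, hxz, h⟩
  · rintro σ hσ ⟨a, c⟩ u v ⟨h1, h2, h3, h5, h7⟩
    exact ⟨smul_mem_octads hσ h1, smul_mem_octads hσ h2, Finset.smul_mem_smul_finset h3,
      Finset.smul_mem_smul_finset h5,
      by simp only [Prod.smul_mk]; rw [smul_inter_card, smul_inter_card, h7]⟩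
  · rintro u v ⟨h1, h2, h3, h5, h7⟩
    obtain ⟨σ, hσ, e1, e2⟩ := flag_trans (by simp) h1 h2 (f := 1) (g := 0) (fun a _ ha => by
        rcases ha with rfl | rfl <;> exact ⟨(bit0 a).2 (by assumption), by simp⟩)
      h7 xi_cover.1 xi_cover.2 (fun e => absurd e (by
        rw [Finset.card_eq_zero, ← Ne, ← Finset.nonempty_iff_ne_empty]
        exact ⟨pt 0, Finset.mem_inter.2 ⟨by decide +kernel, h3⟩⟩))
    exact ⟨σ, (mem_stabM.1 hσ).1, Prod.ext (stabM_fix (i := 0) hσ (by norm_num) (by decide)) e1, e2⟩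

theorem x_out_octad_pairs {x : GolayPt} {o y z : Finset GolayPt} (ho : o ∈ octads) (hx : x ∉ o)
    (hy : y ∈ octads) (hz : z ∈ octads) (hxy : x ∉ y) (hxz : x ∉ z)
    (h : (o ∩ y).card = (o ∩ z).card) : ∃ σ ∈ M24, σ • (x, o) = (x, o) ∧ σ • y = z := by
  refine trans_transfer (move_x_out ho hx)
    (Rel := fun c y z => y ∈ octads ∧ z ∈ octads ∧ c.1 ∉ y ∧ c.1 ∉ z ∧
      (c.2 ∩ y).card = (c.2 ∩ z).card) ?_ ?_ ⟨hy, hz, hxy, hxz, h⟩
  · rintro σ hσ ⟨a, c⟩ u v ⟨h1, h2, h3, h5, h7⟩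
    exact ⟨smul_mem_octads hσ h1, smul_mem_octads hσ h2,
      fun hm => h3 ((Finset.smul_mem_smul_finset_iff σ).1 hm),
      fun hm => h5 ((Finset.smul_mem_smul_finset_iff σ).1 hm),
      by simp only [Prod.smul_mk]; rw [smul_inter_card, smul_inter_card, h7]⟩
  · rintro u v ⟨h1, h2, h3, h5, h7⟩
    have hfg : ∀ a ∈ octList, toSet a = u ∨ toSet a = v → a &&& 0 = 0 ∧ a &&& 32 = 0 := by
      intro a _ ha
      rcases ha with rfl | rfl <;> exact ⟨by simp, (bit5 a).2 (by assumption)⟩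
    obtain ⟨σ, hσ, e1, e2⟩ := flag_trans (by simp) h1 h2 hfg h7 xn_cover.2.1 xn_cover.2.2
      (fun e => by
        obtain ⟨a, ha, rfl⟩ := mem_octads.1 h1
        obtain ⟨b, hb, rfl⟩ := mem_octads.1 h2
        exact oct_same xn_cover.1
          (octClass_of ha (by rw [Finset.inter_comm]; exact e) (hfg a ha (Or.inl rfl)).1
            (hfg a ha (Or.inl rfl)).2)
          (octClass_of hb (by rw [Finset.inter_comm, ← h7]; exact e) (hfg b hb (Or.inr rfl)).1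
            (hfg b hb (Or.inr rfl)).2))
    exact ⟨σ, (mem_stabM.1 hσ).1, Prod.ext (stabM_fix (i := 5) hσ (by norm_num) (by decide)) e1, e2⟩

theorem pnq_trans {p q : GolayPt} (hpq : p ≠ q) {o o' : Finset GolayPt} (ho : o ∈ octads)
    (ho' : o' ∈ octads) (hp : p ∈ o) (hq : q ∉ o) (hp' : p ∈ o') (hq' : q ∉ o') :
    ∃ σ ∈ M24, σ • (p, q) = (p, q) ∧ σ • o = o' := by
  refine trans_transfer (a₀ := (pt 0, pt 5)) ?_
    (Rel := fun c y z => y ∈ octads ∧ z ∈ octads ∧ c.1 ∈ y ∧ c.2 ∉ y ∧ c.1 ∈ z ∧ c.2 ∉ z)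
    ?_ ?_ ⟨ho, ho', hp, hq, hp', hq'⟩
  · obtain ⟨σ, hσ, h1, h2⟩ := M24_trans_pairs (p := pt 0) (q := pt 5) (by decide) hpq
    exact ⟨σ, hσ, Prod.ext h1 h2⟩
  · rintro σ hσ ⟨a, c⟩ u v ⟨h1, h2, h3, h4, h5, h6⟩
    exact ⟨smul_mem_octads hσ h1, smul_mem_octads hσ h2, Finset.smul_mem_smul_finset h3,
      fun hm => h4 ((Finset.smul_mem_smul_finset_iff σ).1 hm), Finset.smul_mem_smul_finset h5,
      fun hm => h6 ((Finset.smul_mem_smul_finset_iff σ).1 hm)⟩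
  · rintro u v ⟨h1, h2, h3, h4, h5, h6⟩
    obtain ⟨a, ha, rfl⟩ := mem_octads.1 h1
    obtain ⟨b, hb, rfl⟩ := mem_octads.1 h2
    have hU : ∀ m, (fun m => isCode m && pc m == 8 && m &&& 1 == 1 && m &&& 32 == 0) m = true →
        m ∈ octList := by
      intro m hm
      simp only [Bool.and_eq_true, beq_iff_eq] at hm
      exact mem_octList.2 hm.1.1
    obtain ⟨σ, hσ, he⟩ := same_orbit
      (cover_mask hU pn_cover.1 (a := a) (by
        simp [mem_octList.1 ha, (bit0 a).2 h3, (bit5 a).2 h4]))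
      (cover_mask hU pn_cover.1 (a := b) (by
        simp [mem_octList.1 hb, (bit0 b).2 h5, (bit5 b).2 h6]))
    exact ⟨σ, (mem_stabM.1 hσ).1, Prod.ext (stabM_fix (i := 0) hσ (by norm_num) (by decide))
      (stabM_fix (i := 5) hσ (by norm_num) (by decide)), he⟩

theorem move_pnq {p q : GolayPt} (hpq : p ≠ q) {o : Finset GolayPt} (ho : o ∈ octads)
    (hp : p ∈ o) (hq : q ∉ o) : ∃ σ ∈ M24, σ • (pt 0, pt 5, toSet o0) = (p, q, o) := by
  obtain ⟨σ, hσ, h1, h2⟩ := M24_trans_pairs (p := pt 0) (q := pt 5) (by decide) hpq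
  have hin : pt 0 ∈ toSet o0 := by decide +kernel
  have hout : pt 5 ∉ toSet o0 := by decide +kernel
  obtain ⟨τ, hτ, e1, e2⟩ := pnq_trans hpq (smul_mem_octads hσ o0_octad) ho
    (h1 ▸ Finset.smul_mem_smul_finset hin)
    (h2 ▸ fun hm => hout ((Finset.smul_mem_smul_finset_iff σ).1 hm)) hp hq
  refine ⟨τ * σ, mul_mem hτ hσ, ?_⟩
  simp only [Prod.smul_mk, Prod.mk.injEq] at e1
  rw [mul_smul]
  simp only [Prod.smul_mk, Equiv.Perm.smul_def, h1, h2]
  simp only [Equiv.Perm.smul_def] at e1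
  rw [e1.1, e1.2, e2]

theorem pnq_octad_pairs {p q : GolayPt} (hpq : p ≠ q) {o y z : Finset GolayPt} (ho : o ∈ octads)
    (hp : p ∈ o) (hq : q ∉ o) (hy : y ∈ octads) (hz : z ∈ octads) (hpy : p ∈ y) (hqy : q ∉ y)
    (hpz : p ∈ z) (hqz : q ∉ z) (h : (o ∩ y).card = (o ∩ z).card) :
    ∃ σ ∈ M24, σ • (p, q, o) = (p, q, o) ∧ σ • y = z := by
  refine trans_transfer (move_pnq hpq ho hp hq)
    (Rel := fun c y z => y ∈ octads ∧ z ∈ octads ∧ (c.1 ∈ y ∧ c.2.1 ∉ y ∧ c.1 ∈ z ∧ c.2.1 ∉ z) ∧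
      (c.2.2 ∩ y).card = (c.2.2 ∩ z).card) ?_ ?_ ⟨hy, hz, ⟨hpy, hqy, hpz, hqz⟩, h⟩
  · rintro σ hσ ⟨a, b, c⟩ u v ⟨h1, h2, ⟨h3, h4, h5, h6⟩, h7⟩
    exact ⟨smul_mem_octads hσ h1, smul_mem_octads hσ h2, ⟨Finset.smul_mem_smul_finset h3,
      fun hm => h4 ((Finset.smul_mem_smul_finset_iff σ).1 hm), Finset.smul_mem_smul_finset h5,
      fun hm => h6 ((Finset.smul_mem_smul_finset_iff σ).1 hm)⟩,
      by simp only [Prod.smul_mk]; rw [smul_inter_card, smul_inter_card, h7]⟩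
  · rintro u v ⟨h1, h2, ⟨h3, h4, h5, h6⟩, h7⟩
    obtain ⟨σ, hσ, e1, e2⟩ := flag_trans (by simp) h1 h2 (f := 1) (g := 32) (fun a _ ha => by
        rcases ha with rfl | rfl <;> exact ⟨(bit0 a).2 (by assumption), (bit5 a).2 (by assumption)⟩)
      h7 pn_cover.2.1 pn_cover.2.2 (fun e => absurd e (by
        rw [Finset.card_eq_zero, ← Ne, ← Finset.nonempty_iff_ne_empty]
        exact ⟨pt 0, Finset.mem_inter.2 ⟨by decide +kernel, h3⟩⟩))
    exact ⟨σ, (mem_stabM.1 hσ).1, Prod.ext (stabM_fix (i := 0) hσ (by norm_num) (by decide))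
      (Prod.ext (stabM_fix (i := 5) hσ (by norm_num) (by decide)) e1), e2⟩

end Cfsg.Agent.Lib.Golay
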