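import Mathlib.Data.Nat.Notation

/-! # The pointwise stabiliser of an octad and a transitivity tree -/

set_option autoImplicit false

namespace Cfsg.Agent.Lib.Golay

def octFixTs : List ℕ := [
  984818244535754528103549039458486304,
  479663310730678034207776437455390752,
  651239579074641248992907580101724192,
  944319304547998642267612847938832416,
  268195153026948482477577069584812064,
  772944516003414818434737759861180448,
  720981692062171673584743151055243296,
  358662142733855540651195105552730144,
  812852730107173232200347929486133280,
  590072960059042287979885064796342304,
  561475773312554808336860583768983584,
  681942991418186671700734416290678816,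
  892716570080838209712931004353710112,
  841384528646309054241536335100872736,
  380679813245078647833929983948064800,
  220213109803259289183002082616117280]

def flagTrioStart : List ℕ := [5279, 1256224, 15515712]

def flagTrioGens : List ℕ := [
  362392405174103490328399853410977799,
  837896186785053199036918259434688906]

def flagTrioTree0 : List (ℕ × ℕ) := [
    (0,0), (0,0), (0,0), (0,0), (1,2), (1,0), (1,3), (0,0), (1,3), (1,0),
    (0,0), (0,0), (1,2)]

def flagTrioTree : List (ℕ × ℕ) :=
  flagTrioTree0

end Cfsg.Agent.Lib.Golay
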