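import Mathlib.Data.Nat.Notation

/-! # A tree on the points outside an octad -/

set_option autoImplicit false

namespace Cfsg.Agent.Lib.Golay

def oOutStart : ℕ := 32

def oOutGens : List ℕ := [
  260569992218711957109534139328367684,
  603265623222366600246763169285021059]

def oOutTree0 : List (ℕ × ℕ) := [
    (0,0), (0,0), (1,0), (0,0), (1,0), (1,4), (0,0), (0,0), (0,0), (1,1),
    (1,5), (0,0), (0,0), (1,1), (1,2)]

def oOutTree : List (ℕ × ℕ) :=
  oOutTree0

end Cfsg.Agent.Lib.Golay
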