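import Mathlib.Data.Nat.Notation

/-! # Trees for pairs of octads and dodecads -/

set_option autoImplicit false

namespace Cfsg.Agent.Lib.Golay

def o0Start : ℕ := 1009728

def o0Gens : List ℕ := [
  357890270904266941621970004403887201,
  220207951619020699579021846747552865,
  570551128565549100136687462028247175]

def o0Tree0 : List (ℕ × ℕ) := [
    (0,0), (0,0), (0,0), (1,1), (1,2), (0,0), (1,1), (2,2), (0,0), (1,3),
    (0,0), (0,0), (2,0), (1,2), (2,0), (2,2), (1,2), (0,0), (2,0), (2,2),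
    (2,2), (1,0), (2,1), (2,3), (0,0), (0,0), (1,1), (2,1), (2,0)]

def o0Tree : List (ℕ × ℕ) :=
  o0Tree0

def o2Start : ℕ := 31554

def o2Gens : List ℕ := [
  357890270904266941621970004403887201,
  220207951619020699579021846747552865,
  570551128565549100136687462028247175]

def o2Tree0 : List (ℕ × ℕ) := [
    (0,0), (0,0), (0,0), (1,0), (1,0), (0,0), (1,1), (2,0), (2,2), (0,0),
    (2,4), (0,0), (0,0), (1,1), (0,0), (2,1), (2,2), (0,0), (1,3), (0,0),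
    (2,0), (2,2), (2,2), (1,0), (0,0), (2,1), (1,5), (1,0), (1,0), (0,0),
    (0,0), (2,3), (2,2), (2,0), (0,0), (2,0), (1,2), (2,4), (0,0), (0,0),
    (0,0), (2,0), (1,2), (1,2), (2,0), (1,3), (0,0), (2,0), (1,2), (2,1),
    (0,0), (0,0), (1,1), (1,2), (1,0), (2,1), (2,2), (1,0), (2,4), (0,0),
    (0,0), (1,1), (0,0), (2,2), (1,2), (0,0), (2,0), (2,3), (1,0), (2,1),
    (0,0), (1,6), (0,0), (0,0), (1,0), (0,0), (2,1), (2,0), (2,3), (2,2),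
    (0,0), (1,0), (2,1), (0,0), (2,1), (1,3), (0,0), (1,1), (2,1), (2,2),
    (0,0), (1,1), (1,0), (2,1), (2,5), (0,0), (0,0), (1,0), (2,1), (2,0),
    (2,3), (1,0), (2,1), (1,3), (0,0), (1,0), (1,2), (0,0), (2,0), (2,0),
    (1,3), (2,2), (0,0), (2,1), (1,0), (2,1), (2,4), (0,0), (1,0), (2,1),
    (2,0), (1,3), (0,0), (2,1), (2,0), (2,3), (1,0), (2,1), (2,0), (2,6),
    (0,0), (0,0), (1,0), (0,0), (2,1), (1,0), (2,3), (0,0), (1,1), (2,0),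
    (1,4), (0,0), (0,0), (2,1), (1,2), (1,0), (2,1), (2,2), (0,0), (1,1),
    (0,0), (1,1), (2,2), (2,3), (0,0), (2,0), (2,0), (1,3), (2,0), (2,2),
    (1,0), (2,0), (1,5), (0,0), (1,0), (0,0), (2,0), (1,2), (2,0), (2,2),
    (2,2), (0,0), (0,0), (1,2), (1,3), (2,0), (0,0), (1,1), (2,3), (0,0),
    (1,0), (2,0), (1,3), (1,0), (2,1), (2,0), (2,3), (0,0), (1,1), (0,0),
    (2,2), (1,6), (0,0), (0,0), (0,0), (1,0), (0,0), (2,2), (0,0), (2,1),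
    (1,3), (1,0), (1,0), (2,1), (2,2), (0,0), (1,1), (2,3), (1,0), (0,0),
    (2,1), (0,0), (1,1), (2,3), (0,0), (0,0), (1,1), (1,2), (2,4), (0,0),
    (2,1), (0,0), (0,0), (2,2), (1,4), (0,0), (0,0), (2,0), (1,0), (1,3),
    (0,0), (2,1), (2,2), (0,0), (1,1), (2,0), (2,2), (2,0), (2,4), (2,0),
    (0,0), (1,0), (2,1), (2,2), (1,0), (2,1), (1,0), (2,6), (0,0), (0,0),
    (0,0), (1,0), (2,1), (2,0), (1,3), (0,0), (2,2), (0,0), (1,3), (0,0),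
    (2,0), (0,0), (1,3), (0,0), (1,1), (2,1), (2,2), (1,0), (2,3), (1,0),
    (1,0), (2,1), (2,2), (1,0), (1,4), (0,0), (0,0), (0,0), (1,1), (2,0),
    (2,3), (2,0), (1,3), (0,0), (0,0), (2,1), (1,2), (2,0), (2,2), (0,0),
    (2,3), (0,0), (2,0), (1,2), (1,0), (2,2), (0,0), (1,0), (1,2), (0,0),
    (1,1), (2,2), (2,4), (1,0), (2,0), (2,0), (2,3), (0,0), (2,0), (1,2),
    (1,0), (2,1), (2,0), (2,7), (0,0), (0,0), (0,0), (1,0), (1,0), (1,3),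
    (2,0), (0,0), (2,3), (2,0), (1,0), (1,4), (0,0), (0,0), (1,0), (1,0),
    (1,3), (2,2), (0,0), (0,0), (2,0), (1,2), (1,2), (1,0), (2,2), (0,0),
    (2,1), (2,4), (0,0), (0,0), (2,0), (1,2), (2,1), (0,0), (1,5), (0,0),
    (0,0), (1,0), (2,1), (1,2), (0,0), (1,1), (1,0), (2,1), (2,2), (2,0),
    (2,3), (0,0), (1,0), (2,1), (2,2), (2,0), (1,4), (0,0), (0,0), (1,0),
    (1,2), (2,0), (1,0), (2,3), (1,0), (1,3), (2,0), (0,0), (2,3), (0,0),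
    (1,0), (1,2), (2,3), (0,0), (2,0), (0,0), (2,1), (1,3), (0,0), (2,0),
    (1,2), (0,0), (2,2), (2,2), (0,0), (0,0), (2,1), (2,0), (1,3), (2,1),
    (0,0), (1,1), (0,0), (2,6), (0,0), (0,0), (1,0), (1,2), (0,0), (1,0),
    (2,1), (1,2), (2,2), (1,0), (2,1), (0,0), (1,1), (1,0), (1,5), (0,0),
    (0,0), (1,1), (2,1), (1,2), (0,0), (0,0), (1,2), (2,0), (2,3), (1,0),
    (2,0), (2,4), (0,0), (0,0), (1,0), (1,2), (2,1), (0,0), (1,1), (2,1),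
    (2,3), (1,0), (0,0), (1,1), (2,1), (2,2), (1,0)]

def o2Tree : List (ℕ × ℕ) :=
  o2Tree0

def o4Start : ℕ := 10558

def o4Gens : List ℕ := [
  357890270904266941621970004403887201,
  220207951619020699579021846747552865,
  570551128565549100136687462028247175]

def o4Tree0 : List (ℕ × ℕ) := [
    (0,0), (0,0), (1,0), (0,0), (2,0), (0,0), (1,1), (2,1), (2,3), (0,0),
    (2,1), (2,0), (0,0), (2,1), (2,5), (0,0), (0,0), (2,0), (1,0), (1,3),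
    (2,1), (0,0), (1,1), (1,3), (0,0), (1,1), (2,1), (1,0), (2,3), (1,0),
    (1,0), (2,0), (2,3), (1,0), (2,0), (1,6), (0,0), (0,0), (2,0), (1,0),
    (2,1), (2,3), (0,0), (2,0), (1,2), (0,0), (1,1), (2,1), (2,4), (0,0),
    (0,0), (0,0), (2,1), (1,2), (2,1), (1,0), (2,1), (1,3), (0,0), (1,1),
    (2,0), (2,2), (2,2), (2,0), (0,0), (2,5), (0,0), (0,0), (0,0), (1,2),
    (0,0), (2,2), (0,0), (2,0), (1,2), (2,0), (2,2), (1,3), (0,0), (2,0),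
    (0,0), (1,1), (1,3), (2,0), (2,2), (0,0), (2,0), (2,4), (0,0), (0,0),
    (2,0), (2,2), (2,0), (1,3), (1,0), (2,0), (2,2), (1,0), (2,1), (2,3),
    (0,0), (2,0), (1,2), (0,0), (2,1), (1,6), (0,0), (1,0), (2,0), (2,2),
    (0,0), (1,0), (0,0), (1,1), (2,1), (2,2), (1,0), (0,0), (1,4), (0,0),
    (2,0), (1,0), (1,3), (2,0), (2,2), (2,2), (0,0), (0,0), (1,1), (2,1),
    (1,2), (0,0), (2,2), (1,0), (2,0), (2,2), (1,5), (2,0), (1,0), (1,0),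
    (2,1), (2,0), (1,0), (2,4), (0,0), (1,1), (2,4), (0,0), (0,0), (0,0),
    (1,0), (1,0), (2,2), (2,2), (1,2), (0,0), (1,1), (2,0), (2,2), (2,2),
    (1,0), (1,3), (0,0), (0,0), (0,0), (2,1), (2,2), (0,0), (1,3), (2,1),
    (1,0), (2,3), (0,0), (1,1), (2,0), (2,2), (0,0), (1,0), (1,2), (0,0),
    (2,1), (2,6), (0,0), (0,0), (0,0), (1,0), (2,0), (2,2), (0,0), (1,1),
    (1,3), (2,0), (1,3), (0,0), (1,0), (1,0), (1,3), (1,0), (0,0), (2,3),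
    (1,0), (0,0), (2,4), (0,0), (1,0), (0,0), (0,0), (1,4), (1,0), (0,0),
    (2,2), (2,2), (1,0), (0,0), (1,1), (1,5), (0,0), (0,0), (1,0), (2,0),
    (1,3), (1,0), (2,1), (2,2), (2,0), (0,0), (0,0), (1,2), (1,4), (0,0),
    (0,0), (2,2), (0,0), (2,1), (2,3), (0,0), (0,0), (2,0), (1,2), (2,1),
    (2,0), (1,3), (1,0), (2,0), (2,3), (0,0), (1,1), (2,0), (2,2), (2,4),
    (0,0), (0,0), (1,0), (2,1), (1,2), (0,0), (2,0), (2,3), (1,0), (1,3),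
    (0,0), (2,0), (1,2), (0,0), (2,0), (1,2), (2,1), (0,0), (2,3), (2,2),
    (0,0), (0,0), (1,0), (1,2), (2,1), (2,0), (1,3), (0,0), (1,1)]

def o4Tree : List (ℕ × ℕ) :=
  o4Tree0

def d4Start : ℕ := 1035448

def d4Gens : List ℕ := [
  736299140871918076886619376914542884,
  887217528124179077998383291162468416]

def d4Tree0 : List (ℕ × ℕ) := [
    (0,0), (0,0), (0,0), (0,0), (0,0), (0,0), (0,0), (1,0), (1,2), (1,0),
    (0,0), (1,1), (1,0), (1,5), (0,0), (0,0), (0,0), (1,0), (1,3), (1,0),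
    (0,0), (1,0), (1,5), (1,0), (1,0), (0,0), (1,6), (0,0), (0,0), (0,0),
    (1,1), (0,0), (1,1), (0,0), (1,4), (0,0), (0,0), (1,1), (1,2), (0,0),
    (1,4), (0,0), (0,0), (0,0), (0,0), (1,3), (0,0), (1,0), (1,2), (1,0),
    (1,4), (0,0), (0,0), (1,0), (1,3), (1,0), (1,6), (0,0), (0,0), (1,0),
    (0,0), (0,0), (1,1), (0,0), (1,1), (1,0), (1,6), (0,0), (0,0), (0,0),
    (1,1), (1,2), (1,0), (1,3), (0,0), (1,0), (1,2), (1,4), (0,0), (0,0),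
    (0,0), (0,0), (1,0), (0,0), (1,3), (0,0), (0,0), (1,5), (0,0), (0,0),
    (0,0), (1,2), (0,0), (1,1), (1,0), (1,4), (0,0), (1,1), (1,4), (0,0),
    (0,0), (0,0), (1,1), (1,2), (1,2), (0,0), (0,0), (1,0), (0,0), (1,4),
    (0,0), (1,7), (0,0), (0,0), (0,0), (0,0), (0,0), (1,1), (0,0), (1,1),
    (1,0), (1,4), (0,0), (0,0), (0,0), (1,2), (0,0), (1,3), (0,0), (1,0),
    (1,5), (0,0), (0,0), (0,0), (1,1), (0,0), (1,3), (1,0), (0,0), (1,4),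
    (0,0), (1,0), (0,0), (1,1), (1,3), (0,0), (1,1), (1,5), (0,0), (0,0),
    (0,0), (1,0), (1,3), (0,0), (0,0), (1,2), (0,0), (1,4), (0,0), (1,0),
    (1,0), (1,3), (0,0), (1,0), (1,8), (0,0), (0,0), (0,0), (0,0), (0,0),
    (0,0), (1,0), (1,3), (0,0), (1,1), (0,0), (0,0), (1,0), (0,0), (1,7),
    (0,0), (0,0), (0,0), (0,0), (1,1), (1,2), (0,0), (1,3), (1,2), (0,0),
    (0,0), (0,0), (1,0), (1,4), (1,0), (0,0), (1,6), (0,0), (0,0), (0,0),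
    (1,0), (1,0), (1,3), (0,0), (1,1), (1,0), (1,4), (0,0), (0,0), (0,0),
    (1,2), (1,2), (0,0), (0,0), (1,7), (0,0), (0,0), (0,0), (0,0), (0,0),
    (1,1), (0,0), (1,3), (0,0), (0,0), (1,4), (0,0), (0,0), (0,0), (1,1),
    (1,2), (0,0), (1,1), (1,5), (0,0), (0,0), (1,0), (0,0), (1,3), (1,2),
    (0,0), (0,0), (0,0), (1,2), (1,5), (0,0), (0,0), (0,0), (1,0), (1,2),
    (0,0), (1,0), (1,2), (1,3), (1,0), (1,0), (0,0), (0,0), (0,0), (1,7),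
    (1,0), (1,5), (0,0), (0,0), (0,0), (0,0), (1,1), (0,0), (0,0), (1,0),
    (0,0), (1,4), (0,0), (1,0), (1,5), (0,0), (0,0), (1,0), (1,3), (1,0),
    (1,4), (0,0), (0,0), (0,0), (0,0), (1,2), (0,0), (1,3), (1,0), (1,0),
    (1,4), (1,0), (0,0), (0,0), (0,0), (1,10), (0,0), (0,0), (0,0), (1,0),
    (0,0), (0,0), (1,0), (0,0), (1,0), (1,4), (0,0), (0,0), (0,0), (1,3),
    (1,0), (1,4), (0,0), (0,0), (1,0), (1,3), (0,0), (1,1), (1,0), (1,6),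
    (0,0), (0,0), (0,0), (1,0), (0,0), (1,3), (1,0), (1,3), (0,0), (1,0),
    (1,0), (0,0), (1,6), (0,0), (0,0), (1,0), (0,0), (0,0), (1,4), (0,0),
    (1,3), (0,0), (0,0), (0,0), (0,0), (1,2), (1,2), (1,0), (0,0), (1,4),
    (1,0), (0,0), (1,0), (1,8), (0,0), (0,0), (0,0), (0,0), (0,0), (1,2),
    (0,0), (1,1), (1,3), (1,2), (0,0), (0,0), (1,1), (0,0), (0,0), (1,6),
    (0,0), (1,0), (1,2), (1,0), (1,0), (0,0), (0,0), (0,0), (1,9), (0,0),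
    (0,0), (0,0), (0,0), (0,0), (1,0), (0,0), (0,0), (1,2), (1,3), (0,0),
    (1,0), (1,2), (1,3), (1,2), (0,0), (0,0), (0,0), (1,0), (0,0), (1,1),
    (1,3), (1,2), (0,0), (1,0), (1,4), (1,0), (1,0), (0,0), (1,1), (1,6),
    (0,0), (0,0), (0,0), (1,1), (0,0), (1,1), (1,0), (1,4), (0,0), (1,0),
    (0,0), (1,3), (1,0), (1,4), (0,0), (0,0), (0,0), (1,1), (1,0), (1,3),
    (1,0), (0,0), (1,0), (1,5), (0,0), (1,5), (0,0), (0,0), (0,0), (0,0),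
    (1,0), (1,0), (1,3), (0,0), (0,0), (0,0), (1,2), (1,4), (0,0), (0,0),
    (1,0), (0,0), (1,1), (1,3), (0,0), (1,1), (1,3), (0,0), (0,0), (1,0),
    (1,6), (0,0), (0,0), (0,0), (0,0), (1,0), (1,3), (1,0), (1,3), (1,0),
    (0,0), (1,4), (0,0), (1,4), (0,0), (0,0), (0,0), (1,0), (1,0), (0,0),
    (1,5), (0,0), (0,0), (0,0), (1,1), (1,3), (1,0), (0,0), (1,0), (1,6),
    (0,0), (1,0), (0,0), (1,0)]

def d4Tree : List (ℕ × ℕ) :=
  d4Tree0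

def d6Start : ℕ := 57274

def d6Gens : List ℕ := [
  736299140871918076886619376914542884,
  887217528124179077998383291162468416]

def d6Tree0 : List (ℕ × ℕ) := [
    (0,0), (0,0), (0,0), (0,0), (0,0), (0,0), (0,0), (1,0), (0,0), (0,0),
    (0,0), (1,0), (1,0), (1,3), (1,0), (1,4), (0,0), (1,0), (1,5), (0,0),
    (0,0), (0,0), (1,0), (0,0), (1,3), (0,0), (1,0), (1,2), (1,3), (0,0),
    (1,0), (0,0), (1,3), (0,0), (1,0), (1,0), (1,3), (1,4), (0,0), (0,0),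
    (1,0), (1,2), (1,5), (0,0), (0,0), (0,0), (0,0), (0,0), (1,2), (0,0),
    (0,0), (1,2), (1,0), (1,4), (0,0), (1,0), (0,0), (1,3), (0,0), (1,5),
    (0,0), (0,0), (0,0), (0,0), (1,0), (1,4), (0,0), (0,0), (1,0), (1,2),
    (1,2), (0,0), (1,4), (0,0), (0,0), (1,0), (1,0), (1,3), (1,2), (1,0),
    (0,0), (1,7), (0,0), (0,0), (0,0), (0,0), (0,0), (0,0), (0,0), (1,0),
    (1,2), (1,3), (1,2), (1,0), (0,0), (1,4), (0,0), (0,0), (0,0), (1,0),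
    (1,2), (1,2), (0,0), (1,3), (0,0), (0,0), (1,1), (1,0), (1,3), (1,0),
    (1,5), (0,0), (1,0), (0,0), (1,3), (0,0), (0,0), (0,0), (0,0), (1,1),
    (1,2), (1,0), (0,0), (1,4), (1,0), (0,0), (1,7), (0,0), (0,0), (0,0),
    (1,0), (0,0), (1,1), (1,3), (1,0), (0,0), (0,0), (1,5), (0,0), (0,0),
    (1,0), (1,2), (0,0), (0,0), (1,2), (1,0), (1,4), (0,0), (0,0), (1,0),
    (0,0), (1,7), (0,0), (0,0), (0,0), (1,2), (0,0), (0,0), (1,0), (1,3),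
    (0,0), (1,4), (0,0), (1,0), (1,0), (1,3), (0,0), (0,0), (1,1), (1,8),
    (0,0), (0,0), (0,0), (0,0), (0,0), (0,0), (0,0), (1,2), (0,0), (1,0),
    (1,4), (0,0), (1,1), (0,0), (1,0), (1,2), (1,4), (0,0), (0,0), (1,0),
    (0,0), (1,1), (1,4), (1,3), (1,0), (0,0), (1,0), (0,0), (1,1), (1,0),
    (1,4), (1,0), (1,0), (1,6), (0,0), (0,0), (1,1), (0,0), (0,0), (1,0),
    (1,2), (0,0), (1,3), (0,0), (0,0), (1,2), (1,0), (1,5), (0,0), (0,0),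
    (0,0), (0,0), (1,0), (1,2), (1,2), (0,0), (1,3), (1,0), (1,3), (1,4),
    (0,0), (0,0), (1,0), (0,0), (0,0), (0,0), (1,2), (1,2), (1,0), (0,0),
    (1,5), (0,0), (0,0), (1,0), (0,0), (0,0), (1,1), (1,2), (0,0), (1,4),
    (0,0), (0,0), (1,0), (1,2), (0,0), (1,5), (0,0), (1,1), (0,0), (0,0),
    (0,0), (1,7), (0,0), (0,0), (1,0), (0,0), (0,0), (1,0), (1,2), (1,0),
    (1,3), (1,0), (1,0), (1,5), (0,0), (0,0), (0,0), (1,2), (1,0), (1,3),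
    (1,3), (0,0), (0,0), (0,0), (1,0), (1,3), (0,0), (0,0), (0,0), (1,3),
    (1,0), (1,0), (1,5), (0,0), (0,0), (1,0), (1,9), (0,0), (0,0), (0,0),
    (0,0), (0,0), (0,0), (1,0), (0,0), (0,0), (1,2), (1,0), (1,4), (0,0),
    (0,0), (1,0), (1,5), (0,0), (0,0), (1,0), (0,0), (1,3), (0,0), (1,1),
    (1,0), (1,4), (0,0), (0,0), (1,1), (1,2), (1,0), (0,0), (1,1), (1,6),
    (1,0), (0,0), (0,0), (1,2), (1,0), (1,0), (1,6), (0,0), (0,0), (0,0),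
    (1,0), (0,0), (1,3), (0,0), (0,0), (1,0), (1,3), (1,0), (1,4), (0,0),
    (1,1), (0,0), (0,0), (0,0), (1,1), (1,3), (1,0), (1,5), (0,0), (1,0),
    (0,0), (0,0), (1,2), (1,3), (0,0), (1,1), (1,0), (1,6), (0,0), (0,0),
    (0,0), (0,0), (0,0), (1,0), (1,2), (0,0), (0,0), (1,2), (1,0), (1,4),
    (0,0), (1,0), (1,0), (1,6), (0,0), (0,0), (0,0), (0,0), (1,0), (1,3),
    (1,0), (1,3), (0,0), (0,0), (1,0), (1,2), (1,0), (1,3), (0,0), (1,1),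
    (1,0), (1,0), (1,6), (1,0), (0,0), (1,0), (1,2), (1,0), (0,0), (1,7),
    (0,0), (0,0), (0,0), (0,0), (1,0), (1,3), (0,0), (0,0), (0,0), (1,3),
    (1,0), (1,4), (1,0), (0,0), (1,1), (0,0), (1,1), (1,8), (0,0), (0,0),
    (0,0), (0,0), (1,0), (0,0), (0,0), (1,1), (1,0), (1,3), (1,3), (0,0),
    (0,0), (1,0), (1,3), (0,0), (1,1), (0,0), (0,0), (1,2), (1,0), (1,6),
    (1,0), (0,0), (0,0), (0,0), (0,0), (1,2), (1,0), (1,3), (0,0), (0,0),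
    (0,0), (1,5), (1,0), (1,0), (1,6), (0,0), (0,0), (0,0), (0,0), (0,0),
    (1,1), (1,3), (1,0), (0,0), (0,0), (1,5), (0,0), (0,0), (0,0), (1,0),
    (1,2), (1,2), (1,0), (1,0), (1,4), (0,0), (1,4), (1,0), (0,0), (0,0),
    (1,0), (0,0), (1,3), (1,0), (0,0), (1,4), (1,5), (0,0), (0,0), (1,1)]

def d6Tree1 : List (ℕ × ℕ) := [
    (0,0), (0,0), (0,0), (0,0), (1,1), (1,2), (1,2), (0,0), (1,0), (0,0),
    (1,1), (1,5), (0,0), (0,0), (0,0), (1,3), (0,0), (0,0), (1,1), (0,0),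
    (1,1), (1,3), (1,0), (1,6), (0,0), (0,0), (0,0), (1,1), (0,0), (1,0),
    (1,2), (1,0), (0,0), (1,5), (0,0), (1,0), (0,0), (1,3), (0,0), (0,0),
    (1,2), (1,4), (0,0), (0,0), (0,0), (0,0), (1,1), (1,2), (0,0), (0,0),
    (1,11), (0,0), (0,0), (0,0), (0,0), (0,0), (0,0), (1,0), (1,0), (1,0),
    (1,4), (0,0), (0,0), (1,1), (1,4), (0,0), (0,0), (1,0), (0,0), (1,4),
    (0,0), (0,0), (0,0), (1,0), (1,2), (1,2), (0,0), (1,1), (1,0), (1,0),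
    (1,5), (0,0), (0,0), (1,2), (0,0), (1,6), (0,0), (0,0), (0,0), (1,1),
    (0,0), (1,1), (1,0), (1,4), (0,0), (0,0), (0,0), (0,0), (1,2), (1,0),
    (1,4), (0,0), (1,0), (1,0), (1,3), (0,0), (1,0), (1,2), (1,0), (0,0),
    (1,7), (0,0), (0,0), (1,0), (1,0), (1,3), (0,0), (1,1), (1,0), (1,4),
    (0,0), (0,0), (0,0), (1,2), (1,2), (0,0), (1,1), (0,0), (0,0), (1,8),
    (0,0), (0,0), (0,0), (0,0), (0,0), (0,0), (1,0), (1,2), (1,2), (1,2),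
    (0,0), (0,0), (1,2), (1,0), (1,4), (0,0), (1,0), (1,0), (0,0), (1,1),
    (1,4), (1,0), (0,0), (1,5), (1,0), (0,0), (0,0), (1,1), (1,2), (0,0),
    (1,5), (0,0), (0,0), (0,0), (0,0), (1,1), (0,0), (1,1), (1,3), (0,0),
    (1,3), (0,0), (0,0), (1,0), (1,3), (0,0), (0,0), (1,1), (1,2), (0,0),
    (1,5), (0,0), (0,0), (0,0), (1,1), (0,0), (1,1), (1,3), (0,0), (1,1),
    (0,0), (1,1), (1,4), (1,5), (0,0), (0,0), (0,0), (1,0), (0,0), (1,0),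
    (1,2), (1,0), (0,0), (1,5), (0,0), (0,0), (0,0), (0,0), (0,0), (1,1),
    (1,2), (1,2), (0,0), (1,4), (0,0), (0,0), (0,0), (1,2), (0,0), (0,0),
    (1,2), (0,0), (1,7), (0,0), (0,0), (1,0), (0,0), (0,0), (1,1), (1,4),
    (0,0), (0,0), (1,2), (0,0), (1,1), (0,0), (1,5), (0,0), (0,0), (0,0),
    (0,0), (1,1), (1,0), (0,0), (1,4), (1,0), (1,3), (1,0), (1,0), (1,4),
    (1,0), (1,0), (0,0), (1,0), (1,8), (0,0), (0,0), (0,0), (0,0), (0,0),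
    (1,3), (0,0), (0,0), (0,0), (1,5), (1,0), (0,0), (0,0), (1,2), (0,0),
    (1,0), (0,0), (1,1), (0,0), (1,4), (0,0), (1,0), (1,7), (0,0), (0,0),
    (0,0), (0,0), (0,0), (1,2), (1,0), (1,3), (1,0), (1,3), (0,0), (1,0),
    (0,0), (1,0), (0,0), (1,3), (1,5), (0,0), (0,0), (0,0), (1,0), (0,0),
    (1,3), (1,2), (1,0), (0,0), (1,1), (1,9), (0,0), (0,0), (0,0), (0,0),
    (0,0), (0,0), (0,0), (1,0), (0,0), (1,4), (0,0), (0,0), (0,0), (1,3),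
    (0,0), (0,0), (1,2), (1,4), (0,0), (1,0), (1,4), (0,0), (0,0), (0,0),
    (0,0), (1,0), (1,3), (0,0), (1,0), (1,2), (0,0), (1,4), (0,0), (0,0),
    (1,2), (1,3), (0,0), (1,0), (0,0), (0,0), (1,1), (1,2), (0,0), (1,7),
    (0,0), (1,0), (0,0), (1,1), (1,3), (0,0), (0,0), (1,0), (1,0), (1,3),
    (1,0), (0,0), (1,4), (0,0), (1,0), (0,0), (1,3), (0,0), (0,0), (1,2),
    (0,0), (1,7), (0,0), (0,0), (0,0), (0,0), (0,0), (1,3), (0,0), (0,0),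
    (0,0), (1,2), (1,4), (0,0), (0,0), (0,0), (0,0), (0,0), (1,4), (0,0),
    (0,0), (1,4), (1,0), (1,4), (0,0), (0,0), (0,0), (0,0), (1,1), (1,2),
    (1,2), (1,0), (0,0), (0,0), (1,0), (1,6), (0,0), (1,0), (0,0), (0,0),
    (1,1), (1,2), (0,0), (1,4), (0,0), (0,0), (1,2), (0,0), (1,7), (0,0),
    (0,0), (0,0), (0,0), (0,0), (0,0), (0,0), (1,3), (1,0), (1,0), (1,4),
    (0,0), (0,0), (0,0), (1,1), (1,2), (0,0), (0,0), (1,2), (1,5), (0,0),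
    (0,0), (1,0), (1,0), (1,4), (0,0), (0,0), (1,0), (0,0), (1,3), (0,0),
    (0,0), (1,4), (0,0), (0,0), (1,0), (1,2), (1,6), (0,0), (0,0), (0,0),
    (0,0), (1,0), (1,0), (1,3), (1,2), (0,0), (1,3), (0,0), (0,0), (0,0),
    (1,2), (0,0), (1,1), (1,3), (0,0), (0,0), (1,2), (1,4), (1,0), (0,0),
    (0,0), (0,0), (1,1), (1,2), (1,0), (0,0), (1,4), (0,0), (0,0), (0,0),
    (1,1), (1,2), (1,2), (1,6), (0,0), (0,0), (0,0), (0,0), (0,0), (1,1)]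

def d6Tree2 : List (ℕ × ℕ) := [
    (1,2), (1,2), (0,0), (0,0), (1,1), (1,0), (1,3), (0,0), (1,1), (0,0),
    (1,5), (0,0), (1,0), (0,0), (1,0), (1,4), (0,0), (0,0), (1,0), (1,3),
    (0,0), (1,1), (1,0), (1,6), (0,0), (0,0), (0,0), (0,0), (0,0), (0,0),
    (1,2), (1,3), (1,0), (1,3), (0,0), (0,0), (1,10), (0,0), (0,0), (0,0),
    (0,0), (0,0), (0,0), (0,0), (1,0), (0,0), (0,0), (1,2), (1,0), (1,4),
    (1,0), (0,0), (0,0), (0,0), (1,6), (0,0), (0,0), (0,0), (1,0), (1,0),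
    (1,4), (0,0), (0,0), (0,0), (1,1), (1,3), (0,0), (1,4), (0,0), (0,0),
    (1,0), (1,2), (0,0), (1,1), (1,0), (1,4), (0,0), (1,5), (0,0), (0,0),
    (0,0), (0,0), (0,0), (1,2), (0,0), (1,3), (1,2), (0,0), (1,0), (0,0),
    (0,0), (0,0), (1,5), (0,0), (1,0), (1,5), (0,0), (0,0), (0,0), (0,0),
    (1,2), (1,0), (0,0), (1,1), (1,5), (0,0), (0,0), (0,0), (0,0), (1,3),
    (1,6), (0,0), (1,0), (0,0), (0,0), (0,0), (0,0), (1,3), (0,0), (0,0),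
    (1,0), (1,3), (0,0), (1,0), (1,5), (0,0), (0,0), (0,0), (1,3), (1,4),
    (0,0), (0,0), (1,0), (1,0), (1,0), (1,5), (0,0), (0,0), (0,0), (0,0),
    (1,1), (1,8), (0,0), (0,0), (0,0), (0,0), (0,0), (1,0), (0,0), (0,0),
    (1,4), (0,0), (1,0), (1,2), (1,0), (1,4), (0,0), (1,1), (0,0), (1,4),
    (0,0), (0,0), (1,0), (0,0), (1,1), (1,4), (0,0), (1,0), (1,0), (1,6),
    (0,0), (0,0), (1,0), (0,0), (1,3), (0,0), (1,0), (1,0), (1,3), (0,0),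
    (1,0), (1,2), (0,0), (1,7), (0,0), (0,0), (0,0), (0,0), (0,0), (1,0),
    (1,2), (1,0), (1,3), (1,0), (1,3), (1,0), (0,0), (0,0), (1,1), (1,2),
    (0,0), (0,0), (1,1), (1,6), (0,0), (1,0), (1,0), (1,0), (1,4), (0,0),
    (0,0), (1,2), (1,4), (0,0), (1,0), (0,0), (0,0), (0,0), (0,0), (1,3),
    (1,2), (1,3), (0,0), (0,0), (0,0), (0,0), (0,0), (1,4), (0,0), (0,0),
    (1,2), (1,0), (1,0), (1,5), (0,0), (0,0), (1,0), (0,0), (1,10), (0,0),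
    (0,0), (0,0), (0,0), (0,0), (0,0), (0,0), (1,2), (0,0), (1,1), (1,0),
    (1,4), (0,0), (1,1), (0,0), (0,0), (1,1), (0,0), (1,1), (1,3), (1,0),
    (1,5), (0,0), (0,0), (1,0), (1,2), (0,0), (0,0), (1,1), (1,0), (1,3),
    (1,0), (1,4), (0,0), (0,0), (1,2), (1,4), (1,0), (0,0), (0,0), (0,0),
    (1,1), (0,0), (1,3), (0,0), (0,0), (1,2), (1,6), (0,0), (0,0), (0,0),
    (1,1), (0,0), (0,0), (1,2), (1,0), (1,0), (0,0), (1,6), (0,0), (0,0),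
    (0,0), (1,0), (0,0), (1,3), (1,3), (0,0), (0,0), (0,0), (1,0), (1,4),
    (1,4), (0,0), (0,0), (0,0), (0,0), (1,2), (0,0), (0,0), (1,2), (0,0),
    (1,1), (1,0), (1,5), (1,0), (0,0), (0,0), (0,0), (1,3), (1,7), (0,0),
    (0,0), (0,0), (0,0), (0,0), (1,1), (0,0), (1,0), (1,4), (1,0), (1,0),
    (1,4), (0,0), (1,1), (1,0), (1,0), (1,0), (1,6), (1,0), (0,0), (0,0),
    (1,1), (1,0), (1,3), (0,0), (1,1), (0,0), (1,0), (1,2), (1,6), (0,0),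
    (0,0), (0,0), (0,0), (1,0), (1,0), (1,5), (0,0), (0,0), (1,1), (1,0),
    (1,0), (1,4), (0,0), (1,0), (1,5), (0,0), (0,0), (1,1), (0,0), (1,1),
    (1,0), (1,0), (1,10), (0,0), (0,0), (0,0), (0,0), (0,0), (1,0), (1,2),
    (0,0), (0,0), (0,0), (1,1), (0,0), (1,0), (1,4), (1,0), (0,0), (1,0),
    (1,5), (0,0), (0,0), (0,0), (1,1), (1,0), (1,4), (0,0), (0,0), (1,2),
    (0,0), (1,0), (1,7), (0,0), (1,0), (0,0), (1,0), (1,0), (1,3), (1,0),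
    (1,4), (0,0), (0,0), (0,0), (1,0), (1,2), (1,0), (1,3), (0,0), (1,0),
    (1,4), (0,0), (1,0), (0,0), (0,0), (1,0), (1,9), (0,0), (0,0), (0,0),
    (0,0), (0,0), (0,0), (0,0), (1,3), (0,0), (1,0), (1,4), (0,0), (0,0),
    (1,1), (1,2), (1,0), (1,4), (0,0), (0,0), (1,0), (1,0), (1,6), (0,0),
    (1,0), (1,2), (0,0), (1,0), (1,0), (1,0), (1,7), (0,0), (0,0), (1,0),
    (0,0), (1,0), (1,0), (1,3), (1,3), (0,0), (0,0), (1,0), (1,2), (0,0),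
    (0,0), (1,1), (1,4), (1,0), (0,0), (0,0), (1,6), (0,0), (0,0), (1,0),
    (1,0), (1,3), (0,0), (0,0), (1,2), (1,7), (0,0), (0,0), (0,0), (0,0)]

def d6Tree3 : List (ℕ × ℕ) := [
    (0,0), (0,0), (1,1), (1,2), (1,0), (0,0), (1,0), (1,2), (0,0), (1,5),
    (0,0), (1,0), (1,0), (1,5), (1,0), (0,0), (1,0), (0,0), (0,0), (1,4),
    (0,0), (0,0), (1,1), (1,2), (0,0), (1,6), (0,0), (0,0), (0,0), (0,0),
    (1,1), (0,0), (1,3), (0,0), (0,0), (1,1), (1,4), (0,0), (1,1), (1,0),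
    (1,0), (1,0), (1,6), (0,0), (0,0), (0,0), (1,0), (1,2), (0,0), (1,1),
    (1,3), (1,0), (1,3), (0,0), (0,0), (1,0), (0,0), (1,3), (1,0), (1,0),
    (1,4), (0,0), (1,1), (0,0), (1,7), (0,0), (0,0), (0,0), (1,0), (1,0),
    (1,4), (1,0), (0,0), (0,0), (1,0), (1,3), (1,4), (1,0), (0,0), (0,0),
    (1,0), (1,2), (1,0)]

def d6Tree : List (ℕ × ℕ) :=
  d6Tree0 ++ d6Tree1 ++ d6Tree2 ++ d6Tree3

def d8Start : ℕ := 28637

def d8Gens : List ℕ := [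
  736299140871918076886619376914542884,
  887217528124179077998383291162468416]

def d8Tree0 : List (ℕ × ℕ) := [
    (0,0), (0,0), (0,0), (0,0), (0,0), (0,0), (0,0), (1,0), (0,0), (1,0),
    (1,4), (0,0), (1,1), (1,0), (0,0), (1,5), (0,0), (0,0), (1,1), (1,0),
    (1,3), (0,0), (0,0), (1,1), (1,2), (1,4), (0,0), (0,0), (0,0), (0,0),
    (0,0), (1,1), (1,2), (1,4), (0,0), (0,0), (1,0), (0,0), (1,3), (0,0),
    (1,3), (0,0), (0,0), (1,2), (1,0), (0,0), (1,7), (0,0), (0,0), (0,0),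
    (0,0), (0,0), (1,1), (0,0), (1,3), (0,0), (1,1), (0,0), (0,0), (1,5),
    (1,0), (0,0), (1,0), (1,5), (0,0), (1,0), (0,0), (1,0), (0,0), (1,3),
    (1,0), (1,0), (1,5), (1,0), (1,0), (1,5), (0,0), (0,0), (0,0), (1,1),
    (1,2), (0,0), (0,0), (0,0), (0,0), (1,2), (1,2), (1,2), (1,0), (1,4),
    (0,0), (0,0), (0,0), (1,0), (1,3), (1,0), (0,0), (1,1), (1,4), (1,0),
    (0,0), (0,0), (1,8), (0,0), (0,0), (0,0), (1,0), (1,0), (0,0), (0,0),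
    (0,0), (1,3), (1,4), (1,0), (0,0), (0,0), (1,0), (1,3), (0,0), (0,0),
    (1,0), (1,3), (1,5), (0,0), (0,0), (0,0), (1,0), (0,0), (1,3), (0,0),
    (1,1), (1,0), (1,4), (0,0), (1,0), (1,2), (0,0), (1,4), (0,0), (0,0),
    (0,0), (1,1), (1,0), (1,3), (1,0), (1,3), (0,0), (0,0), (1,0), (1,2),
    (0,0), (0,0), (1,2), (0,0), (1,4), (0,0), (1,6), (0,0), (0,0), (0,0),
    (0,0), (0,0), (1,0), (1,3), (0,0), (1,1), (1,3), (1,2), (0,0), (0,0),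
    (0,0), (1,1), (1,3), (1,0), (1,4), (0,0), (0,0), (0,0), (1,0), (0,0),
    (1,3), (1,0), (1,0), (1,4), (0,0), (0,0), (0,0), (1,2), (1,2), (0,0),
    (1,1), (1,4), (0,0), (0,0), (1,0), (1,2), (1,0), (1,3), (0,0), (0,0),
    (1,1), (1,8), (0,0), (0,0), (0,0), (0,0), (0,0), (0,0), (0,0), (1,2),
    (0,0), (1,1), (1,0), (1,4), (1,0), (1,0), (1,4), (0,0), (1,0), (1,0),
    (1,3), (0,0), (1,1), (0,0), (1,1), (1,0), (1,6), (0,0), (0,0), (0,0),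
    (0,0), (0,0), (1,3), (1,0), (1,3), (0,0), (1,1), (0,0), (1,1), (1,4),
    (0,0), (0,0), (0,0), (1,1), (1,2), (0,0), (1,3), (0,0), (1,0), (1,6),
    (0,0), (0,0), (0,0), (0,0), (0,0), (1,0), (1,3), (0,0), (1,5), (0,0),
    (0,0), (0,0), (1,0), (1,0), (1,3), (1,2), (1,0), (1,6), (0,0), (0,0),
    (0,0), (0,0), (0,0), (1,0), (1,0), (0,0), (1,5), (0,0), (1,1), (0,0),
    (1,1), (1,0), (1,5), (1,0), (0,0), (0,0), (1,0), (1,2), (0,0), (1,6),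
    (0,0), (0,0), (1,0), (1,2), (0,0), (1,1), (0,0), (0,0), (1,5), (0,0),
    (1,1), (1,4), (0,0), (0,0), (0,0), (1,0), (1,2), (0,0), (1,0), (1,0),
    (1,3), (1,0), (1,4), (0,0), (0,0), (0,0), (1,1), (1,0), (1,3), (1,0),
    (1,3), (1,0), (1,4), (0,0), (1,0), (0,0), (1,1), (1,3), (0,0), (1,0),
    (1,0), (1,9), (0,0), (0,0), (0,0), (0,0), (0,0), (0,0), (1,0), (0,0),
    (1,1), (1,3), (1,2), (1,2), (0,0), (1,1), (0,0), (1,0), (0,0), (0,0),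
    (1,4), (1,0), (1,0), (1,6), (0,0), (1,0), (1,0), (0,0), (0,0), (1,5),
    (0,0), (0,0), (0,0), (1,0), (1,2), (0,0), (1,1), (1,3), (0,0), (1,3),
    (1,4), (0,0), (0,0), (0,0), (0,0), (0,0), (1,0), (1,3), (1,2), (0,0),
    (0,0), (0,0), (1,3), (1,0), (1,0), (1,5), (0,0), (0,0), (0,0), (1,1),
    (1,2), (0,0), (0,0), (1,2), (0,0), (1,4), (0,0), (1,0), (1,2), (0,0),
    (0,0), (1,2), (1,0), (1,6), (0,0), (0,0), (0,0), (0,0), (1,0), (1,2),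
    (1,2), (1,2), (1,2), (0,0), (0,0), (1,0), (1,7), (0,0), (0,0), (0,0),
    (0,0), (0,0), (1,1), (1,2), (0,0), (1,0), (0,0), (1,1), (1,5), (0,0),
    (0,0), (0,0), (0,0), (0,0), (1,2), (0,0), (1,4), (1,0), (0,0), (1,6),
    (0,0), (0,0), (0,0), (1,0), (0,0), (1,3), (1,0), (1,6), (0,0), (0,0),
    (0,0), (0,0), (0,0), (0,0), (1,2), (1,2), (0,0), (1,3), (0,0), (0,0),
    (0,0), (0,0), (1,2), (1,2), (0,0), (1,0), (1,6), (0,0), (0,0), (1,0),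
    (1,2), (1,0), (0,0), (1,6), (0,0), (0,0), (0,0), (0,0), (1,2), (0,0),
    (1,0), (1,2), (1,0), (1,4), (1,0), (0,0), (0,0), (1,1), (1,0), (1,6),
    (0,0), (0,0), (1,0), (0,0)]

def d8Tree : List (ℕ × ℕ) :=
  d8Tree0

def xd4Start : ℕ := 1727659

def xd4Gens : List ℕ := [
  601889587267620659937787299056657504,
  861047447788250969202763859326278016]

def xd4Tree0 : List (ℕ × ℕ) := [
    (0,0), (0,0), (0,0), (0,0), (0,0), (0,0), (0,0), (1,2), (0,0), (1,0),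
    (1,2), (1,3), (0,0), (0,0), (0,0), (1,1), (1,0), (1,3), (0,0), (1,3),
    (0,0), (0,0), (1,1), (1,2), (1,4), (0,0), (0,0), (1,0), (0,0), (1,3),
    (0,0), (0,0), (1,4), (1,3), (0,0), (0,0), (0,0), (0,0), (0,0), (1,3),
    (0,0), (0,0), (1,1), (1,2), (1,3), (1,0), (1,3), (0,0), (0,0), (0,0),
    (0,0), (1,2), (1,0), (1,3), (1,0), (0,0), (1,1), (1,4), (0,0), (1,0),
    (1,2), (0,0), (1,6), (0,0), (0,0), (0,0), (0,0), (0,0), (1,0), (1,3),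
    (0,0), (1,0), (1,2), (1,3), (1,0), (0,0), (0,0), (1,1), (1,2), (1,4),
    (1,0), (0,0), (0,0), (1,1), (1,0), (1,3), (1,0), (1,7), (0,0), (0,0),
    (0,0), (1,0), (1,2), (0,0), (0,0), (0,0), (0,0), (1,2), (1,0), (1,3),
    (0,0), (0,0), (0,0), (1,5), (0,0), (0,0), (0,0), (1,1), (1,2), (1,5),
    (0,0), (0,0), (1,0), (1,0), (1,3), (1,0), (0,0), (0,0), (0,0), (1,3),
    (1,0), (1,5), (0,0), (0,0), (1,0), (1,2), (0,0), (1,3), (1,0), (0,0),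
    (1,1), (1,6), (0,0), (0,0), (1,1), (1,0), (0,0), (1,1), (1,0), (1,5),
    (0,0), (0,0), (0,0), (1,0), (1,2), (1,2), (0,0), (0,0), (1,1), (1,0),
    (1,3), (0,0), (1,0), (1,5), (0,0), (1,0), (0,0), (1,1), (0,0), (1,1),
    (1,4), (0,0), (1,0), (0,0)]

def xd4Tree : List (ℕ × ℕ) :=
  xd4Tree0

def xd6Start : ℕ := 195645

def xd6Gens : List ℕ := [
  601889587267620659937787299056657504,
  861047447788250969202763859326278016]

def xd6Tree0 : List (ℕ × ℕ) := [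
    (0,0), (0,0), (0,0), (0,0), (0,0), (0,0), (0,0), (0,0), (0,0), (1,1),
    (0,0), (1,0), (1,2), (1,0), (1,4), (0,0), (0,0), (0,0), (1,0), (1,3),
    (1,4), (0,0), (0,0), (0,0), (0,0), (1,3), (0,0), (1,3), (1,0), (1,0),
    (0,0), (1,6), (0,0), (1,0), (0,0), (0,0), (1,2), (1,3), (1,0), (1,0),
    (1,0), (1,6), (0,0), (0,0), (0,0), (1,0), (0,0), (0,0), (1,2), (1,5),
    (0,0), (0,0), (0,0), (0,0), (1,0), (1,4), (1,0), (1,3), (0,0), (0,0),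
    (0,0), (1,0), (1,2), (1,2), (0,0), (1,0), (1,2), (1,3), (1,5), (0,0),
    (0,0), (0,0), (0,0), (0,0), (1,1), (0,0), (1,1), (1,0), (1,4), (0,0),
    (1,1), (1,3), (0,0), (0,0), (0,0), (0,0), (1,1), (1,3), (0,0), (0,0),
    (1,4), (0,0), (0,0), (1,1), (1,5), (0,0), (1,1), (0,0), (0,0), (1,0),
    (1,2), (0,0), (1,1), (1,6), (0,0), (0,0), (0,0), (1,0), (1,0), (1,4),
    (1,0), (0,0), (0,0), (1,5), (0,0), (0,0), (0,0), (1,1), (0,0), (1,3),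
    (0,0), (0,0), (1,2), (0,0), (1,1), (1,0), (0,0), (1,6), (0,0), (0,0),
    (0,0), (1,2), (0,0), (0,0), (1,4), (0,0), (0,0), (1,0), (1,9), (0,0),
    (0,0), (0,0), (0,0), (0,0), (0,0), (0,0), (1,0), (1,3), (1,0), (1,0),
    (1,4), (0,0), (0,0), (1,2), (0,0), (1,1), (1,0), (1,5), (0,0), (0,0),
    (0,0), (0,0), (1,1), (1,4), (0,0), (1,0), (1,5), (0,0), (0,0), (0,0),
    (0,0), (1,0), (1,3), (0,0), (1,3), (1,0), (1,0), (1,4), (1,3), (0,0),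
    (0,0), (0,0), (0,0), (1,1), (1,2), (0,0), (1,0), (1,5), (0,0), (0,0),
    (1,2), (0,0), (1,0), (0,0), (1,3), (1,5), (0,0), (0,0), (0,0), (0,0),
    (0,0), (1,0), (1,0), (1,3), (1,2), (1,0), (1,3), (0,0), (1,0), (0,0),
    (1,3), (1,3), (1,0), (0,0), (0,0), (0,0), (1,0), (1,2), (1,2), (1,0),
    (1,3), (0,0), (0,0), (0,0), (1,1), (1,3), (1,0), (0,0), (1,7), (1,0),
    (0,0), (0,0), (0,0), (0,0), (1,2), (1,0), (1,3), (0,0), (0,0), (1,1),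
    (1,2), (1,0), (0,0), (1,5), (0,0), (0,0), (1,1), (1,2), (1,7), (0,0),
    (0,0), (0,0), (0,0), (0,0), (1,1), (1,0), (1,0), (1,4), (0,0), (0,0),
    (1,1), (1,0), (0,0), (1,6), (0,0), (0,0), (0,0), (1,1), (0,0), (1,0),
    (1,0), (1,5), (0,0), (0,0), (0,0), (1,3), (0,0), (0,0), (0,0), (1,1),
    (1,2), (1,2), (1,0), (0,0), (0,0), (1,7), (1,0), (0,0), (0,0), (0,0),
    (0,0), (1,2), (1,0), (1,8), (0,0), (0,0), (0,0), (0,0), (1,0), (0,0),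
    (1,0), (1,4), (1,0), (1,3), (0,0), (0,0), (1,1), (1,0), (0,0), (1,4),
    (0,0), (0,0), (1,2), (0,0), (0,0), (1,7), (0,0), (0,0), (0,0), (0,0),
    (1,2), (0,0), (0,0), (1,1), (1,4), (1,0), (0,0), (0,0), (1,0), (1,2),
    (0,0), (1,1), (1,6), (0,0), (1,0), (1,6), (0,0), (0,0), (0,0), (0,0),
    (0,0), (1,1), (0,0), (1,1), (0,0), (1,4), (0,0), (0,0), (0,0), (1,2),
    (1,2), (1,3), (0,0), (0,0), (0,0), (0,0), (1,1), (1,2), (1,0), (1,3),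
    (0,0), (1,1), (0,0), (1,4), (1,0), (0,0), (0,0), (1,2), (1,5), (0,0),
    (0,0), (1,0), (0,0), (1,3), (1,0), (0,0), (1,0), (0,0), (1,6), (1,0),
    (0,0), (0,0), (0,0), (1,1), (1,0), (1,3), (1,0), (1,7), (0,0), (0,0),
    (0,0), (0,0), (0,0), (0,0), (1,1), (1,2), (1,2), (0,0), (0,0), (1,1),
    (1,4), (0,0), (0,0), (0,0), (1,1), (1,2), (1,2), (1,3), (1,0), (0,0),
    (1,1), (0,0), (1,0), (1,2), (1,0), (1,6), (0,0), (0,0), (0,0), (0,0),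
    (0,0), (1,0), (1,2), (1,3), (0,0), (1,1), (1,3), (0,0), (0,0), (0,0),
    (1,2), (1,2), (0,0), (1,0), (1,2), (0,0), (1,10), (0,0), (0,0), (0,0),
    (0,0), (1,0), (1,0), (0,0), (0,0), (1,0), (1,2), (1,0), (1,0), (1,4),
    (1,0), (1,6), (0,0), (0,0), (0,0), (0,0), (0,0), (0,0), (1,0), (1,2),
    (1,2), (1,0), (1,3), (0,0), (1,1), (1,3), (1,0), (1,3), (0,0), (0,0),
    (1,2), (0,0), (0,0), (1,0), (0,0), (1,3), (1,2), (1,0), (0,0), (1,6),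
    (0,0), (0,0), (0,0), (0,0), (0,0), (1,1), (1,0), (1,3), (0,0), (1,3),
    (0,0), (0,0), (1,1), (1,2), (1,3), (0,0), (0,0), (0,0), (1,1), (0,0)]

def xd6Tree1 : List (ℕ × ℕ) := [
    (1,3), (1,0), (0,0), (1,1), (1,4), (0,0), (1,1), (1,4), (0,0), (0,0),
    (0,0), (1,1), (0,0), (1,4), (0,0), (0,0), (0,0), (1,2), (1,2), (1,0),
    (1,7), (0,0), (0,0), (0,0), (0,0), (0,0), (1,1), (1,0), (1,0), (1,0),
    (1,5), (0,0), (1,0), (1,2), (1,3), (0,0), (0,0), (0,0), (0,0), (1,0),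
    (1,3), (0,0), (1,3), (0,0), (0,0), (1,2), (1,3), (0,0), (0,0), (1,1),
    (0,0), (1,1), (1,3), (1,0), (1,5), (1,0), (0,0), (0,0), (0,0), (0,0),
    (1,2), (1,0), (1,3), (0,0), (1,1), (1,3), (0,0), (1,0), (1,2), (1,5),
    (0,0), (0,0), (0,0), (0,0), (1,2), (0,0), (0,0), (1,0), (1,2), (1,2),
    (1,3), (0,0), (0,0), (0,0), (1,1), (1,2), (1,4), (0,0), (0,0), (0,0),
    (1,1), (0,0), (0,0), (1,1), (1,2), (1,3), (0,0), (0,0), (1,1), (1,4),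
    (0,0), (1,0), (1,2), (1,0), (0,0), (1,0), (1,9), (0,0), (0,0), (0,0),
    (0,0), (0,0), (1,0), (0,0), (0,0), (1,2), (1,3), (0,0), (0,0), (1,0),
    (1,3), (1,0), (1,4), (0,0), (0,0), (0,0), (0,0), (1,2), (0,0), (1,1),
    (1,0), (1,4), (1,0), (0,0), (1,4), (1,0), (1,4), (0,0), (0,0), (0,0),
    (0,0), (0,0), (1,2), (1,0), (1,3), (1,2), (0,0), (0,0), (1,2), (1,0),
    (0,0), (1,1), (1,5), (0,0), (0,0), (1,0), (1,2), (1,5), (0,0), (0,0),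
    (0,0), (0,0), (1,1), (0,0), (1,1), (1,0), (1,4), (0,0), (1,0), (0,0),
    (1,1), (1,5), (1,0), (0,0), (0,0), (1,0), (1,2), (1,5), (0,0), (1,0),
    (0,0), (0,0), (1,1), (1,2), (0,0), (0,0), (1,2), (0,0), (1,5), (0,0),
    (0,0), (0,0), (1,2), (1,0), (1,0), (1,4), (0,0), (0,0), (1,1), (0,0),
    (1,3), (1,0), (0,0), (1,8), (0,0), (0,0), (0,0), (0,0), (0,0), (0,0),
    (1,0), (1,2), (1,0), (1,3), (0,0), (1,1), (1,0), (1,0), (1,5), (0,0),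
    (1,1), (0,0), (0,0), (1,2), (1,4), (0,0), (0,0), (0,0), (0,0), (1,0),
    (1,3), (1,0), (1,3), (0,0), (0,0), (1,2), (0,0), (1,4), (0,0), (0,0),
    (0,0), (1,2), (1,5), (0,0), (0,0), (1,0), (0,0), (1,0), (1,2), (1,3),
    (1,0), (1,0), (1,4), (0,0), (0,0), (1,0), (1,0), (1,0), (1,8), (0,0),
    (1,0), (1,0), (0,0), (1,0), (1,0), (1,3), (1,0), (1,5), (0,0), (0,0),
    (0,0), (0,0), (1,0), (1,0), (1,3), (1,2), (0,0), (0,0), (1,1), (1,2),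
    (1,0), (1,4), (0,0), (0,0), (0,0), (1,1), (0,0), (1,3), (1,4), (0,0),
    (1,0)]

def xd6Tree : List (ℕ × ℕ) :=
  xd6Tree0 ++ xd6Tree1

def xd8Start : ℕ := 28637

def xd8Gens : List ℕ := [
  601889587267620659937787299056657504,
  861047447788250969202763859326278016]

def xd8Tree0 : List (ℕ × ℕ) := [
    (0,0), (0,0), (0,0), (0,0), (0,0), (1,0), (0,0), (0,0), (1,4), (0,0),
    (0,0), (1,0), (0,0), (1,0), (1,2), (0,0), (1,5), (0,0), (0,0), (1,5),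
    (0,0), (0,0), (0,0), (1,0), (1,0), (1,3), (0,0), (0,0), (1,1), (1,0),
    (1,5), (0,0), (0,0), (0,0), (1,1), (1,3), (1,0), (0,0), (1,5), (0,0),
    (0,0), (1,0), (0,0), (1,1), (1,4), (0,0), (1,5), (0,0), (0,0), (0,0),
    (1,0), (0,0), (1,1), (0,0), (1,1), (0,0), (1,5), (0,0), (0,0), (0,0),
    (0,0), (1,4), (0,0), (1,0), (0,0), (1,3), (0,0), (1,5), (0,0), (1,1),
    (0,0), (1,4), (0,0), (1,0), (0,0), (1,0), (1,2), (0,0), (1,1), (0,0),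
    (0,0), (1,6), (0,0), (0,0), (0,0), (1,1), (1,2), (0,0), (1,1), (1,0),
    (1,4), (0,0), (0,0), (1,1), (1,2), (1,0), (0,0), (1,8), (0,0), (0,0),
    (0,0), (0,0), (0,0), (0,0), (1,3), (0,0), (0,0), (1,1), (0,0), (1,1),
    (1,3), (0,0), (1,0), (1,5), (0,0), (0,0), (0,0), (0,0), (1,1), (1,3),
    (1,0), (1,3), (1,0), (0,0), (1,1), (1,0), (1,6), (0,0), (0,0), (0,0),
    (1,0), (0,0), (0,0), (1,4), (0,0), (1,0), (1,0), (1,6), (0,0), (0,0),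
    (0,0), (1,1), (1,0), (1,7), (0,0), (0,0), (0,0), (0,0), (1,2), (0,0),
    (0,0), (1,2), (1,0), (1,0), (1,5), (0,0), (0,0), (1,0), (1,2), (1,0),
    (1,3), (0,0), (0,0), (1,5), (0,0), (0,0), (0,0), (0,0), (0,0), (1,2),
    (0,0), (1,4), (0,0), (0,0), (1,0), (1,3), (1,0), (0,0), (1,5), (0,0),
    (0,0), (1,1), (0,0), (1,3), (0,0), (1,1), (0,0), (1,0), (1,9), (0,0),
    (0,0), (0,0), (0,0), (0,0), (0,0), (0,0), (1,0), (0,0), (1,3), (1,2),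
    (1,2), (1,0), (0,0), (1,1), (0,0), (1,5), (0,0), (0,0), (0,0), (1,0),
    (1,3), (1,2), (0,0), (1,1), (0,0), (1,1), (1,0), (1,6), (0,0), (0,0),
    (0,0), (1,0), (1,2), (1,0), (0,0), (1,4), (0,0), (0,0), (0,0), (1,3),
    (1,0), (1,4), (0,0), (1,0), (1,2), (0,0), (1,1), (0,0), (1,6), (0,0),
    (0,0), (0,0), (0,0), (1,2), (0,0), (0,0), (1,1), (1,4), (1,0), (0,0),
    (0,0), (0,0), (1,1), (0,0), (1,4), (0,0), (1,5), (0,0), (0,0), (1,1),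
    (0,0), (1,1), (1,0), (1,4), (0,0), (0,0), (1,0), (1,2), (0,0), (1,1),
    (1,0), (1,4), (0,0), (0,0), (1,0), (1,8), (0,0), (0,0), (0,0), (0,0),
    (0,0), (1,3), (1,0), (0,0), (0,0), (1,0), (1,3), (0,0), (1,5), (0,0),
    (0,0), (0,0), (1,2), (1,0), (1,3), (0,0), (0,0), (1,0), (1,3), (0,0),
    (0,0), (1,1), (1,6), (0,0), (0,0), (1,0), (1,0), (0,0), (1,0), (1,5),
    (0,0), (0,0), (1,2), (0,0), (1,1), (1,4), (0,0), (0,0), (1,0), (1,2),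
    (1,2), (0,0), (0,0), (1,0), (1,0), (1,4), (0,0), (1,0), (1,0)]

def xd8Tree : List (ℕ × ℕ) :=
  xd8Tree0

def pqo2Start : ℕ := 352547

def pqo2Gens : List ℕ := [
  275541268794967234287792911866203168,
  767995040854267702234020676067534880]

def pqo2Tree0 : List (ℕ × ℕ) := [
    (0,0), (0,0), (0,0), (0,0), (1,1), (1,2), (1,0), (0,0), (1,4), (1,2),
    (0,0), (1,0), (1,0), (1,3), (1,0)]

def pqo2Tree : List (ℕ × ℕ) :=
  pqo2Tree0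

def pqo4Start : ℕ := 18147

def pqo4Gens : List ℕ := [
  275541268794967234287792911866203168,
  767995040854267702234020676067534880,
  977062828420209905012593489556418592]

def pqo4Tree0 : List (ℕ × ℕ) := [
    (0,0), (0,0), (1,0), (0,0), (1,1), (2,0), (1,4), (1,0), (0,0), (0,0),
    (1,2), (2,3), (0,0), (2,0), (1,2), (0,0), (1,0), (2,2), (2,2), (1,0),
    (1,4), (0,0), (1,0), (2,1), (1,2), (1,0), (0,0), (0,0), (2,2), (2,2),
    (2,0), (2,3), (0,0), (0,0), (2,1), (2,2), (2,3), (0,0), (1,0), (1,0),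
    (2,1), (2,0), (2,3), (0,0), (1,1), (2,1), (0,0), (1,4), (2,1), (0,0),
    (0,0), (1,1), (1,2), (1,0), (2,0), (2,2), (2,2), (0,0), (1,1)]

def pqo4Tree : List (ℕ × ℕ) :=
  pqo4Tree0

def pnqAllStart : ℕ := 5279

def pnqAllGens : List ℕ := [
  528929289403571928370388520322663552,
  763613047737071108581286897898673344]

def pnqAllTree0 : List (ℕ × ℕ) := [
    (0,0), (0,0), (0,0), (0,0), (0,0), (0,0), (1,1), (0,0), (0,0), (1,2),
    (1,0), (1,4), (0,0), (1,0), (0,0), (1,1), (0,0), (1,1), (1,6), (0,0),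
    (0,0), (1,1), (0,0), (1,1), (1,3), (0,0), (1,0), (0,0), (1,1), (1,3),
    (1,0), (1,5), (0,0), (1,0), (0,0), (0,0), (0,0), (1,3), (0,0), (1,0),
    (1,2), (0,0), (1,5), (0,0), (0,0), (1,1), (0,0), (0,0), (1,4), (0,0),
    (1,0), (1,2), (0,0), (1,0), (1,2), (1,0), (1,7), (0,0), (0,0), (0,0),
    (0,0), (1,0), (0,0), (1,1), (0,0), (1,5), (0,0), (0,0), (1,4), (0,0),
    (0,0), (0,0), (0,0), (1,1), (1,2), (1,2), (1,0), (1,0), (1,0), (1,5),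
    (1,0), (0,0), (0,0), (1,2), (1,0), (1,6), (0,0), (0,0), (1,0), (0,0),
    (1,4), (0,0), (0,0), (1,0), (1,2), (0,0), (0,0), (1,8), (0,0), (0,0),
    (0,0), (0,0), (1,0), (0,0), (0,0), (1,1), (1,2), (1,0), (1,4), (0,0),
    (1,1), (1,0), (1,4), (0,0), (0,0), (0,0), (0,0), (1,2), (0,0), (1,3),
    (0,0), (0,0), (1,1), (1,2), (1,3), (1,0), (0,0), (1,1), (0,0), (1,6),
    (0,0), (1,0), (0,0), (1,1), (0,0), (1,0), (1,2), (0,0), (1,1), (1,7),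
    (0,0), (0,0), (0,0), (0,0), (1,1), (1,0), (1,3), (0,0), (0,0), (1,1),
    (1,4), (0,0), (0,0), (0,0), (0,0), (1,3), (1,0), (1,3), (0,0), (1,1),
    (0,0), (0,0), (1,6), (0,0), (0,0), (0,0), (1,1), (1,0), (1,3), (0,0),
    (1,0), (0,0), (1,0), (1,4), (1,0)]

def pnqAllTree : List (ℕ × ℕ) :=
  pnqAllTree0

def pnqo2Start : ℕ := 175681

def pnqo2Gens : List ℕ := [
  926277940657483545858947623668746272,
  716808704966668450195905247465244896,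
  484883355704590069434762105563787296]

def pnqo2Tree0 : List (ℕ × ℕ) := [
    (0,0), (0,0), (1,0), (0,0), (0,0), (2,0), (1,2), (2,2), (0,0), (1,1),
    (2,0), (1,5), (0,0), (0,0), (1,0), (2,1), (1,2), (1,0), (0,0), (2,2),
    (1,5), (0,0), (0,0), (1,0), (1,0), (2,1), (2,2), (0,0), (2,1), (0,0),
    (1,1), (1,4), (0,0), (0,0), (1,1), (1,2), (0,0), (1,0), (1,2), (2,2),
    (2,0), (2,3), (2,0), (1,0), (2,4), (0,0), (0,0), (1,1), (1,0), (1,3),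
    (1,0), (1,0), (2,0), (2,6), (1,0), (0,0), (0,0), (2,0), (1,2), (1,0),
    (2,2), (2,0), (2,3), (0,0), (1,0), (1,2), (1,0), (1,0), (2,2)]

def pnqo2Tree : List (ℕ × ℕ) :=
  pnqo2Tree0

def pnqo4Start : ℕ := 39257

def pnqo4Gens : List ℕ := [
  926277940657483545858947623668746272,
  716808704966668450195905247465244896,
  484883355704590069434762105563787296]

def pnqo4Tree0 : List (ℕ × ℕ) := [
    (0,0), (0,0), (1,0), (2,0), (2,2), (1,0), (0,0), (0,0), (2,1), (2,2),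
    (0,0), (2,3), (1,3), (0,0), (0,0), (2,0), (1,2), (0,0), (1,1), (2,2),
    (0,0), (1,1), (1,3), (1,0), (2,1), (2,2), (0,0), (1,0), (2,0), (1,3),
    (0,0), (2,1), (2,4), (0,0), (1,0), (2,0), (0,0), (1,4), (0,0), (1,0),
    (2,2), (1,0), (1,5), (0,0), (0,0), (1,0), (1,0), (2,1), (2,2), (1,0),
    (1,0), (1,4), (1,0), (0,0), (1,1), (2,1), (2,2), (2,0), (1,4), (0,0),
    (1,1), (0,0), (1,0), (2,1), (2,2), (0,0), (1,0), (2,5), (0,0), (1,0),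
    (1,2), (1,0), (2,0), (2,2), (0,0), (0,0), (1,2), (2,3), (2,3), (0,0),
    (0,0), (1,1), (0,0), (0,0), (1,1), (2,1), (1,4), (0,0), (0,0), (1,0),
    (1,2), (1,0), (0,0), (2,2), (2,2), (2,0), (2,3), (0,0), (2,3), (0,0),
    (1,0), (1,2), (0,0), (2,1)]

def pnqo4Tree : List (ℕ × ℕ) :=
  pnqo4Tree0

def xio2Start : ℕ := 52005

def xio2Gens : List ℕ := [
  902514247803935385762550626100780160,
  469558604696573019375119663069792352]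

def xio2Tree0 : List (ℕ × ℕ) := [
    (0,0), (0,0), (0,0), (0,0), (0,0), (0,0), (1,1), (1,0), (0,0), (1,4),
    (1,0), (1,3), (0,0), (1,1), (0,0), (1,4), (0,0), (0,0), (0,0), (1,0),
    (1,0), (1,3), (0,0), (0,0), (1,1), (1,0), (1,8), (0,0), (0,0), (1,0),
    (0,0), (1,0), (1,0), (1,5), (0,0), (0,0), (1,1), (0,0), (1,3), (0,0),
    (1,1), (0,0), (0,0), (1,6), (0,0), (0,0), (0,0), (0,0), (1,1), (1,0),
    (1,3), (0,0), (1,1), (1,3), (0,0), (0,0), (1,4), (0,0), (0,0), (1,1),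
    (1,0), (0,0), (1,4), (0,0), (0,0), (1,1), (1,7), (0,0), (0,0), (0,0),
    (0,0), (0,0), (1,1), (1,2), (0,0), (0,0), (1,2), (1,3), (0,0), (0,0),
    (1,0), (1,2), (0,0), (1,1), (1,3), (1,4), (0,0), (0,0), (1,0), (0,0),
    (0,0), (1,4), (0,0), (0,0), (1,0), (1,2), (1,2), (1,0), (0,0), (0,0),
    (1,6), (0,0), (0,0), (1,1), (0,0), (1,0), (0,0), (1,3), (0,0), (1,1),
    (1,4)]

def xio2Tree : List (ℕ × ℕ) :=
  xio2Tree0

def xio4Start : ℕ := 15777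

def xio4Gens : List ℕ := [
  902514247803935385762550626100780160,
  469558604696573019375119663069792352]

def xio4Tree0 : List (ℕ × ℕ) := [
    (0,0), (0,0), (0,0), (0,0), (0,0), (0,0), (1,0), (1,2), (1,3), (0,0),
    (0,0), (0,0), (1,1), (0,0), (1,3), (1,2), (0,0), (1,0), (1,5), (0,0),
    (0,0), (0,0), (1,0), (1,0), (1,0), (1,4), (0,0), (1,3), (1,0), (1,0),
    (0,0), (1,5), (0,0), (0,0), (1,1), (0,0), (1,0), (1,0), (1,5), (0,0),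
    (0,0), (0,0), (1,3), (0,0), (1,0), (1,7), (0,0), (0,0), (0,0), (0,0),
    (0,0), (1,1), (1,2), (0,0), (1,0), (1,2), (1,3), (0,0), (0,0), (0,0),
    (1,3), (0,0), (0,0), (0,0), (1,6), (0,0), (1,0), (0,0), (1,5), (0,0),
    (0,0), (1,0), (1,2), (0,0), (1,1), (1,0), (1,4), (0,0), (0,0), (1,1),
    (0,0), (1,3), (1,5), (0,0), (0,0), (0,0), (0,0), (0,0), (1,1), (1,0),
    (1,0), (1,4), (0,0), (1,0), (1,4), (0,0), (1,1), (0,0), (1,1), (1,4),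
    (0,0), (0,0), (0,0), (1,1), (1,2), (1,0), (0,0), (1,4), (0,0), (0,0),
    (0,0), (0,0), (1,1), (1,4), (0,0), (0,0), (1,6), (0,0), (0,0), (0,0),
    (1,0), (1,2), (0,0), (0,0), (1,2), (1,3), (1,0), (0,0), (1,0), (1,2),
    (0,0), (1,5), (0,0), (0,0), (0,0), (0,0), (1,3), (0,0), (1,3)]

def xio4Tree : List (ℕ × ℕ) :=
  xio4Tree0

def xno0Start : ℕ := 1009728

def xno0Gens : List ℕ := [
  606755315169062005597623356896675980,
  649625836016458356845446811449665612]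

def xno0Tree0 : List (ℕ × ℕ) := [
    (0,0), (0,0), (0,0), (1,1), (1,0), (0,0), (1,1), (1,4), (0,0), (0,0),
    (1,1), (1,2), (1,3), (0,0)]

def xno0Tree : List (ℕ × ℕ) :=
  xno0Tree0

def xno2Start : ℕ := 31554

def xno2Gens : List ℕ := [
  606755315169062005597623356896675980,
  649625836016458356845446811449665612,
  735467359392764868703325851525120234]

def xno2Tree0 : List (ℕ × ℕ) := [
    (0,0), (0,0), (0,0), (0,0), (1,0), (1,2), (0,0), (0,0), (1,1), (2,1),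
    (1,2), (1,0), (2,1), (1,0), (2,3), (2,2), (1,0), (1,0), (2,2), (1,3),
    (0,0), (0,0), (0,0), (2,1), (1,2), (1,0), (2,2), (1,0), (2,1), (1,3),
    (0,0), (2,1), (0,0), (1,1), (2,1), (2,3), (2,2), (0,0), (1,0), (2,0),
    (2,2), (1,2), (2,0), (2,2), (1,0), (0,0), (1,1), (2,1), (0,0), (1,6),
    (0,0), (0,0), (0,0), (2,0), (1,2), (2,1), (1,2), (1,0), (0,0), (2,2),
    (2,2), (2,0), (2,0), (1,4), (0,0), (0,0), (1,0), (2,1), (1,2), (1,2),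
    (0,0), (2,0), (2,3), (0,0), (1,1), (2,0), (2,2), (2,3), (0,0), (1,1),
    (1,0), (2,4), (0,0), (0,0), (0,0), (1,2), (0,0), (1,1), (2,1), (1,0),
    (2,3), (0,0), (1,0), (2,1), (1,2), (2,0), (1,4), (0,0), (0,0), (1,2),
    (2,1), (1,0), (2,1), (0,0), (2,4), (0,0), (1,0), (2,0), (1,3), (0,0),
    (1,1), (1,0), (2,3), (0,0), (1,1), (1,0), (2,1), (1,6), (0,0), (0,0),
    (0,0), (0,0), (2,0), (1,2), (0,0), (2,1), (1,0), (2,3), (0,0), (1,1),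
    (1,3), (0,0), (2,1), (1,0), (2,1), (2,3), (0,0), (2,0), (1,2), (0,0),
    (2,1), (2,2), (0,0), (1,4), (0,0), (0,0), (1,2), (0,0), (1,0), (1,2),
    (2,2), (1,0), (2,1), (2,3), (0,0), (0,0), (1,1), (2,1), (1,2), (0,0),
    (1,1), (1,0), (2,3), (1,0), (1,4), (0,0), (0,0), (0,0), (2,0), (2,2),
    (1,2), (0,0), (1,1), (2,1), (2,2), (1,2), (0,0), (2,0), (1,0), (1,3),
    (0,0), (0,0), (2,2), (2,2), (2,0), (2,0), (2,4), (0,0), (2,1), (1,0),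
    (2,4), (0,0), (0,0), (0,0), (2,1), (2,0), (1,3), (2,1), (0,0), (1,1),
    (2,1), (0,0), (1,4), (0,0), (1,1), (2,0), (2,2), (2,0), (1,0), (2,4),
    (0,0), (0,0), (2,2), (2,0), (2,5), (0,0), (0,0), (0,0), (1,1), (1,2),
    (0,0), (0,0), (0,0), (2,2), (1,2), (0,0), (2,2), (1,0), (2,0), (2,4),
    (1,0), (1,3), (0,0), (1,0), (0,0), (1,1), (0,0), (1,4), (2,0), (2,0),
    (2,0), (2,4), (1,0), (0,0), (1,1), (0,0), (2,3), (0,0), (2,4), (0,0),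
    (0,0), (1,1), (1,0), (2,2), (0,0), (1,0), (1,2), (2,1), (2,0), (1,4),
    (0,0), (1,1), (1,0), (2,1), (2,0), (2,3), (1,0), (2,1), (0,0), (2,4),
    (0,0), (1,0), (2,1), (0,0), (2,3), (0,0), (1,1), (2,1), (2,0)]

def xno2Tree : List (ℕ × ℕ) :=
  xno2Tree0

def xno4Start : ℕ := 36294

def xno4Gens : List ℕ := [
  606755315169062005597623356896675980,
  649625836016458356845446811449665612,
  735467359392764868703325851525120234]

def xno4Tree0 : List (ℕ × ℕ) := [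
    (0,0), (0,0), (0,0), (0,0), (1,0), (2,1), (0,0), (1,3), (0,0), (1,1),
    (1,0), (0,0), (2,4), (0,0), (2,0), (2,2), (0,0), (1,1), (1,4), (0,0),
    (1,0), (2,1), (2,0), (1,3), (0,0), (1,0), (2,1), (2,3), (2,0), (1,0),
    (2,1), (2,4), (1,0), (2,1), (0,0), (1,0), (1,2), (0,0), (1,1), (0,0),
    (2,2), (2,5), (0,0), (0,0), (2,0), (1,2), (0,0), (2,0), (1,2), (2,0),
    (2,3), (2,0), (1,0), (1,4), (0,0), (2,0), (1,2), (2,2), (0,0), (1,0),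
    (0,0), (2,2), (0,0), (1,3), (0,0), (2,2), (0,0), (1,1), (2,0), (2,2),
    (1,0), (1,6), (0,0), (0,0), (0,0), (0,0), (1,2), (0,0), (2,1), (0,0),
    (1,1), (2,3), (1,0), (0,0), (1,4), (0,0), (0,0), (1,1), (2,0), (1,3),
    (1,0), (2,2), (2,0), (1,0), (2,1), (2,4), (1,0), (2,0), (2,2), (0,0),
    (2,1), (1,4), (0,0), (1,0), (1,2), (1,0), (2,1), (0,0), (1,1), (1,0),
    (2,4), (0,0), (1,0), (1,2), (0,0), (1,1), (2,1), (2,2), (2,0), (2,4),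
    (0,0), (0,0), (0,0), (2,1), (1,2), (1,2), (0,0), (0,0), (1,0), (2,2),
    (1,2), (0,0), (0,0), (1,2), (1,0), (2,2), (2,2), (0,0), (1,1), (2,3),
    (0,0), (0,0), (0,0), (1,3), (1,0), (2,2), (0,0), (2,5), (0,0), (0,0),
    (0,0), (0,0), (1,1), (2,0), (2,2), (1,2), (0,0), (2,1), (1,3), (0,0),
    (0,0), (2,2), (2,2), (0,0), (1,0), (2,1), (1,2), (0,0), (1,1), (1,4),
    (0,0), (0,0), (1,0), (1,2), (2,0), (2,2), (0,0), (1,0), (1,2), (1,3),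
    (2,0), (2,0), (2,3), (0,0), (1,0), (1,2), (0,0), (1,1), (2,2), (0,0),
    (1,1), (1,0), (2,2), (2,4), (0,0), (1,0), (2,1), (0,0), (1,1), (1,3),
    (0,0), (0,0), (1,2), (0,0), (2,3), (0,0), (0,0), (1,2), (2,1)]

def xno4Tree : List (ℕ × ℕ) :=
  xno4Tree0

end Cfsg.Agent.Lib.Golay
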