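import Cfsg.Agent.Lib.Golay.Orbit
import Cfsg.Agent.Lib.Golay.Mathieu
import Cfsg.Agent.Lib.Golay.PairData
import Cfsg.Agent.Lib.Golay.OutData

/-! # Pairs of octads and of dodecads -/

set_option autoImplicit false

namespace Cfsg.Agent.Lib.Golay

open Cfsg
open scoped Pointwise

/-- The standard octad. -/
def o0 : ℕ := 5279

theorem o0_octad : toSet o0 ∈ octads :=
  mem_octads.2 ⟨o0, mem_octList.2 (by decide +kernel), rfl⟩

/-- Is a mask an octad meeting `b` in `k` points, with prescribed behaviour on `F`? -/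
def octClass (b k Fin' Fout : ℕ) (m : ℕ) : Bool :=
  isCode m && pc m == 8 && pc (m &&& b) == k && m &&& Fin' == Fin' && m &&& Fout == 0

/-- Is a mask a dodecad meeting `b` in `k` points and containing `Fin'`? -/
def dodClass (b k Fin' : ℕ) (m : ℕ) : Bool :=
  isCode m && pc m == 12 && pc (m &&& b) == k && m &&& Fin' == Fin'

theorem octClass_mem {b k f g m : ℕ} (h : octClass b k f g m = true) : m ∈ octList := by
  simp only [octClass, Bool.and_eq_true, beq_iff_eq] at h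
  exact mem_octList.2 ⟨h.1.1.1.1, h.1.1.1.2⟩

theorem dodClass_mem {b k f m : ℕ} (h : dodClass b k f m = true) : m ∈ dodList := by
  simp only [dodClass, Bool.and_eq_true, beq_iff_eq] at h
  exact mem_dodList.2 ⟨h.1.1.1, h.1.1.2⟩

/-- The certificate of one class of octads. -/
abbrev octCover (S : List ℕ) (F : ℕ) (gs : List ℕ) (T : List (ℕ × ℕ)) (start b k f g : ℕ) : Bool :=
  coverOK S F act gs T start octList (octClass b k f g) codeKey

/-- The certificate of one class of dodecads. -/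
abbrev dodCover (S : List ℕ) (F : ℕ) (gs : List ℕ) (T : List (ℕ × ℕ)) (start b k f : ℕ) : Bool :=
  coverOK S F act gs T start dodList (dodClass b k f) codeKey

theorem octClass_of {b k f g m : ℕ} (hm : m ∈ octList) (hk : (toSet m ∩ toSet b).card = k)
    (hf : m &&& f = f) (hg : m &&& g = 0) : octClass b k f g m = true := by
  simp only [octClass, Bool.and_eq_true, beq_iff_eq]
  exact ⟨⟨⟨mem_octList.1 hm, by rw [← card_toSet, toSet_and]; exact hk⟩, hf⟩, hg⟩

theorem dodClass_of {b k f m : ℕ} (hm : m ∈ dodList) (hk : (toSet m ∩ toSet b).card = k)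
    (hf : m &&& f = f) : dodClass b k f m = true := by
  simp only [dodClass, Bool.and_eq_true, beq_iff_eq]
  exact ⟨⟨mem_dodList.1 hm, by rw [← card_toSet, toSet_and]; exact hk⟩, hf⟩

theorem same_orbit {S : List ℕ} {F start a a' : ℕ}
    (h : ∃ σ ∈ stabM S F, σ • toSet start = toSet a)
    (h' : ∃ σ ∈ stabM S F, σ • toSet start = toSet a') :
    ∃ σ ∈ stabM S F, σ • toSet a = toSet a' := by
  obtain ⟨σ, hσ, he⟩ := h
  obtain ⟨τ, hτ, he'⟩ := h'
  exact ⟨τ * σ⁻¹, mul_mem hτ (inv_mem hσ), by rw [← he, mul_smul, inv_smul_smul, he']⟩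

theorem oct_same {S : List ℕ} {F : ℕ} {gs : List ℕ} {T : List (ℕ × ℕ)} {start b k f g : ℕ}
    (h : octCover S F gs T start b k f g = true) {a a' : ℕ} (ha : octClass b k f g a = true)
    (ha' : octClass b k f g a' = true) : ∃ σ ∈ stabM S F, σ • toSet a = toSet a' :=
  same_orbit (cover_mask (fun _ => octClass_mem) h ha) (cover_mask (fun _ => octClass_mem) h ha')

theorem dod_same {S : List ℕ} {F : ℕ} {gs : List ℕ} {T : List (ℕ × ℕ)} {start b k f : ℕ}
    (h : dodCover S F gs T start b k f = true) {a a' : ℕ} (ha : dodClass b k f a = true)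
    (ha' : dodClass b k f a' = true) : ∃ σ ∈ stabM S F, σ • toSet a = toSet a' :=
  same_orbit (cover_mask (fun _ => dodClass_mem) h ha) (cover_mask (fun _ => dodClass_mem) h ha')

theorem and_bit_iff {m i : ℕ} (hi : i < 24) : m &&& (1 <<< i) = 1 <<< i ↔ pt i ∈ toSet m := by
  rw [mem_toSet, ix_pt hi]
  constructor
  · intro h
    have := congrArg (fun n => n.testBit i) h
    simp [Nat.one_shiftLeft, Nat.testBit_and] at this
    exact this
  · intro h
    apply Nat.eq_of_testBit_eq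
    intro j
    rw [Nat.testBit_and, Nat.one_shiftLeft, Nat.testBit_two_pow]
    by_cases hj : i = j
    · subst hj; simp [h]
    · simp [hj]

theorem and_bit_zero {m i : ℕ} (hi : i < 24) : m &&& (1 <<< i) = 0 ↔ pt i ∉ toSet m := by
  rw [mem_toSet, ix_pt hi]
  constructor
  · intro h h'
    have := congrArg (fun n => n.testBit i) h
    simp [Nat.one_shiftLeft, Nat.testBit_and, h'] at this
  · intro h
    apply Nat.eq_of_testBit_eq
    intro j
    rw [Nat.testBit_and, Nat.one_shiftLeft, Nat.testBit_two_pow]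
    by_cases hj : i = j
    · subst hj; simp [h]
    · simp [hj]

theorem stabM_smul {S : List ℕ} {F : ℕ} {σ : Equiv.Perm GolayPt} (h : σ ∈ stabM S F) {m : ℕ}
    (hm : m ∈ S) : σ • toSet m = toSet m :=
  (mem_stabM.1 h).2.1 m hm

theorem stabM_fix {S : List ℕ} {F : ℕ} {σ : Equiv.Perm GolayPt} (h : σ ∈ stabM S F) {i : ℕ}
    (hi : i < 24) (hF : (F >>> i) &&& 1 = 1) : σ (pt i) = pt i :=
  (mem_stabM.1 h).2.2 _ (mem_toSet.2 (by rw [ix_pt hi]; exact (shift_and_one _ _).1 hF))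

theorem octad_inter_cases {o o' : Finset GolayPt} (ho : o ∈ octads) (ho' : o' ∈ octads) :
    (o' ∩ o).card = 0 ∨ (o' ∩ o).card = 2 ∨ (o' ∩ o).card = 4 ∨ (o' ∩ o).card = 8 ∧ o' = o := by
  by_cases h : o' = o
  · exact Or.inr (Or.inr (Or.inr ⟨by rw [h, Finset.inter_self, octads_card ho], h⟩))
  have hle := octad_inter_le ho' ho h
  have hk : (symmDiff o' o).card + 2 * (o' ∩ o).card = 16 := by
    rw [show symmDiff o' o = (o' \ o) ∪ (o \ o') from rfl,
      Finset.card_union_of_disjoint disjoint_sdiff_sdiff, Finset.card_sdiff, Finset.card_sdiff,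
      octads_card ho, octads_card ho', Finset.inter_comm o o']
    omega
  have := card_cases (codeSets_symmDiff ho'.1 ho.1)
  omega

theorem dodecad_inter_cases {d d' : Finset GolayPt} (hd : d ∈ dodecads) (hd' : d' ∈ dodecads) :
    ((d' ∩ d).card = 12 ∧ d' = d) ∨ ((d' ∩ d).card = 0 ∧ d' = dᶜ) ∨ (d' ∩ d).card = 4 ∨
      (d' ∩ d).card = 6 ∨ (d' ∩ d).card = 8 := by
  by_cases h : d' = d
  · exact Or.inl ⟨by rw [h, Finset.inter_self, dodecads_card hd], h⟩
  by_cases h' : d' = dᶜ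
  · exact Or.inr (Or.inl ⟨by rw [h', Finset.card_eq_zero]; ext x; simp, h'⟩)
  have hsd : (symmDiff d' d).card + 2 * (d' ∩ d).card = 24 := by
    rw [show symmDiff d' d = (d' \ d) ∪ (d \ d') from rfl,
      Finset.card_union_of_disjoint disjoint_sdiff_sdiff, Finset.card_sdiff, Finset.card_sdiff,
      dodecads_card hd, dodecads_card hd', Finset.inter_comm d d']
    have : (d' ∩ d).card ≤ 12 :=
      (Finset.card_le_card Finset.inter_subset_left).trans (dodecads_card hd').le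
    omega
  have h0 : (d' ∩ d).card ≠ 0 := by
    intro hc
    apply h'
    refine Finset.eq_of_subset_of_card_le ?_ ?_
    · intro p hp
      rw [Finset.mem_compl]
      intro hpd
      exact Finset.notMem_empty p (Finset.card_eq_zero.1 hc ▸ Finset.mem_inter.2 ⟨hp, hpd⟩)
    · rw [Finset.card_compl, dodecads_card hd, dodecads_card hd']; rfl
  have h12 : (d' ∩ d).card ≠ 12 := by
    intro hc
    apply h
    have e1 := Finset.eq_of_subset_of_card_le (Finset.inter_subset_left : d' ∩ d ⊆ d')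
      (by rw [dodecads_card hd', hc])
    have e2 := Finset.eq_of_subset_of_card_le (Finset.inter_subset_right : d' ∩ d ⊆ d)
      (by rw [dodecads_card hd, hc])
    rw [← e1, e2]
  have := card_cases (codeSets_symmDiff hd'.1 hd.1)
  omega

/-! ### Orbits at the standard configurations -/

theorem o_cover :
    octCover [o0] 0 o0Gens o0Tree o0Start o0 0 0 0 = true ∧
      octCover [o0] 0 o2Gens o2Tree o2Start o0 2 0 0 = true ∧
      octCover [o0] 0 o4Gens o4Tree o4Start o0 4 0 0 = true := by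
  refine ⟨?_, ?_, ?_⟩ <;> decide +kernel

theorem o_trans {y z : Finset GolayPt} (hy : y ∈ octads) (hz : z ∈ octads)
    (h : (y ∩ toSet o0).card = (z ∩ toSet o0).card) :
    ∃ σ ∈ M24, σ • toSet o0 = toSet o0 ∧ σ • y = z := by
  have key : ∃ σ ∈ stabM [o0] 0, σ • y = z := by
    have hc := octad_inter_cases o0_octad hy
    have hc' := octad_inter_cases o0_octad hz
    obtain ⟨a, ha, rfl⟩ := mem_octads.1 hy
    obtain ⟨b, hb, rfl⟩ := mem_octads.1 hz
    obtain ⟨h0, h2, h4⟩ := o_cover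
    rcases hc with e | e | e | ⟨e, e'⟩
    · exact oct_same h0 (octClass_of ha e (by simp) (by simp))
        (octClass_of hb (h ▸ e) (by simp) (by simp))
    · exact oct_same h2 (octClass_of ha e (by simp) (by simp))
        (octClass_of hb (h ▸ e) (by simp) (by simp))
    · exact oct_same h4 (octClass_of ha e (by simp) (by simp))
        (octClass_of hb (h ▸ e) (by simp) (by simp))
    · rcases hc' with f | f | f | ⟨f, f'⟩
      · omega
      · omega
      · omega
      · exact ⟨1, one_mem _, by rw [one_smul, e', f']⟩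
  obtain ⟨σ, hσ, he⟩ := key
  exact ⟨σ, (mem_stabM.1 hσ).1, stabM_smul hσ (by simp), he⟩

theorem smul_inter_card (σ : Equiv.Perm GolayPt) (s t : Finset GolayPt) :
    (σ • s ∩ σ • t).card = (s ∩ t).card := by
  rw [← Finset.smul_finset_inter, Finset.card_smul_finset]

/-- Two octads meeting a third equally are conjugate under its stabiliser. -/
theorem octad_pairs {o y z : Finset GolayPt} (ho : o ∈ octads) (hy : y ∈ octads)
    (hz : z ∈ octads) (h : (o ∩ y).card = (o ∩ z).card) :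
    ∃ σ ∈ M24, σ • o = o ∧ σ • y = z := by
  refine trans_transfer (a₀ := toSet o0) (M24_trans_octads o0_octad ho)
    (Rel := fun o y z => o ∈ octads ∧ y ∈ octads ∧ z ∈ octads ∧ (o ∩ y).card = (o ∩ z).card)
    ?_ ?_ ⟨ho, hy, hz, h⟩
  · rintro σ hσ a b c ⟨h1, h2, h3, h4⟩
    exact ⟨smul_mem_octads hσ h1, smul_mem_octads hσ h2, smul_mem_octads hσ h3,
      by rw [smul_inter_card, smul_inter_card, h4]⟩
  · rintro b c ⟨-, h2, h3, h4⟩
    exact o_trans h2 h3 (by rw [Finset.inter_comm b, Finset.inter_comm c, h4])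

theorem d_cover :
    dodCover [d0] 0 d4Gens d4Tree d4Start d0 4 0 = true ∧
      dodCover [d0] 0 d6Gens d6Tree d6Start d0 6 0 = true ∧
      dodCover [d0] 0 d8Gens d8Tree d8Start d0 8 0 = true := by
  refine ⟨?_, ?_, ?_⟩ <;> decide +kernel

theorem xd_cover :
    dodCover [d0] 1 xd4Gens xd4Tree xd4Start d0 4 1 = true ∧
      dodCover [d0] 1 xd6Gens xd6Tree xd6Start d0 6 1 = true ∧
      dodCover [d0] 1 xd8Gens xd8Tree xd8Start d0 8 1 = true := by
  refine ⟨?_, ?_, ?_⟩ <;> decide +kernel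

theorem d_trans_gen {F f : ℕ} {g4 g6 g8 : List ℕ} {t4 t6 t8 : List (ℕ × ℕ)} {s4 s6 s8 : ℕ}
    (hcov : dodCover [d0] F g4 t4 s4 d0 4 f = true ∧ dodCover [d0] F g6 t6 s6 d0 6 f = true ∧
      dodCover [d0] F g8 t8 s8 d0 8 f = true)
    {a b : ℕ} (ha : a ∈ dodList) (hb : b ∈ dodList) (hfa : a &&& f = f) (hfb : b &&& f = f)
    (h : (toSet a ∩ toSet d0).card = (toSet b ∩ toSet d0).card) :
    ∃ σ ∈ stabM [d0] F, σ • toSet a = toSet b := by
  obtain ⟨h4, h6, h8⟩ := hcov
  have hc := dodecad_inter_cases d0_dodecad (mem_dodecads.2 ⟨a, ha, rfl⟩)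
  have hc' := dodecad_inter_cases d0_dodecad (mem_dodecads.2 ⟨b, hb, rfl⟩)
  rcases hc with ⟨e, e'⟩ | ⟨e, e'⟩ | e | e | e
  · rcases hc' with ⟨g, g'⟩ | ⟨g, g'⟩ | g | g | g
    · exact ⟨1, one_mem _, by rw [one_smul, e', g']⟩
    all_goals omega
  · rcases hc' with ⟨g, g'⟩ | ⟨g, g'⟩ | g | g | g
    pick_goal 2
    · exact ⟨1, one_mem _, by rw [one_smul, e', g']⟩
    all_goals omega
  · exact dod_same h4 (dodClass_of ha e hfa) (dodClass_of hb (h ▸ e) hfb)
  · exact dod_same h6 (dodClass_of ha e hfa) (dodClass_of hb (h ▸ e) hfb)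
  · exact dod_same h8 (dodClass_of ha e hfa) (dodClass_of hb (h ▸ e) hfb)

/-- Two dodecads meeting a third equally are conjugate under its stabiliser. -/
theorem dodecad_pairs {d y z : Finset GolayPt} (hd : d ∈ dodecads) (hy : y ∈ dodecads)
    (hz : z ∈ dodecads) (h : (d ∩ y).card = (d ∩ z).card) :
    ∃ σ ∈ M24, σ • d = d ∧ σ • y = z := by
  refine trans_transfer (a₀ := toSet d0) (M24_trans_dodecads d0_dodecad hd)
    (Rel := fun o y z => y ∈ dodecads ∧ z ∈ dodecads ∧ (o ∩ y).card = (o ∩ z).card)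
    ?_ ?_ ⟨hy, hz, h⟩
  · rintro σ hσ a b c ⟨h2, h3, h4⟩
    exact ⟨smul_mem_dodecads hσ h2, smul_mem_dodecads hσ h3,
      by rw [smul_inter_card, smul_inter_card, h4]⟩
  · rintro _ _ ⟨h2, h3, h4⟩
    obtain ⟨a, ha, rfl⟩ := mem_dodecads.1 h2
    obtain ⟨b, hb, rfl⟩ := mem_dodecads.1 h3
    obtain ⟨σ, hσ, he⟩ := d_trans_gen d_cover ha hb (by simp) (by simp)
      (by rw [Finset.inter_comm (toSet a), Finset.inter_comm (toSet b), h4])
    exact ⟨σ, (mem_stabM.1 hσ).1, stabM_smul hσ (by simp), he⟩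

theorem pt_dodecad_pairs {x : GolayPt} {d y z : Finset GolayPt} (hd : d ∈ dodecads) (hx : x ∈ d)
    (hy : y ∈ dodecads) (hz : z ∈ dodecads) (hxy : x ∈ y) (hxz : x ∈ z)
    (h : (d ∩ y).card = (d ∩ z).card) :
    ∃ σ ∈ M24, σ • (x, d) = (x, d) ∧ σ • y = z := by
  refine trans_transfer (a₀ := ((some 0 : GolayPt), toSet d0)) ?_
    (Rel := fun o y z => y ∈ dodecads ∧ z ∈ dodecads ∧ o.1 ∈ y ∧ o.1 ∈ z ∧
      (o.2 ∩ y).card = (o.2 ∩ z).card) ?_ ?_ ⟨hy, hz, hxy, hxz, h⟩
  · obtain ⟨σ, hσ, h1, h2⟩ := exists_d0_pt hd hx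
    exact ⟨σ, hσ, Prod.ext h2 h1⟩
  · rintro σ hσ ⟨a, a'⟩ b c ⟨h2, h3, h4, h5, h6⟩
    exact ⟨smul_mem_dodecads hσ h2, smul_mem_dodecads hσ h3,
      Finset.smul_mem_smul_finset h4, Finset.smul_mem_smul_finset h5,
      by simp only [Prod.smul_mk]; rw [smul_inter_card, smul_inter_card, h6]⟩
  · rintro _ _ ⟨h2, h3, h4, h5, h6⟩
    obtain ⟨a, ha, rfl⟩ := mem_dodecads.1 h2
    obtain ⟨b, hb, rfl⟩ := mem_dodecads.1 h3
    have e0 : (some 0 : GolayPt) = pt 0 := rfl
    obtain ⟨σ, hσ, he⟩ := d_trans_gen xd_cover ha hb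
      ((and_bit_iff (i := 0) (by norm_num)).2 h4) ((and_bit_iff (i := 0) (by norm_num)).2 h5)
      (by rw [Finset.inter_comm (toSet a), Finset.inter_comm (toSet b)]; exact h6)
    exact ⟨σ, (mem_stabM.1 hσ).1,
      Prod.ext (stabM_fix (i := 0) hσ (by norm_num) (by decide)) (stabM_smul hσ (by simp)), he⟩

/-! ### Transport of incident points and octads -/

theorem outTree_ok :
    coverOK [o0] 0 act oOutGens oOutTree oOutStart (combs 24 1)
      (fun m => pc m == 1 && Nat.blt m 16777216 && m &&& o0 == 0) (fun m => m % 8009) = true := by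
  decide +kernel

theorem stab_o0_out {p q : GolayPt} (hp : p ∉ toSet o0) (hq : q ∉ toSet o0) :
    ∃ σ ∈ M24, σ • toSet o0 = toSet o0 ∧ σ p = q := by
  have key : ∀ p, p ∉ toSet o0 →
      ∃ σ ∈ stabM [o0] 0, σ • toSet oOutStart = toSet (1 <<< ix p) := by
    intro p hp
    refine cover_mask (U := combs 24 1) (fun a ha => ?_) outTree_ok ?_
    · simp only [Bool.and_eq_true, beq_iff_eq, Nat.blt_eq] at ha
      exact mem_combs24 ha.1.2 ha.1.1
    · simp only [Bool.and_eq_true, beq_iff_eq, Nat.blt_eq]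
      have h1 : ∀ p : GolayPt, pc (1 <<< ix p) = 1 ∧ 1 <<< ix p < 16777216 := by decide
      refine ⟨h1 p, ?_⟩
      rw [Nat.and_comm, and_bit_zero (ix_lt p), pt_ix]
      exact hp
  obtain ⟨σ, hσ, hs⟩ := key p hp
  obtain ⟨τ, hτ, ht⟩ := key q hq
  have hs1 : ∀ r : GolayPt, toSet (1 <<< ix r) = {r} := by decide
  refine ⟨τ * σ⁻¹, mul_mem (mem_stabM.1 hτ).1 (inv_mem (mem_stabM.1 hσ).1),
    stabM_smul (mul_mem hτ (inv_mem hσ)) (by simp), ?_⟩
  have : (τ * σ⁻¹) • ({p} : Finset GolayPt) = {q} := by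
    rw [← hs1 p, ← hs1 q, ← hs, ← ht, mul_smul, inv_smul_smul]
  simpa [Finset.smul_finset_singleton] using this

theorem trans_flag_out {o o' : Finset GolayPt} (ho : o ∈ octads) (ho' : o' ∈ octads)
    {p q : GolayPt} (hp : p ∉ o) (hq : q ∉ o') : ∃ σ ∈ M24, σ • o = o' ∧ σ p = q := by
  obtain ⟨σ, hσ, rfl⟩ := M24_trans_octads o0_octad ho
  obtain ⟨τ, hτ, rfl⟩ := M24_trans_octads o0_octad ho'
  obtain ⟨ρ, hρ, h1, h2⟩ := stab_o0_out (p := σ⁻¹ p) (q := τ⁻¹ q)
    (fun h => hp (by simpa using Finset.smul_mem_smul_finset (a := σ) h))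
    (fun h => hq (by simpa using Finset.smul_mem_smul_finset (a := τ) h))
  refine ⟨τ * ρ * σ⁻¹, mul_mem (mul_mem hτ hρ) (inv_mem hσ), ?_, ?_⟩
  · rw [mul_smul, mul_smul, inv_smul_smul, h1]
  · rw [Equiv.Perm.mul_apply, Equiv.Perm.mul_apply, h2]; simp

theorem trans_flag_in {o o' : Finset GolayPt} (ho : o ∈ octads) (ho' : o' ∈ octads) {k : ℕ}
    (hk : k ≤ 5) (x y : Fin k → GolayPt) (hx : Function.Injective x) (hy : Function.Injective y)
    (hxo : ∀ i, x i ∈ o) (hyo : ∀ i, y i ∈ o') :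
    ∃ σ ∈ M24, σ • o = o' ∧ ∀ i, σ (x i) = y i := by
  have ext5 : ∀ (o : Finset GolayPt), o ∈ octads → ∀ x : Fin k → GolayPt, Function.Injective x →
      (∀ i, x i ∈ o) → ∃ z : Fin 5 → GolayPt, Function.Injective z ∧ (∀ i, z i ∈ o) ∧
        ∀ i : Fin k, z (Fin.castLE hk i) = x i := by
    intro o ho x hx hxo
    let xe : Fin k ↪ ↥o := ⟨fun i => ⟨x i, hxo i⟩, fun i j h => hx (Subtype.ext_iff.1 h)⟩
    obtain ⟨z, hz⟩ := Fin.Embedding.restrictSurjective_of_le_natCard (α := ↥o) hk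
      (by rw [Nat.card_eq_fintype_card, Fintype.card_coe, octads_card ho]; norm_num) xe
    exact ⟨fun i => z i, fun i j h => z.injective (Subtype.ext h), fun i => (z i).2,
      fun i => congrArg Subtype.val (DFunLike.congr_fun hz i)⟩
  obtain ⟨x', hx', hxo', hxx⟩ := ext5 o ho x hx hxo
  obtain ⟨y', hy', hyo', hyy⟩ := ext5 o' ho' y hy hyo
  obtain ⟨σ, hσ, he⟩ := exists_M24_map le_rfl x' y' hx' hy'
  refine ⟨σ, hσ, octad_eq_of_five (smul_mem_octads hσ ho) ho' ?_, fun i => ?_⟩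
  · have h5 : (Finset.univ.image y').card = 5 := by
      rw [Finset.card_image_of_injective _ hy']; rfl
    rw [← h5]
    refine Finset.card_le_card ?_
    intro p hp
    obtain ⟨i, -, rfl⟩ := Finset.mem_image.1 hp
    exact Finset.mem_inter.2 ⟨he i ▸ Finset.smul_mem_smul_finset (hxo' i), hyo' i⟩
  · rw [← hxx, he, hyy]

end Cfsg.Agent.Lib.Golay
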