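import Cfsg.Agent.Lib.Golay.Mathieu
import Cfsg.Agent.Lib.Golay.OctadFixData
import Cfsg.Agent.Lib.Golay.Pairs
import Mathlib.GroupTheory.SpecificGroups.Alternating

/-! # The action of the stabiliser of an octad on the octad, and its kernel -/

set_option autoImplicit false
set_option maxRecDepth 100000

namespace Cfsg.Agent.Lib.Golay

open Cfsg
open scoped Pointwise

/-- The pointwise stabiliser of a set in the code's group. -/
abbrev ptFix (o : Finset GolayPt) : Subgroup (Equiv.Perm GolayPt) :=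
  M24 ⊓ fixingSubgroup (Equiv.Perm GolayPt) (o : Set GolayPt)

theorem mem_ptFix {o : Finset GolayPt} {g : Equiv.Perm GolayPt} :
    g ∈ ptFix o ↔ g ∈ M24 ∧ ∀ p ∈ o, g p = p := by
  simp [ptFix, Subgroup.mem_inf, mem_fixingSubgroup_iff]

theorem octFixTs_ok :
    (octFixTs.all fun t => inM24 t && fixesMask o0 t && isComp t t idCode) = true := by
  decide +kernel

theorem octFixTs_keys : keySet (fun t => img t 5) octFixTs = FULL ^^^ o0 := by decide +kernel

theorem o0_rigid : rigid (o0 ||| 1 <<< 5) = true := by decide +kernel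

theorem idCode_perm : toPerm idCode = 1 := by
  have hv : valid idCode = true := by decide +kernel
  have h : (idx.all fun i => img idCode i == i) = true := by decide +kernel
  ext p : 1
  rw [toPerm_apply hv, beq_iff_eq.1 (List.all_eq_true.1 h _ (mem_idx.2 (ix_lt p))), pt_ix]
  rfl

theorem five_out : pt 5 ∉ toSet o0 := by decide +kernel

/-- Facts about the standard octad. -/
theorem octFix_std :
    (∀ q, q ∉ toSet o0 → ∃ n ∈ ptFix (toSet o0), n (pt 5) = q ∧ n * n = 1) ∧
      ∀ n ∈ ptFix (toSet o0), n (pt 5) = pt 5 → n = 1 := by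
  constructor
  · intro q hq
    have hm : q ∈ toSet (FULL ^^^ o0) := by rw [toSet_compl, Finset.mem_compl]; exact hq
    rw [mem_toSet, ← octFixTs_keys, testBit_keySet] at hm
    obtain ⟨t, ht, he⟩ := hm
    have := List.all_eq_true.1 octFixTs_ok t ht
    simp only [Bool.and_eq_true] at this
    obtain ⟨⟨h1, h2⟩, h3⟩ := this
    have hv := valid_of_inM24 h1
    exact ⟨toPerm t, mem_ptFix.2 ⟨toPerm_mem_M24 h1, fun p hp => fixesMask_spec hv h2 hp⟩,
      by rw [toPerm_pt hv (by norm_num), he, pt_ix], by rw [← toPerm_isComp h3, idCode_perm]⟩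
  · intro n hn h5
    obtain ⟨hn1, hn2⟩ := mem_ptFix.1 hn
    refine eq_one_of_rigid hn1 o0_rigid fun p hp => ?_
    rw [toSet_or, Finset.mem_union, mem_toSet_bit (by norm_num : 5 < 24)] at hp
    rcases hp with hp | rfl
    · exact hn2 p hp
    · exact h5

theorem ptFix_conj {σ : Equiv.Perm GolayPt} (hσ : σ ∈ M24) (o : Finset GolayPt)
    {g : Equiv.Perm GolayPt} : g ∈ ptFix (σ • o) ↔ σ⁻¹ * g * σ ∈ ptFix o := by
  simp only [mem_ptFix, Finset.mem_smul_finset]
  constructor
  · rintro ⟨h1, h2⟩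
    refine ⟨mul_mem (mul_mem (inv_mem hσ) h1) hσ, fun p hp => ?_⟩
    have := h2 (σ • p) ⟨p, hp, rfl⟩
    rw [Equiv.Perm.smul_def] at this
    simp [this]
  · rintro ⟨h1, h2⟩
    refine ⟨?_, ?_⟩
    · simpa [mul_assoc] using mul_mem (mul_mem hσ h1) (inv_mem hσ)
    · rintro _ ⟨p, hp, rfl⟩
      have := congrArg σ (h2 p hp)
      simpa using this

/-- The pointwise stabiliser of an octad is regular of exponent two on the other points. -/
theorem octFix_facts {o : Finset GolayPt} (ho : o ∈ octads) :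
    (∀ p q, p ∉ o → q ∉ o → ∃ n ∈ ptFix o, n p = q) ∧
      (∀ n ∈ ptFix o, ∀ p, p ∉ o → n p = p → n = 1) ∧ ∀ n ∈ ptFix o, n * n = 1 := by
  obtain ⟨σ, hσ, rfl⟩ := M24_trans_octads o0_octad ho
  obtain ⟨htr, hfree⟩ := octFix_std
  have hout : ∀ {p}, p ∉ σ • toSet o0 → σ⁻¹ p ∉ toSet o0 := fun {p} hp h =>
    hp (Finset.mem_smul_finset.2 ⟨σ⁻¹ p, h, by simp⟩)
  have htr' : ∀ p q, p ∉ toSet o0 → q ∉ toSet o0 → ∃ n ∈ ptFix (toSet o0), n p = q := by
    intro p q hp hq
    obtain ⟨n, hn, he, -⟩ := htr p hp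
    obtain ⟨m, hm, he', -⟩ := htr q hq
    exact ⟨m * n⁻¹, mul_mem hm (inv_mem hn), by rw [← he, ← he']; simp⟩
  have hfree' : ∀ n ∈ ptFix (toSet o0), ∀ p, p ∉ toSet o0 → n p = p → n = 1 := by
    intro n hn p hp hnp
    obtain ⟨m, hm, he, -⟩ := htr p hp
    have := hfree (m⁻¹ * n * m) (mul_mem (mul_mem (inv_mem hm) hn) hm) (by
      rw [Equiv.Perm.mul_apply, Equiv.Perm.mul_apply, he, hnp, ← he]; simp)
    have h' : n = m * (m⁻¹ * n * m) * m⁻¹ := by group
    rw [h', this]; simp
  have hsq : ∀ n ∈ ptFix (toSet o0), n * n = 1 := by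
    intro n hn
    have hout5 : n (pt 5) ∉ toSet o0 := by
      intro h
      have := (mem_ptFix.1 hn).2 _ h
      exact five_out (n.injective this ▸ h)
    obtain ⟨m, hm, he, hm2⟩ := htr _ hout5
    have := hfree (m⁻¹ * n) (mul_mem (inv_mem hm) hn) (by simp [← he])
    rw [← inv_mul_eq_one.1 this]
    exact hm2
  refine ⟨fun p q hp hq => ?_, fun n hn p hp hnp => ?_, fun n hn => ?_⟩
  · obtain ⟨n, hn, he⟩ := htr' _ _ (hout hp) (hout hq)
    refine ⟨σ * n * σ⁻¹, (ptFix_conj hσ _).2 (by simpa [mul_assoc] using hn), ?_⟩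
    simp only [Equiv.Perm.mul_apply, he]
    simp
  · have := hfree' _ ((ptFix_conj hσ _).1 hn) _ (hout hp) (by simp [hnp])
    have h' : n = σ * (σ⁻¹ * n * σ) * σ⁻¹ := by group
    rw [h', this]; simp
  · have := hsq _ ((ptFix_conj hσ _).1 hn)
    have h' : n * n = σ * ((σ⁻¹ * n * σ) * (σ⁻¹ * n * σ)) * σ⁻¹ := by group
    rw [h', this]; simp

theorem octFix_card {o : Finset GolayPt} (ho : o ∈ octads) : Nat.card (ptFix o) = 16 := by
  obtain ⟨htr, hfree, -⟩ := octFix_facts ho
  obtain ⟨p, hp⟩ : ∃ p, p ∉ o := by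
    by_contra! h
    have := octads_card ho
    rw [Finset.eq_univ_of_forall h] at this
    exact absurd this (by decide)
  have h := card_eq_orbit_mul (ptFix o) p {q | q ∉ o}
    (fun n hn hm => hp (n.injective ((mem_ptFix.1 hn).2 _ hm) ▸ hm))
    (fun q hq => htr p q hp hq)
  have hbot : ptFix o ⊓ MulAction.stabilizer (Equiv.Perm GolayPt) p = ⊥ :=
    (Subgroup.eq_bot_iff_forall _).2 fun n hn => hfree n hn.1 p hp hn.2
  have hc : {q : GolayPt | q ∉ o}.ncard = 16 := by
    rw [show {q : GolayPt | q ∉ o} = ((o : Set GolayPt))ᶜ from rfl, Set.ncard_compl,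
      Set.ncard_coe_finset, octads_card ho, Nat.card_eq_fintype_card]
    rfl
  rw [hbot, Subgroup.card_bot, hc] at h
  simpa using h

theorem smul_mem_iff_of_fix {g : Equiv.Perm GolayPt} {D : Finset GolayPt} (h : g • D = D)
    (x : GolayPt) : g x ∈ D ↔ x ∈ D := by
  conv_lhs => rw [← h]
  exact Finset.smul_mem_smul_finset_iff g

/-- Restriction of the setwise stabiliser to the set. -/
def restrHom (D : Finset GolayPt) : stSet D →* Equiv.Perm D where
  toFun g := (g : Equiv.Perm GolayPt).subtypePerm (smul_mem_iff_of_fix g.2.2)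
  map_one' := rfl
  map_mul' _ _ := rfl

theorem restrHom_apply (D : Finset GolayPt) (g : stSet D) (x : D) :
    ((restrHom D g x : D) : GolayPt) = (g : Equiv.Perm GolayPt) x := rfl

theorem stSet_of_ptFix {D : Finset GolayPt} : ptFix D ≤ stSet D := by
  intro g hg
  obtain ⟨h1, h2⟩ := mem_ptFix.1 hg
  refine ⟨h1, Finset.ext fun x => ?_⟩
  rw [Finset.mem_smul_finset]
  constructor
  · rintro ⟨y, hy, rfl⟩
    rwa [Equiv.Perm.smul_def, h2 y hy]
  · intro hx
    exact ⟨x, hx, h2 x hx⟩

theorem restrHom_ker (D : Finset GolayPt) :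
    (restrHom D).ker = (ptFix D).subgroupOf (stSet D) := by
  ext g
  rw [MonoidHom.mem_ker, Subgroup.mem_subgroupOf, mem_ptFix]
  constructor
  · intro h
    exact ⟨g.2.1, fun p hp => by
      have := DFunLike.congr_fun h (⟨p, hp⟩ : D)
      exact congrArg Subtype.val this⟩
  · intro h
    exact Equiv.ext fun x => Subtype.ext (h.2 x x.2)

theorem restrHom_range_card (D : Finset GolayPt) :
    Nat.card (ptFix D) * Nat.card (restrHom D).range = Nat.card (stSet D) := by
  rw [← Subgroup.card_mul_index (restrHom D).ker, Subgroup.index_ker, restrHom_ker,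
    Nat.card_congr (Subgroup.subgroupOfEquivOfLe stSet_of_ptFix).toEquiv]

/-- An octad stabiliser induces the alternating group on the octad. -/
theorem octad_range {o : Finset GolayPt} (ho : o ∈ octads) :
    (restrHom o).range = alternatingGroup o := by
  apply Equiv.Perm.eq_alternatingGroup_of_index_eq_two
  have h := restrHom_range_card o
  rw [octFix_card ho, stSet_octad_card ho] at h
  have h2 := Subgroup.card_mul_index (restrHom o).range
  rw [Nat.card_perm, Nat.card_eq_fintype_card (α := ↥o), Fintype.card_coe, octads_card ho,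
    show Nat.factorial 8 = 40320 from rfl] at h2
  have h3 : Nat.card (restrHom o).range = 20160 := by omega
  rw [h3] at h2
  omega

/-- Every even permutation of an octad is induced. -/
theorem octad_induce {o : Finset GolayPt} (ho : o ∈ octads) {e : Equiv.Perm o}
    (he : e ∈ alternatingGroup o) :
    ∃ g ∈ M24, g • o = o ∧ ∀ x : o, g x = e x := by
  rw [← octad_range ho] at he
  obtain ⟨g, rfl⟩ := he
  exact ⟨g, g.2.1, g.2.2, fun x => rfl⟩

end Cfsg.Agent.Lib.Golay
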