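import Cfsg.Agent.Lib.Golay.Search
import Cfsg.Agent.Lib.Golay.OuterData
import Cfsg.Agent.Lib.Golay.Orbit
import Cfsg.Prelude.Def_KGroupFacts

/-! # A certificate computing the outer automorphisms of a stabiliser in the code's group -/

set_option autoImplicit false
set_option maxRecDepth 100000

namespace Cfsg.Agent.Lib.Golay

open Cfsg
open scoped Pointwise

/-! ### Powers, words and relations -/

/-- `P` lists the powers of `a`. -/
def powsOK (a p : ℕ) (P : List ℕ) : Bool :=
  (P.length == p) && (P.getD 0 0 == idCode) &&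
    (List.range (p - 1)).all fun i => isComp a (P.getD i 0) (P.getD (i + 1) 0)

theorem powsOK_spec {a p : ℕ} {P : List ℕ} (h : powsOK a p P = true) :
    ∀ i < p, valid (P.getD i 0) = true ∧ toPerm (P.getD i 0) = toPerm a ^ i := by
  simp only [powsOK, Bool.and_eq_true, beq_iff_eq, List.all_eq_true, List.mem_range] at h
  intro i hi
  induction i with
  | zero => rw [h.1.2]; exact ⟨by decide +kernel, by rw [toPerm_idCode, pow_zero]⟩
  | succ i ih =>
    have hc := h.2 i (by omega)
    refine ⟨?_, by rw [toPerm_isComp hc, (ih (by omega)).2, pow_succ']⟩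
    simp only [isComp, Bool.and_eq_true] at hc
    exact hc.1.2

/-- The code of a word in a power table and a second element. -/
def wordCode (P : List ℕ) (y : ℕ) : List ℕ → ℕ → ℕ
  | [], acc => acc
  | e :: w, acc => wordCode P y w (comp (comp acc (P.getD e 0)) y)

/-- The value of a word. -/
def wordVal {M : Type*} [Monoid M] (A Y : M) : List ℕ → M → M
  | [], acc => acc
  | e :: w, acc => wordVal A Y w (acc * A ^ e * Y)

theorem map_wordVal {M N : Type*} [Monoid M] [Monoid N] (f : M →* N) (A Y : M) :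
    ∀ (w : List ℕ) (acc : M), f (wordVal A Y w acc) = wordVal (f A) (f Y) w (f acc)
  | [], _ => rfl
  | e :: w, acc => by rw [wordVal, map_wordVal f A Y w, wordVal, map_mul, map_mul, map_pow]

theorem wordCode_spec {a p y : ℕ} {P : List ℕ} (hP : powsOK a p P = true) (hy : valid y = true) :
    ∀ (w : List ℕ), (∀ e ∈ w, e < p) → ∀ acc, valid acc = true →
      valid (wordCode P y w acc) = true ∧
        toPerm (wordCode P y w acc) = wordVal (toPerm a) (toPerm y) w (toPerm acc)
  | [], _, acc, hacc => ⟨hacc, rfl⟩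
  | e :: w, hw, acc, hacc => by
    obtain ⟨hev, hee⟩ := powsOK_spec hP e (hw e (by simp))
    obtain ⟨h1, h1'⟩ := comp_spec hacc hev
    obtain ⟨h2, h2'⟩ := comp_spec h1 hy
    obtain ⟨h3, h3'⟩ := wordCode_spec hP hy w (fun x hx => hw x (List.mem_cons_of_mem _ hx)) _ h2
    exact ⟨h3, by rw [wordCode, h3', h2', h1', hee, wordVal]⟩

/-- All relations hold. -/
def passes (P : List ℕ) (rels : List (List ℕ × ℕ)) (y : ℕ) : Bool :=
  rels.all fun e => powId e.2 (wordCode P y e.1 idCode)

theorem pow_eq_one_of_powId {n x : ℕ} (hv : valid x = true) (h : powId n x = true) :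
    toPerm x ^ n = 1 := by
  simp only [powId, List.all_eq_true, beq_iff_eq] at h
  exact pow_eq_one_of_img hv fun i hi => h i (mem_idx.2 hi)

theorem passes_iff {a p y : ℕ} {P : List ℕ} (hP : powsOK a p P = true) (hy : valid y = true)
    {rels : List (List ℕ × ℕ)} (hlt : ∀ e ∈ rels, ∀ i ∈ e.1, i < p) :
    passes P rels y = true ↔ ∀ e ∈ rels, wordVal (toPerm a) (toPerm y) e.1 1 ^ e.2 = 1 := by
  simp only [passes, List.all_eq_true]
  refine forall₂_congr fun e he => ?_
  obtain ⟨h1, h2⟩ := wordCode_spec hP hy e.1 (hlt e he) idCode (by decide +kernel)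
  rw [toPerm_idCode] at h2
  rw [← h2]
  exact ⟨pow_eq_one_of_powId h1, powId_of_pow h1⟩

/-! ### The class of the second generator -/

theorem fixMask_lt' (c : ℕ) : fixMask c < 16777216 := by
  refine Nat.lt_pow_two_of_testBit (n := 24) _ fun i hi => ?_
  have key : ∀ L : List ℕ, (∀ j ∈ L, j < 24) → (L.foldr (fun j acc =>
      if img c j = j then 1 <<< j ||| acc else acc) 0).testBit i = false := by
    intro L hL
    induction L with
    | nil => simp
    | cons j L ih =>
      have hj := hL j (by simp)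
      simp only [List.foldr_cons]
      split_ifs
      · rw [Nat.testBit_or, ih fun k hk => hL k (List.mem_cons_of_mem _ hk), Nat.one_shiftLeft,
          Nat.testBit_two_pow]
        simp; omega
      · exact ih fun k hk => hL k (List.mem_cons_of_mem _ hk)
  exact key idx fun j hj => mem_idx.1 hj

/-- The conjugates of `r` under the powers. -/
def rotate (P Pi : List ℕ) (p r : ℕ) : List ℕ :=
  (List.range p).map fun i => comp (comp (P.getD i 0) r) (Pi.getD i 0)

/-- All listed conjugates. -/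
def expand (P Pi : List ℕ) (p : ℕ) (R : List (ℕ × ℕ)) : List ℕ :=
  (R.map fun e => rotate P Pi p e.1).flatten

/-- The first index outside a mask. -/
def lowOut (m : ℕ) : ℕ := (idx.find? fun i => (m >>> i) &&& 1 != 1).getD 0

/-- Indices of the listed conjugates. -/
def rotPairs (p : ℕ) (R : List (ℕ × ℕ)) : List (ℕ × ℕ) :=
  (R.map fun e => (List.range p).map fun i => (i, e.1)).flatten

/-- A key separating involutions with eight fixed points, from the fixed points and the image of
one moved point. -/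
def fixKey (x : ℕ) : ℕ := codeKey (fixMask x) * 24 + img x (lowOut (fixMask x))

theorem fixKey_congr {x y : ℕ} (hx : valid x = true) (hy : valid y = true)
    (h : toPerm x = toPerm y) : fixKey x = fixKey y := by
  have hmask : fixMask x = fixMask y :=
    eq_of_toSet_eq (fixMask_lt' x) (fixMask_lt' y) (by
      rw [← fixedPts_toPerm hx, ← fixedPts_toPerm hy, h])
  have hl : lowOut (fixMask y) < 24 := by
    rw [lowOut]
    cases hf : idx.find? fun i => (fixMask y >>> i) &&& 1 != 1 with
    | none => simp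
    | some i => simpa using mem_idx.1 (List.mem_of_find?_eq_some hf)
  have he := congrArg ix (DFunLike.congr_fun h (pt (lowOut (fixMask y))))
  rw [toPerm_pt hx hl, toPerm_pt hy hl, ix_pt (img_lt hx hl), ix_pt (img_lt hy hl)] at he
  rw [fixKey, fixKey, hmask, he]

/-- No two listed masks lie in one orbit of the powers. -/
def masksOK (P : List ℕ) (p : ℕ) (M : List ℕ) : Bool :=
  M.all fun m => (List.range (p - 1)).all fun d => !M.elem (act (P.getD (d + 1) 0) m)

/-- `c` conjugates `x` to `r`, inside a stabiliser. -/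
def conjIn (S : List ℕ) (F c x r : ℕ) : Bool :=
  inStab S F c && valid x && valid r && idx.all fun i => img c (img x i) == img r (img c i)

theorem conjIn_spec {S : List ℕ} {F c x r : ℕ} (h : conjIn S F c x r = true) :
    toPerm c ∈ stabM S F ∧ toPerm c * toPerm x * (toPerm c)⁻¹ = toPerm r := by
  simp only [conjIn, Bool.and_eq_true, List.all_eq_true, beq_iff_eq] at h
  obtain ⟨⟨⟨hc, hx⟩, hr⟩, he⟩ := h
  obtain ⟨hm, hv⟩ := inStab_spec hc
  refine ⟨hm, mul_inv_eq_iff_eq_mul.2 (Equiv.ext fun z => ?_)⟩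
  have hz := mem_idx.2 (ix_lt z)
  rw [Equiv.Perm.mul_apply, Equiv.Perm.mul_apply, toPerm_apply hx,
    toPerm_pt hv (img_lt hx (ix_lt z)), he _ hz, toPerm_apply hv,
    toPerm_pt hr (img_lt hv (ix_lt z))]

/-- The data of a certificate. -/
structure OutData where
  /-- the stabilised sets -/
  S : List ℕ
  /-- the fixed points -/
  F : ℕ
  /-- the prime -/
  p : ℕ
  /-- the order of the group -/
  size : ℕ
  /-- the first generator -/
  a : ℕ
  /-- the second generator -/
  b : ℕ
  /-- powers of the first generator -/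
  P : List ℕ
  /-- powers of its inverse -/
  Pi : List ℕ
  /-- conjugators of the powers -/
  conjA : List ℕ
  /-- representatives of the class with conjugators -/
  R : List (ℕ × ℕ)
  /-- relations -/
  rels : List (List ℕ × ℕ)
  /-- survivors for the inverted generator -/
  other : List ℕ
  /-- elements centralising the second generator -/
  centChain : List (ℕ × List ℕ)
  /-- a chain of the group -/
  chain : List (ℕ × List ℕ)
  /-- a program for the chain -/
  prog : List (ℕ × ℕ × ℕ)
  /-- the fixed-point masks of the representatives -/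
  masks : List ℕ

namespace OutData

variable (D : OutData)

/-- The first checks: the generators. -/
def genCheck : Bool :=
  Nat.ble 2 D.p && inStab D.S D.F D.a && inStab D.S D.F D.b && powsOK D.a D.p D.P &&
    powsOK (D.Pi.getD 1 0) D.p D.Pi && isComp D.a (D.Pi.getD 1 0) idCode &&
    powId D.p D.a && powId 2 D.b && (img D.a 1 != 1) && (fixMask D.b != FULL) &&
    (List.range (D.p - 1)).all fun i =>
      conjIn D.S D.F (D.conjA.getD i 0) (D.P.getD (i + 1) 0) D.a ||
        conjIn D.S D.F (D.conjA.getD i 0) (D.P.getD (i + 1) 0) (D.Pi.getD 1 0)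

/-- The checks on the class of the second generator. -/
def classCheck : Bool :=
  D.R.all (fun e => conjIn D.S D.F e.2 e.1 D.b && D.masks.elem (fixMask e.1)) &&
    keyInj fixKey (D.R.map Prod.fst) 0 && masksOK D.P D.p D.masks &&
    chainOK 0 D.centChain &&
    D.centChain.all (fun e => e.2.all fun t => inStab D.S D.F t && commJ D.b [D.b] t) &&
    (D.R.length * D.p * chainSize D.centChain == D.size)

/-- The checks on relations. -/
def relCheck : Bool :=
  D.rels.all (fun e => e.1.all fun i => Nat.blt i D.p) && passes D.P D.rels D.b &&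
    ((D.R.map Prod.fst).filter (passes D.P D.rels) == [D.b]) &&
    ((D.R.map Prod.fst).filter (passes D.Pi D.rels) == D.other)

/-- The checks of generation. -/
def spanCheck : Bool :=
  chainInOK [D.a, D.Pi.getD 1 0, D.b, D.b] D.prog D.chain && chainOK 0 D.chain &&
    (chainSize D.chain == D.size)

/-- The group. -/
abbrev G : Subgroup (Equiv.Perm GolayPt) := stabM D.S D.F

/-- The centraliser inside the group. -/
def centIn (x : Equiv.Perm GolayPt) : Subgroup (Equiv.Perm GolayPt) :=
  D.G ⊓ Subgroup.centralizer {x}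

/-- A certificate, without the knowledge of involutions. -/
structure Pre : Prop where
  card : Nat.card D.G = D.size
  prime : D.p.Prime
  ndvd : ¬ D.p ^ 2 ∣ D.size
  gen : D.genCheck = true
  cls : D.classCheck = true
  rel : D.relCheck = true
  span : D.spanCheck = true

/-- A certificate. -/
structure Cert : Prop extends Pre D where
  inv : ∀ x ∈ D.G, orderOf x = 2 → Nat.card (D.centIn x) = Nat.card (D.centIn (toPerm D.b)) →
    ∃ c ∈ D.G, c * x * c⁻¹ = toPerm D.b

end OutData

theorem mem_centIn {D : OutData} {x g : Equiv.Perm GolayPt} :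
    g ∈ D.centIn x ↔ g ∈ D.G ∧ g * x = x * g := by
  simp only [OutData.centIn, Subgroup.mem_inf, Subgroup.mem_centralizer_singleton_iff]

namespace OutData.Pre

variable {D : OutData} (h : D.Pre)
include h

theorem facts :
    (2 ≤ D.p ∧ toPerm D.a ∈ D.G ∧ toPerm D.b ∈ D.G ∧ valid D.a = true ∧ valid D.b = true) ∧
      powsOK D.a D.p D.P = true ∧ powsOK (D.Pi.getD 1 0) D.p D.Pi = true ∧
      toPerm (D.Pi.getD 1 0) = (toPerm D.a)⁻¹ ∧
      orderOf (toPerm D.a) = D.p ∧ orderOf (toPerm D.b) = 2 ∧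
      (∀ i < D.p - 1, ∃ c ∈ D.G, c * toPerm D.a ^ (i + 1) * c⁻¹ = toPerm D.a ∨
        c * toPerm D.a ^ (i + 1) * c⁻¹ = (toPerm D.a)⁻¹) := by
  have hg := h.gen
  simp only [genCheck, Bool.and_eq_true, Nat.ble_eq, bne_iff_ne, ne_eq, List.all_eq_true,
    List.mem_range, Bool.or_eq_true] at hg
  obtain ⟨⟨⟨⟨⟨⟨⟨⟨⟨⟨hp, ha⟩, hb⟩, hP⟩, hPi⟩, hc⟩, hap⟩, hb2⟩, ha1⟩, hb1⟩, hconj⟩ := hg
  obtain ⟨haG, hav⟩ := inStab_spec ha
  obtain ⟨hbG, hbv⟩ := inStab_spec hb
  have hinv : toPerm (D.Pi.getD 1 0) = (toPerm D.a)⁻¹ := by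
    have := toPerm_isComp hc
    rw [toPerm_idCode] at this
    exact eq_inv_of_mul_eq_one_right this.symm
  have : Fact D.p.Prime := ⟨h.prime⟩
  have : Fact (Nat.Prime 2) := ⟨Nat.prime_two⟩
  refine ⟨⟨hp, haG, hbG, hav, hbv⟩, hP, hPi, hinv, ?_, ?_, fun i hi => ?_⟩
  · refine orderOf_eq_prime (pow_eq_one_of_powId hav hap) fun e => ha1 ?_
    have h1 := toPerm_pt hav (i := 1) (by norm_num)
    rw [e, Equiv.Perm.one_apply] at h1
    rw [← ix_pt (img_lt hav (i := 1) (by norm_num)), ← h1, ix_pt (by norm_num)]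
  · refine orderOf_eq_prime (pow_eq_one_of_powId hbv hb2) fun e => hb1 ?_
    have hlt : fixMask D.b < 16777216 := by
      refine Nat.lt_pow_two_of_testBit (n := 24) _ fun i hi => ?_
      have key : ∀ L : List ℕ, (∀ j ∈ L, j < 24) → (L.foldr (fun j acc =>
          if img D.b j = j then 1 <<< j ||| acc else acc) 0).testBit i = false := by
        intro L hL
        induction L with
        | nil => simp
        | cons j L ih =>
          have hj := hL j (by simp)
          simp only [List.foldr_cons]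
          split_ifs
          · rw [Nat.testBit_or, ih fun k hk => hL k (List.mem_cons_of_mem _ hk), Nat.one_shiftLeft,
              Nat.testBit_two_pow]
            simp; omega
          · exact ih fun k hk => hL k (List.mem_cons_of_mem _ hk)
      exact key idx fun j hj => mem_idx.1 hj
    refine eq_of_toSet_eq hlt (by norm_num) ?_
    rw [← fixedPts_toPerm hbv, e, toSet_full]
    exact Finset.eq_univ_of_forall fun x => mem_fixedPts.2 rfl
  · have hval := (powsOK_spec hP (i + 1) (by omega)).2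
    rcases hconj i hi with hc' | hc' <;> obtain ⟨hcG, he⟩ := conjIn_spec hc'
    · exact ⟨_, hcG, Or.inl (by rw [← hval]; exact he)⟩
    · exact ⟨_, hcG, Or.inr (by rw [← hval, ← hinv]; exact he)⟩

theorem class_facts :
    (∀ x : Equiv.Perm GolayPt, (∃ c ∈ D.G, c * x * c⁻¹ = toPerm D.b) →
      ∃ q ∈ expand D.P D.Pi D.p D.R, toPerm q = x) ∧
    Nat.card (D.centIn (toPerm D.b)) = chainSize D.centChain := by
  obtain ⟨⟨-, -, hbG, hav, hbv⟩, hP, hPi, hinv, -, -, -⟩ := h.facts
  have hcls := h.cls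
  simp only [classCheck, Bool.and_eq_true, List.all_eq_true, beq_iff_eq] at hcls
  obtain ⟨⟨⟨⟨⟨hRm, hkey⟩, hmasks⟩, hchain⟩, hcent⟩, hsize⟩ := hcls
  have hR : ∀ e ∈ D.R, conjIn D.S D.F e.2 e.1 D.b = true := fun e he => (hRm e he).1
  set L := rotPairs D.p D.R with hL
  let C : Set (Equiv.Perm GolayPt) := {y | ∃ c ∈ D.G, c * y * c⁻¹ = toPerm D.b}
  let f₀ : ℕ × ℕ → Equiv.Perm GolayPt := fun x =>
    toPerm (D.P.getD x.1 0) * toPerm x.2 * toPerm (D.Pi.getD x.1 0)
  have hmem : ∀ q ∈ L, (valid (D.P.getD q.1 0) = true ∧ valid (D.Pi.getD q.1 0) = true ∧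
      valid q.2 = true ∧ toPerm (D.Pi.getD q.1 0) = (toPerm (D.P.getD q.1 0))⁻¹) ∧ f₀ q ∈ C ∧
      ∃ q' ∈ expand D.P D.Pi D.p D.R, toPerm q' = f₀ q := by
    intro q hq
    simp only [hL, rotPairs, List.mem_flatten, List.mem_map] at hq
    obtain ⟨_, ⟨e, he, rfl⟩, hq⟩ := hq
    simp only [List.mem_map, List.mem_range] at hq
    obtain ⟨i, hi, rfl⟩ := hq
    obtain ⟨hcG, hce⟩ := conjIn_spec (hR e he)
    have hev : valid e.1 = true := by
      have := hR e he
      simp only [conjIn, Bool.and_eq_true] at this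
      exact this.1.1.2
    obtain ⟨h1, h1'⟩ := powsOK_spec hP i hi
    obtain ⟨h2, h2'⟩ := powsOK_spec hPi i hi
    obtain ⟨h3, h3'⟩ := comp_spec h1 hev
    obtain ⟨h4, h4'⟩ := comp_spec h3 h2
    have hinv' : toPerm (D.Pi.getD i 0) = (toPerm (D.P.getD i 0))⁻¹ := by
      rw [h1', h2', hinv, inv_pow]
    refine ⟨⟨h1, h2, hev, hinv'⟩, ⟨toPerm e.2 * (toPerm D.a ^ i)⁻¹,
      mul_mem hcG (inv_mem (pow_mem h.facts.1.2.1 i)), ?_⟩,
      comp (comp (D.P.getD i 0) e.1) (D.Pi.getD i 0), ?_, by rw [h4', h3']⟩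
    · simp only [f₀]
      rw [h1', h2', hinv, ← hce]
      group
    · simp only [expand, rotate, List.mem_flatten, List.mem_map, List.mem_range]
      exact ⟨_, ⟨e, he, rfl⟩, List.mem_map.2 ⟨i, List.mem_range.2 hi, rfl⟩⟩
  have hLmem : ∀ q ∈ L, q.1 < D.p ∧ ∃ e ∈ D.R, e.1 = q.2 := by
    intro q hq
    simp only [hL, rotPairs, List.mem_flatten, List.mem_map] at hq
    obtain ⟨_, ⟨e, he, rfl⟩, hq⟩ := hq
    simp only [List.mem_map, List.mem_range] at hq
    obtain ⟨i, hi, rfl⟩ := hq
    exact ⟨hi, e, he, rfl⟩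
  have hap : toPerm D.a ^ D.p = 1 := by
    rw [← h.facts.2.2.2.2.1]; exact pow_orderOf_eq_one _
  have hinj : Set.InjOn f₀ {q | q ∈ L} := by
    rintro ⟨k, x⟩ hq ⟨k', y⟩ hr e
    obtain ⟨⟨hkv, hkv', hxv, hxi⟩, -⟩ := hmem _ hq
    obtain ⟨⟨hlv, hlv', hyv, hyi⟩, -⟩ := hmem _ hr
    obtain ⟨hk, e₁, he₁, he₁'⟩ := hLmem _ hq
    obtain ⟨hl, e₂, he₂, he₂'⟩ := hLmem _ hr
    simp only at hkv hkv' hxv hxi hlv hlv' hyv hyi hk hl he₁' he₂'
    simp only [f₀, hxi, hyi, (powsOK_spec hP k hk).2, (powsOK_spec hP k' hl).2] at e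
    set A := toPerm D.a
    set d := (k + (D.p - k')) % D.p with hd
    have hdlt : d < D.p := Nat.mod_lt _ (by omega)
    have hAd : A ^ d = (A ^ k')⁻¹ * A ^ k := by
      rw [hd, ← pow_eq_pow_mod _ hap, eq_inv_mul_iff_mul_eq, ← pow_add,
        show k' + (k + (D.p - k')) = k + D.p by omega, pow_add, hap, mul_one]
    have hconj : A ^ d * toPerm x * (A ^ d)⁻¹ = toPerm y := by
      calc A ^ d * toPerm x * (A ^ d)⁻¹
          = (A ^ k')⁻¹ * (A ^ k * toPerm x * (A ^ k)⁻¹) * A ^ k' := by rw [hAd]; group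
        _ = _ := by rw [e]; group
    by_cases hd0 : d = 0
    · have hkk : k = k' := by
        rcases lt_trichotomy k k' with h1 | h1 | h1
        · rw [hd, Nat.mod_eq_of_lt (by omega)] at hd0; omega
        · exact h1
        · rw [hd, Nat.mod_eq_sub_mod (by omega), Nat.mod_eq_of_lt (by omega)] at hd0; omega
      rw [hd0, pow_zero] at hconj
      simp only [one_mul, inv_one, mul_one] at hconj
      rw [hkk, (keyInj_spec hkey).2.2 x (List.mem_map.2 ⟨e₁, he₁, he₁'⟩) y
        (List.mem_map.2 ⟨e₂, he₂, he₂'⟩) (fixKey_congr hxv hyv hconj)]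
    · exfalso
      have hm1 := (hRm e₁ he₁).2
      have hm2 := (hRm e₂ he₂).2
      simp only [List.elem_eq_mem, decide_eq_true_eq, he₁', he₂'] at hm1 hm2
      simp only [masksOK, List.all_eq_true, List.mem_range, Bool.not_eq_true', List.elem_eq_mem,
        decide_eq_false_iff_not] at hmasks
      obtain ⟨hdv, hdv'⟩ := powsOK_spec hP d hdlt
      have := hmasks _ hm1 (d - 1) (by omega)
      rw [show d - 1 + 1 = d by omega] at this
      refine this ?_
      have hact : act (D.P.getD d 0) (fixMask x) = fixMask y :=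
        eq_of_toSet_eq (act_lt hdv _) (fixMask_lt' y) (by
          rw [← smul_toSet hdv, hdv', ← fixedPts_toPerm hxv, ← fixedPts_conj, hconj,
            fixedPts_toPerm hyv])
      rwa [hact]
  have hsub : ↑(L.toFinset.image f₀) ⊆ C := by
    intro y hy
    simp only [Finset.coe_image, Set.mem_image, List.coe_toFinset, Set.mem_ofPred_eq] at hy
    obtain ⟨q, hq, rfl⟩ := hy
    exact (hmem q hq).2.1
  have hLlen : L.length = D.R.length * D.p := by
    simp [hL, rotPairs, List.length_flatten, List.map_map, Function.comp_def]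
  rw [← hLlen] at hsize
  have hnd : L.Nodup := by
    rw [hL, rotPairs, List.nodup_flatten]
    refine ⟨?_, ?_⟩
    · intro l hl
      obtain ⟨e, -, rfl⟩ := List.mem_map.1 hl
      exact List.nodup_range.map fun a b hab => (Prod.mk.injEq _ _ _ _ ▸ hab).1
    · have h1 := (keyInj_spec hkey).1
      rw [List.pairwise_map]
      refine List.Pairwise.imp ?_ (List.pairwise_map.1 h1)
      intro u v huv z hz hz'
      simp only [List.mem_map, List.mem_range] at hz hz'
      obtain ⟨i, -, rfl⟩ := hz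
      obtain ⟨j, -, hj⟩ := hz'
      exact huv (Prod.mk.injEq _ _ _ _ ▸ hj).2.symm
  have hlen : (L.toFinset.image f₀).card = L.length := by
    rw [Finset.card_image_of_injOn (by simpa using hinj), List.toFinset_card_of_nodup hnd]
  have hC : Nat.card D.G = C.ncard * Nat.card (D.centIn (toPerm D.b)) := by
    let f : D.G → Equiv.Perm GolayPt := fun c => (c : Equiv.Perm GolayPt)⁻¹ * toPerm D.b * c
    have hrange : C = Set.range f := by
      ext y
      constructor
      · rintro ⟨c, hc, e⟩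
        exact ⟨⟨c, hc⟩, by show c⁻¹ * toPerm D.b * c = y; rw [← e]; group⟩
      · rintro ⟨c, rfl⟩
        exact ⟨c, c.2, by show (c : Equiv.Perm GolayPt) * ((c : Equiv.Perm GolayPt)⁻¹ * toPerm D.b * c) *
          (c : Equiv.Perm GolayPt)⁻¹ = _; group⟩
    have hk : ∀ c d : D.G, f c = f d ↔ d * c⁻¹ ∈ (D.centIn (toPerm D.b)).subgroupOf D.G := by
      intro c d
      rw [Subgroup.mem_subgroupOf, mem_centIn]
      constructor
      · intro e
        refine ⟨(d * c⁻¹).2, ?_⟩
        calc ((d * c⁻¹ : D.G) : Equiv.Perm GolayPt) * toPerm D.b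
            = d * (f c) * c⁻¹ := by simp only [f, Subgroup.coe_mul, Subgroup.coe_inv]; group
          _ = _ := by rw [e]; simp only [f, Subgroup.coe_mul, Subgroup.coe_inv]; group
      · rintro ⟨-, e⟩
        simp only [Subgroup.coe_mul, Subgroup.coe_inv] at e
        calc f c = (d : Equiv.Perm GolayPt)⁻¹ * (d * (c : Equiv.Perm GolayPt)⁻¹ * toPerm D.b) * c := by
              simp only [f]; group
          _ = f d := by rw [e]; simp only [f]; group
    have e : Quotient (QuotientGroup.rightRel ((D.centIn (toPerm D.b)).subgroupOf D.G)) ≃ C := by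
      rw [hrange]
      refine Equiv.ofBijective (Quotient.lift (fun c => (⟨f c, c, rfl⟩ : Set.range f))
        fun c d hcd => Subtype.ext ((hk c d).2 (QuotientGroup.rightRel_apply.1 hcd))) ⟨?_, ?_⟩
      · refine Quotient.ind₂ fun c d hcd => Quotient.sound ?_
        exact QuotientGroup.rightRel_apply.2 ((hk c d).1 (Subtype.ext_iff.1 hcd))
      · rintro ⟨_, c, rfl⟩; exact ⟨Quotient.mk _ c, rfl⟩
    have hcard := Subgroup.card_mul_index ((D.centIn (toPerm D.b)).subgroupOf D.G)
    have e1 : Nat.card ((D.centIn (toPerm D.b)).subgroupOf D.G) = Nat.card (D.centIn (toPerm D.b)) :=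
      Nat.card_congr (Subgroup.subgroupOfEquivOfLe inf_le_left).toEquiv
    rw [e1, Subgroup.index, ← Nat.card_congr (QuotientGroup.quotientRightRelEquivQuotientLeftRel _),
      Nat.card_congr e, Nat.card_coe_set_eq] at hcard
    rw [← hcard, mul_comm]
  have hlow : chainSize D.centChain ≤ Nat.card (D.centIn (toPerm D.b)) := by
    have := chain_lower (D.centIn (toPerm D.b)) D.centChain 0 hchain fun e he t ht => by
      obtain ⟨h1, h2⟩ := hcent e he t ht
      obtain ⟨hm, hv⟩ := inStab_spec h1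
      refine mem_centIn.2 ⟨hm, ?_⟩
      obtain ⟨j, hj, e⟩ := (commJ_iff hbv hv (by simpa using hbv)).1 h2
      rw [List.mem_singleton.1 hj] at e
      exact e
    rwa [fixIn_zero] at this
  have hge := Set.ncard_le_ncard hsub (Set.toFinite _)
  rw [Set.ncard_coe_finset, hlen] at hge
  rw [h.card, ← hsize] at hC
  have hpos : 0 < chainSize D.centChain := by
    rcases Nat.eq_zero_or_pos (chainSize D.centChain) with e | e
    · rw [e, mul_zero] at hsize
      have := Nat.card_pos (α := D.G)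
      rw [h.card] at this; omega
    · exact e
  have heq := Set.eq_of_subset_of_ncard_le hsub (by
    rw [Set.ncard_coe_finset, hlen]
    by_contra hcon
    push Not at hcon
    have := Nat.mul_lt_mul_of_lt_of_le hcon hlow (Nat.lt_of_lt_of_le hpos hlow)
    omega) (Set.toFinite _)
  refine ⟨fun x hxC => ?_, ?_⟩
  · have hx' : x ∈ C := hxC
    rw [← heq] at hx'
    simp only [Finset.coe_image, Set.mem_image, List.coe_toFinset, Set.mem_ofPred_eq] at hx'
    obtain ⟨q, hq, rfl⟩ := hx'
    exact (hmem q hq).2.2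
  · have hLpos : 0 < L.length := by
      rcases Nat.eq_zero_or_pos L.length with e | e
      · rw [e, zero_mul] at hsize
        have := Nat.card_pos (α := D.G)
        rw [h.card] at this; omega
      · exact e
    rw [← heq, Set.ncard_coe_finset, hlen] at hC
    exact (Nat.eq_of_mul_eq_mul_left hLpos hC).symm

end OutData.Pre

namespace OutData.Cert

variable {D : OutData} (h : D.Cert)
include h


/-- The first generator in the group. -/
noncomputable def A : D.G := ⟨toPerm D.a, h.facts.1.2.1⟩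

/-- The second generator in the group. -/
noncomputable def B : D.G := ⟨toPerm D.b, h.facts.1.2.2.1⟩

theorem order_A : orderOf h.A = D.p := by rw [← Subgroup.orderOf_coe]; exact h.facts.2.2.2.2.1

theorem order_B : orderOf h.B = 2 := by rw [← Subgroup.orderOf_coe]; exact h.facts.2.2.2.2.2.1

/-- Every element of order `p` is conjugate to the first generator or its inverse. -/
theorem conj_A {x : D.G} (hx : orderOf x = D.p) :
    ∃ c : D.G, c * x * c⁻¹ = h.A ∨ c * x * c⁻¹ = h.A⁻¹ := by
  have : Fact D.p.Prime := ⟨h.prime⟩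
  have hdvd : D.p ∣ D.size := by
    rw [← h.card, ← hx]; exact orderOf_dvd_natCard x
  have hfac : (Nat.card D.G).factorization D.p = 1 := by
    rw [h.card]
    have hne : D.size ≠ 0 := by rw [← h.card]; exact Nat.card_pos.ne'
    have h1 := (h.prime.pow_dvd_iff_le_factorization (k := 1) hne).1 (by rwa [pow_one])
    have h2 := mt (h.prime.pow_dvd_iff_le_factorization (k := 2) hne).2 h.ndvd
    omega
  obtain ⟨d, hd⟩ := MulAction.exists_smul_eq D.G
    (Sylow.ofCard (Subgroup.zpowers x) (by rw [Nat.card_zpowers, hx, hfac, pow_one]) : Sylow D.p D.G)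
    (Sylow.ofCard (Subgroup.zpowers h.A) (by rw [Nat.card_zpowers, h.order_A, hfac, pow_one]))
  have hmem : d * x * d⁻¹ ∈ Subgroup.zpowers h.A := by
    have h2 : MulAut.conj d • x ∈ ((d • (Sylow.ofCard (Subgroup.zpowers x)
        (by rw [Nat.card_zpowers, hx, hfac, pow_one]) : Sylow D.p D.G) : Sylow D.p D.G) :
          Subgroup D.G) := by
      rw [Sylow.coe_subgroup_smul]
      exact Subgroup.smul_mem_pointwise_smul _ _ _ (Subgroup.mem_zpowers x)
    rw [hd] at h2
    exact h2
  obtain ⟨i, hi⟩ := (IsOfFinOrder.mem_powers_iff_mem_zpowers (isOfFinOrder_of_finite h.A)).2 hmem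
  have hi' : h.A ^ (i % D.p) = d * x * d⁻¹ := by rw [← hi, ← h.order_A, pow_mod_orderOf]
  have hne : i % D.p ≠ 0 := fun e => by
    rw [e, pow_zero] at hi'
    rw [conj_eq_one_iff.1 hi'.symm, orderOf_one] at hx
    exact h.prime.ne_one hx.symm
  have hlt := Nat.mod_lt i h.prime.pos
  obtain ⟨c, hc, hcc⟩ := h.facts.2.2.2.2.2.2 (i % D.p - 1) (by omega)
  rw [show i % D.p - 1 + 1 = i % D.p by omega] at hcc
  refine ⟨⟨c, hc⟩ * d, ?_⟩
  have hrw : (⟨c, hc⟩ * d) * x * (⟨c, hc⟩ * d)⁻¹ = ⟨c, hc⟩ * h.A ^ (i % D.p) * (⟨c, hc⟩ : D.G)⁻¹ := by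
    rw [hi']; group
  rw [hrw]
  rcases hcc with e | e
  · exact Or.inl (Subtype.ext e)
  · exact Or.inr (Subtype.ext e)

theorem generated : Subgroup.closure ({h.A, h.B} : Set D.G) = ⊤ := by
  have hspan := h.span
  simp only [spanCheck, Bool.and_eq_true, beq_iff_eq] at hspan
  obtain ⟨⟨hin, hok⟩, hsize⟩ := hspan
  set K := (Subgroup.closure ({h.A, h.B} : Set D.G)).map D.G.subtype with hK
  have hle : Subgroup.closure {τ | ∃ g ∈ [D.a, D.Pi.getD 1 0, D.b, D.b], toPerm g = τ} ≤ K := by
    rw [Subgroup.closure_le]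
    rintro _ ⟨g, hg, rfl⟩
    have hA : h.A ∈ Subgroup.closure ({h.A, h.B} : Set D.G) := Subgroup.subset_closure (by simp)
    have hB : h.B ∈ Subgroup.closure ({h.A, h.B} : Set D.G) := Subgroup.subset_closure (by simp)
    simp only [List.mem_cons, List.not_mem_nil, or_false] at hg
    rcases hg with rfl | rfl | rfl | rfl
    · exact ⟨_, hA, rfl⟩
    · exact ⟨_, inv_mem hA, by rw [h.facts.2.2.2.1]; rfl⟩
    · exact ⟨_, hB, rfl⟩
    · exact ⟨_, hB, rfl⟩
  have := eq_of_chain (C := K) (G := D.G) (Subgroup.map_subtype_le _) hok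
    (fun e he t ht => hle (chainIn_spec hin e he t ht)) (by rw [h.card, hsize])
  rw [eq_top_iff]
  intro x _
  have hx : (x : Equiv.Perm GolayPt) ∈ K := by rw [this]; exact x.2
  obtain ⟨y, hy, e⟩ := hx
  rwa [← D.G.subtype_injective e]

/-- After an inner adjustment an automorphism is one of the listed candidates. -/
theorem normalise (φ : MulAut D.G) : ∃ k : D.G,
    MulAut.conj k * φ = 1 ∨
      ((MulAut.conj k * φ) h.A = h.A⁻¹ ∧
        ∃ r ∈ D.other, toPerm r = ((MulAut.conj k * φ) h.B : Equiv.Perm GolayPt)) := by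
  obtain ⟨⟨-, haG, hbG, hav, hbv⟩, hP, hPi, hinv, -, -, -⟩ := h.facts
  have hrel := h.rel
  simp only [relCheck, Bool.and_eq_true, List.all_eq_true, Nat.blt_eq, beq_iff_eq] at hrel
  obtain ⟨⟨⟨hlt, hbpass⟩, hA1⟩, hA2⟩ := hrel
  obtain ⟨c, hc⟩ := h.conj_A (x := φ h.A) (by rw [MulEquiv.orderOf_eq, h.order_A])
  set φ₁ := MulAut.conj c * φ with hφ₁
  have h1A : φ₁ h.A = h.A ∨ φ₁ h.A = h.A⁻¹ := hc
  have ho : orderOf ((φ₁ h.B : D.G) : Equiv.Perm GolayPt) = 2 := by
    rw [Subgroup.orderOf_coe, MulEquiv.orderOf_eq, h.order_B]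
  have hcard : Nat.card (D.centIn ((φ₁ h.B : D.G) : Equiv.Perm GolayPt)) =
      Nat.card (D.centIn (toPerm D.b)) := by
    let C₁ := D.centIn (toPerm D.b)
    let C₂ := D.centIn ((φ₁ h.B : D.G) : Equiv.Perm GolayPt)
    let f : C₁ → C₂ := fun g =>
      ⟨(φ₁ ⟨g.1, (mem_centIn.1 g.2).1⟩ : D.G), mem_centIn.2 ⟨(φ₁ _).2, ?_⟩⟩
    let f' : C₂ → C₁ := fun g =>
      ⟨(φ₁.symm ⟨g.1, (mem_centIn.1 g.2).1⟩ : D.G), mem_centIn.2 ⟨(φ₁.symm _).2, ?_⟩⟩
    refine (Nat.card_congr (⟨f, f', fun g => Subtype.ext (by simp [f, f']),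
      fun g => Subtype.ext (by simp [f, f'])⟩ : C₁ ≃ C₂)).symm
    · have e : (⟨g, (mem_centIn.1 g.2).1⟩ : D.G) * φ₁ h.B =
          φ₁ h.B * ⟨g, (mem_centIn.1 g.2).1⟩ := Subtype.ext (mem_centIn.1 g.2).2
      have := congrArg φ₁.symm e
      rw [map_mul, map_mul, MulEquiv.symm_apply_apply] at this
      exact congrArg Subtype.val this
    · have e : (⟨g, (mem_centIn.1 g.2).1⟩ : D.G) * h.B = h.B * ⟨g, (mem_centIn.1 g.2).1⟩ :=
        Subtype.ext (mem_centIn.1 g.2).2
      have := congrArg φ₁ e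
      rw [map_mul, map_mul] at this
      exact congrArg Subtype.val this
  obtain ⟨q, hq, hqe⟩ := h.class_facts.1 _ (h.inv _ (φ₁ h.B).2 ho hcard)
  simp only [expand, List.mem_flatten, List.mem_map] at hq
  obtain ⟨_, ⟨e, he, rfl⟩, hq⟩ := hq
  simp only [rotate, List.mem_map, List.mem_range] at hq
  obtain ⟨i, hi, rfl⟩ := hq
  have hev : valid e.1 = true := by
    have := h.cls
    simp only [classCheck, Bool.and_eq_true, List.all_eq_true] at this
    have h2 := (this.1.1.1.1.1 e he).1
    simp only [conjIn, Bool.and_eq_true] at h2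
    exact h2.1.1.2
  obtain ⟨h1, h1'⟩ := powsOK_spec hP i hi
  obtain ⟨h2, h2'⟩ := powsOK_spec hPi i hi
  obtain ⟨h3, h3'⟩ := comp_spec h1 hev
  rw [(comp_spec h3 h2).2, h3', h1', h2', hinv] at hqe
  set ψ := MulAut.conj (h.A ^ i)⁻¹ * φ₁ with hψ
  have hψB : ((ψ h.B : D.G) : Equiv.Perm GolayPt) = toPerm e.1 := by
    show ((MulAut.conj (h.A ^ i)⁻¹ (φ₁ h.B) : D.G) : Equiv.Perm GolayPt) = _
    rw [MulAut.conj_apply, Subgroup.coe_mul, Subgroup.coe_mul, inv_inv, Subgroup.coe_inv,
      SubmonoidClass.coe_pow, ← hqe]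
    simp only [A]
    group
  have hψA : ψ h.A = h.A ∨ ψ h.A = h.A⁻¹ := by
    rcases h1A with e1 | e1
    · left
      show MulAut.conj (h.A ^ i)⁻¹ (φ₁ h.A) = _
      rw [e1, MulAut.conj_apply]; group
    · right
      show MulAut.conj (h.A ^ i)⁻¹ (φ₁ h.A) = _
      rw [e1, MulAut.conj_apply]; group
  have hpass : ∀ {Pw : List ℕ} {g : ℕ}, powsOK g D.p Pw = true →
      toPerm g = ((ψ h.A : D.G) : Equiv.Perm GolayPt) →
      e.1 ∈ (D.R.map Prod.fst).filter (passes Pw D.rels) := by
    intro Pw g hPw hg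
    refine List.mem_filter.2 ⟨List.mem_map.2 ⟨e, he, rfl⟩, (passes_iff hPw hev hlt).2 ?_⟩
    intro w hw
    have hb := (passes_iff hP hbv hlt).1 hbpass w hw
    let f : D.G →* Equiv.Perm GolayPt := D.G.subtype.comp ψ.toMonoidHom
    have hz : wordVal h.A h.B w.1 (1 : D.G) ^ w.2 = 1 := by
      apply D.G.subtype_injective
      rw [map_pow, map_wordVal, map_one]
      exact hb
    have := congrArg f hz
    rw [map_pow, map_wordVal, map_one, show f h.A = toPerm g from hg.symm,
      show f h.B = toPerm e.1 from hψB] at this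
    exact this
  refine ⟨(h.A ^ i)⁻¹ * c, ?_⟩
  have hprod : MulAut.conj ((h.A ^ i)⁻¹ * c) * φ = ψ := by
    rw [map_mul, mul_assoc]
  rw [hprod]
  rcases hψA with e1 | e1
  · left
    have hb : e.1 = D.b := by
      have := hpass hP (by rw [e1]; rfl)
      rw [hA1] at this
      exact List.mem_singleton.1 this
    refine MulEquiv.ext fun x => ?_
    have hd := MonoidHom.eq_of_eqOn_dense h.generated (f := ψ.toMonoidHom) (g := MonoidHom.id D.G)
      (fun y hy => by
        rcases hy with rfl | rfl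
        · exact e1
        · exact Subtype.ext (hψB.trans (congrArg toPerm hb)))
    exact DFunLike.congr_fun hd x
  · right
    refine ⟨e1, e.1, ?_, hψB.symm⟩
    rw [← hA2]
    exact hpass hPi (by rw [e1, hinv]; rfl)

/-- With no further survivor every automorphism is inner. -/
theorem out_one (ho : D.other = []) : Nat.card (Out D.G) = 1 := by
  have htop : Inn D.G = ⊤ := by
    rw [eq_top_iff]
    intro φ _
    obtain ⟨k, e | ⟨-, r, hr, -⟩⟩ := h.normalise φ
    · exact ⟨k⁻¹, by rw [map_inv]; exact inv_eq_of_mul_eq_one_right e⟩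
    · rw [ho] at hr; simp at hr
  show (Inn D.G).index = 1
  rw [htop, Subgroup.index_top]

/-- With one survivor and one automorphism which is not inner, the quotient has order two. -/
theorem out_two {r₁ : ℕ} (ho : D.other = [r₁]) {τ : MulAut D.G} (hτ : τ ∉ Inn D.G) :
    Nat.card (Out D.G) = 2 := by
  show (Inn D.G).index = 2
  refine Subgroup.index_eq_two_iff.2 ⟨τ⁻¹, fun φ => ?_⟩
  have hτi : τ⁻¹ ∉ Inn D.G := fun e => hτ (inv_inv τ ▸ inv_mem e)
  by_cases hφ : φ ∈ Inn D.G
  · exact Or.inr ⟨hφ, fun e => hτi (by simpa using mul_mem (inv_mem hφ) e)⟩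
  refine Or.inl ⟨?_, hφ⟩
  obtain ⟨k, e | ⟨ekA, r, hr, ekB⟩⟩ := h.normalise φ
  · exact absurd ⟨k⁻¹, by rw [map_inv]; exact inv_eq_of_mul_eq_one_right e⟩ hφ
  obtain ⟨l, e | ⟨elA, r', hr', elB⟩⟩ := h.normalise τ
  · exact absurd ⟨l⁻¹, by rw [map_inv]; exact inv_eq_of_mul_eq_one_right e⟩ hτ
  rw [ho, List.mem_singleton] at hr hr'
  subst hr; subst hr'
  have heq : MulAut.conj k * φ = MulAut.conj l * τ := by
    refine MulEquiv.ext fun x => ?_
    have hd := MonoidHom.eq_of_eqOn_dense h.generated (f := (MulAut.conj k * φ).toMonoidHom)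
      (g := (MulAut.conj l * τ).toMonoidHom) (fun y hy => by
        rcases hy with rfl | rfl
        · exact ekA.trans elA.symm
        · exact Subtype.ext (ekB.symm.trans elB))
    exact DFunLike.congr_fun hd x
  refine ⟨k⁻¹ * l, ?_⟩
  rw [map_mul, map_inv]
  have : φ = (MulAut.conj k)⁻¹ * (MulAut.conj l * τ) := by rw [← heq]; group
  rw [this]; group

end OutData.Cert

end Cfsg.Agent.Lib.Golay
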