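import Cfsg.Agent.Lib.Golay.OuterDefs

/-! # The certificate for the group of the code -/

set_option autoImplicit false
set_option maxRecDepth 100000

namespace Cfsg.Agent.Lib.Golay

open Cfsg

theorem od24_pre : od24.Pre where
  card := by show Nat.card (stabM [] 0) = _; rw [stabM_nil, M24_card]; rfl
  prime := by decide +kernel
  ndvd := by decide +kernel
  gen := by decide +kernel
  cls := by decide +kernel
  rel := by decide +kernel
  span := by decide +kernel

end Cfsg.Agent.Lib.Golay
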