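import Cfsg.Agent.Lib.Golay.Outer

/-! # The data of the automorphism certificates -/

set_option autoImplicit false
set_option maxRecDepth 100000

namespace Cfsg.Agent.Lib.Golay

open Cfsg
open scoped Pointwise

/-- The data for the code's group. -/
def od24 : OutData :=
  { S := [], F := 0, p := 23, size := 244823040, a := o24A, b := o24B, P := o24Pow,
    Pi := o24PowInv, conjA := o24ConjA, R := o24Reps, rels := o24Rels, other := o24Other,
    centChain := o24CentChain, chain := o24Chain, prog := o24Prog, masks := o24Masks }

/-- The data for the point stabiliser. -/
def od23 : OutData :=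
  { S := [], F := 1 <<< 23, p := 23, size := 10200960, a := o23A, b := o23B, P := o23Pow,
    Pi := o23PowInv, conjA := o23ConjA, R := o23Reps, rels := o23Rels, other := o23Other,
    centChain := o23CentChain, chain := o23Chain, prog := o23Prog, masks := o23Masks }

/-- The data for the two-point stabiliser. -/
def od22 : OutData :=
  { S := [], F := 1 <<< 23 ||| 1, p := 11, size := 443520, a := o22A, b := o22B, P := o22Pow,
    Pi := o22PowInv, conjA := o22ConjA, R := o22Reps, rels := o22Rels, other := o22Other,
    centChain := o22CentChain, chain := o22Chain, prog := o22Prog, masks := o22Masks }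

/-- The data for the dodecad stabiliser. -/
def od12 : OutData :=
  { S := [d0], F := 0, p := 11, size := 95040, a := o12A, b := o12B, P := o12Pow,
    Pi := o12PowInv, conjA := o12ConjA, R := o12Reps, rels := o12Rels, other := o12Other,
    centChain := o12CentChain, chain := o12Chain, prog := o12Prog, masks := o12Masks }

/-- The data for the dodecad and point stabiliser. -/
def od11 : OutData :=
  { S := [d0], F := 1, p := 11, size := 7920, a := o11A, b := o11B, P := o11Pow,
    Pi := o11PowInv, conjA := o11ConjA, R := o11Reps, rels := o11Rels, other := o11Other,
    centChain := o11CentChain, chain := o11Chain, prog := o11Prog, masks := o11Masks }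

theorem stabM_nil : stabM [] 0 = M24 := by
  ext σ
  simp [mem_stabM, toSet_zero]

end Cfsg.Agent.Lib.Golay
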