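import Cfsg.Agent.Lib.Golay.OuterCert24
import Cfsg.Agent.Lib.Golay.Cent

/-! # Automorphism certificates of the five groups -/

set_option autoImplicit false
set_option maxRecDepth 100000

namespace Cfsg.Agent.Lib.Golay

open Cfsg
open scoped Pointwise

theorem od23_pre : od23.Pre where
  card := gM23_card
  prime := by decide +kernel
  ndvd := by decide +kernel
  gen := by decide +kernel
  cls := by decide +kernel
  rel := by decide +kernel
  span := by decide +kernel

theorem od22_pre : od22.Pre where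
  card := gM22_card
  prime := by decide +kernel
  ndvd := by decide +kernel
  gen := by decide +kernel
  cls := by decide +kernel
  rel := by decide +kernel
  span := by decide +kernel

theorem od12_pre : od12.Pre where
  card := gM12_card
  prime := by decide +kernel
  ndvd := by decide +kernel
  gen := by decide +kernel
  cls := by decide +kernel
  rel := by decide +kernel
  span := by decide +kernel

theorem od11_pre : od11.Pre where
  card := gM11_card
  prime := by decide +kernel
  ndvd := by decide +kernel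
  gen := by decide +kernel
  cls := by decide +kernel
  rel := by decide +kernel
  span := by decide +kernel

/-! ### Involutions of the smaller groups -/

/-- Facts about a listed Sylow 2-subgroup and the classes of its involutions. -/
def sylCheck (S : List ℕ) (F : ℕ) (k : ℕ) (C : List (List ℕ)) (gens : List ℕ)
    (L : List (ℕ × List ℕ)) (steps : List (ℕ × ℕ × ℕ)) (cj : List (ℕ × ℕ)) (reps : List ℕ) :
    Bool :=
  gens.all (inStab S F) && groupOK C gens && chainOK 0 L && (chainSize L == 2 ^ k) &&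
    (C.flatten.length == 2 ^ k) && chainInOK gens steps L &&
    ((C.flatten.filter fun p => powId 2 p && p != idCode) == cj.map Prod.fst) &&
    C.flatten.all valid && cj.all fun e => reps.any fun r => conjIn S F e.2 e.1 r

theorem sylCheck_spec {S : List ℕ} {F k : ℕ} {C : List (List ℕ)} {gens : List ℕ}
    {L : List (ℕ × List ℕ)} {steps : List (ℕ × ℕ × ℕ)} {cj : List (ℕ × ℕ)} {reps : List ℕ}
    (hchk : sylCheck S F k C gens L steps cj reps = true)
    (hd : 2 ^ k ∣ Nat.card (stabM S F)) (hn : ¬ 2 ^ (k + 1) ∣ Nat.card (stabM S F))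
    {g : Equiv.Perm GolayPt} (hg : g ∈ stabM S F) (ho : orderOf g = 2) :
    ∃ r ∈ reps, ∃ c ∈ stabM S F, c * g * c⁻¹ = toPerm r := by
  have : Fact (Nat.Prime 2) := ⟨Nat.prime_two⟩
  simp only [sylCheck, Bool.and_eq_true, beq_iff_eq, List.all_eq_true, List.any_eq_true] at hchk
  obtain ⟨⟨⟨⟨⟨⟨⟨⟨hgens, hgrp⟩, hok⟩, hsize⟩, hlen⟩, hin⟩, hlist⟩, hv⟩, hcj⟩ := hchk
  have hc : SylowCert (stabM S F) 2 k C gens L :=
    ⟨fun x hx => (inStab_spec (hgens x hx)).1, hgrp, hok, hsize, hlen, chainIn_spec hin, hd, hn⟩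
  have hgp : g ^ 2 = 1 := by rw [← ho]; exact pow_orderOf_eq_one g
  obtain ⟨h, hh, q, hq, he⟩ := hc.exists_conj hg (n := 1) (by rw [pow_one]; exact hgp)
  have hqp : toPerm q ^ 2 = 1 := by rw [he, conj_pow, hgp]; simp
  have hq1 : q ≠ idCode := by
    rintro rfl
    rw [toPerm_idCode] at he
    rw [conj_eq_one_iff.1 he.symm, orderOf_one] at ho
    omega
  have hmem : q ∈ cj.map Prod.fst := by
    rw [← hlist, List.mem_filter]
    exact ⟨hq, by simp [powId_of_pow (hv q hq) hqp, hq1]⟩
  obtain ⟨e, he', rfl⟩ := List.mem_map.1 hmem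
  obtain ⟨r, hr, hrc⟩ := hcj e he'
  obtain ⟨hcM, hce⟩ := conjIn_spec hrc
  refine ⟨r, hr, toPerm e.2 * h, mul_mem hcM hh, ?_⟩
  rw [← hce, he]
  group

theorem syl23_check : sylCheck [] (1 <<< 23) 7 o23Syl o23SylGens o23SylChain o23SylProg o23SylConj
    [o23B] = true := by decide +kernel

theorem syl22_check : sylCheck [] (1 <<< 23 ||| 1) 7 o22Syl o22SylGens o22SylChain o22SylProg
    o22SylConj [o22B] = true := by decide +kernel

theorem syl12_check : sylCheck [d0] 0 6 o12Syl o12SylGens o12SylChain o12SylProg o12SylConj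
    [o12B, o12Second] = true := by decide +kernel

theorem syl11_check : sylCheck [d0] 1 4 o11Syl o11SylGens o11SylChain o11SylProg o11SylConj
    [o11B] = true := by decide +kernel

theorem od23_cert : od23.Cert := by
  refine ⟨od23_pre, fun x hx ho _ => ?_⟩
  obtain ⟨r, hr, h⟩ := sylCheck_spec syl23_check (by rw [gM23_card]; decide +kernel)
    (by rw [gM23_card]; decide +kernel) hx ho
  rw [List.mem_singleton.1 hr] at h
  exact h

theorem od22_cert : od22.Cert := by
  refine ⟨od22_pre, fun x hx ho _ => ?_⟩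
  obtain ⟨r, hr, h⟩ := sylCheck_spec syl22_check (by rw [gM22_card]; decide +kernel)
    (by rw [gM22_card]; decide +kernel) hx ho
  rw [List.mem_singleton.1 hr] at h
  exact h

theorem od11_cert : od11.Cert := by
  refine ⟨od11_pre, fun x hx ho _ => ?_⟩
  obtain ⟨r, hr, h⟩ := sylCheck_spec syl11_check (by rw [gM11_card]; decide +kernel)
    (by rw [gM11_card]; decide +kernel) hx ho
  rw [List.mem_singleton.1 hr] at h
  exact h

theorem centIn_card_conj (D : OutData) {c x : Equiv.Perm GolayPt} (hc : c ∈ D.G) :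
    Nat.card (D.centIn (c * x * c⁻¹)) = Nat.card (D.centIn x) := by
  refine Nat.card_congr ?_
  exact
    { toFun := fun g => ⟨c⁻¹ * g.1 * c, mem_centIn.2
        ⟨mul_mem (mul_mem (inv_mem hc) (mem_centIn.1 g.2).1) hc, by
          have e := (mem_centIn.1 g.2).2
          calc c⁻¹ * g.1 * c * x = c⁻¹ * (g.1 * (c * x * c⁻¹)) * c := by group
            _ = x * (c⁻¹ * g.1 * c) := by rw [e]; group⟩⟩
      invFun := fun g => ⟨c * g.1 * c⁻¹, mem_centIn.2
        ⟨mul_mem (mul_mem hc (mem_centIn.1 g.2).1) (inv_mem hc), by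
          have e := (mem_centIn.1 g.2).2
          calc c * g.1 * c⁻¹ * (c * x * c⁻¹) = c * (g.1 * x) * c⁻¹ := by group
            _ = c * x * c⁻¹ * (c * g.1 * c⁻¹) := by rw [e]; group⟩⟩
      left_inv := fun g => Subtype.ext (by group)
      right_inv := fun g => Subtype.ext (by group) }

theorem second_chain : inStab [d0] 0 o12Second = true ∧ chainOK 0 o12SecondChain = true ∧
    o12SecondChain.all (fun e => e.2.all fun t =>
      inStab [d0] 0 t && commJ o12Second [o12Second] t) = true ∧
    chainSize o12SecondChain = 240 ∧ chainSize od12.centChain < 240 := by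
  refine ⟨?_, ?_, ?_, ?_, ?_⟩ <;> decide +kernel

theorem od12_cert : od12.Cert := by
  refine ⟨od12_pre, fun x hx ho hc => ?_⟩
  obtain ⟨r, hr, c, hcG, he⟩ := sylCheck_spec syl12_check (by rw [gM12_card]; decide +kernel)
    (by rw [gM12_card]; decide +kernel) hx ho
  simp only [List.mem_cons, List.not_mem_nil, or_false] at hr
  rcases hr with rfl | rfl
  · exact ⟨c, hcG, he⟩
  exfalso
  obtain ⟨hin, hok, hall, hsize, hlt⟩ := second_chain
  have hv := (inStab_spec hin).2
  have hlow := chain_lower (od12.centIn (toPerm o12Second)) o12SecondChain 0 hok fun e he t ht => by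
    have h := List.all_eq_true.1 (List.all_eq_true.1 hall e he) t ht
    simp only [Bool.and_eq_true] at h
    obtain ⟨hm, htv⟩ := inStab_spec h.1
    refine mem_centIn.2 ⟨hm, ?_⟩
    obtain ⟨j, hj, e⟩ := (commJ_iff hv htv (by simpa using hv)).1 h.2
    rw [List.mem_singleton.1 hj] at e
    exact e
  rw [fixIn_zero, hsize, ← he, centIn_card_conj od12 hcG, hc, od12_pre.class_facts.2] at hlow
  omega

theorem od24_cert : od24.Cert := by
  refine ⟨od24_pre, fun x hx ho hc => ?_⟩
  have hG : od24.G = M24 := stabM_nil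
  have hval : chainSize od24.centChain = 21504 := by decide +kernel
  rw [od24_pre.class_facts.2, hval] at hc
  rw [hG] at hx ⊢
  have hb : toPerm od24.b ∈ M24 := hG ▸ od24_pre.facts.1.2.2.1
  obtain ⟨c, hcM, ⟨-, he⟩ | ⟨-, he⟩⟩ := inv_classes hx ho
  · obtain ⟨d, hd, ⟨-, hde⟩ | ⟨h0, -⟩⟩ := inv_classes hb od24_pre.facts.2.2.2.2.2.1
    · exact conj_of_conj hcM hd he hde
    · exfalso
      have hv : valid od24.b = true := od24_pre.facts.1.2.2.2.2
      rw [fixedPts_toPerm hv, card_toSet] at h0
      exact absurd h0 (by decide +kernel)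
  · exfalso
    rw [← centIn_card_conj od24 (hG ▸ hcM), he] at hc
    have : od24.centIn (toPerm rep2B) = cent2B := by
      simp only [OutData.centIn, hG, cent2B]
    rw [this, cent2B_card] at hc
    omega

/-! ### Automorphisms from normalising elements -/

/-- Conjugation by an element normalising a subgroup. -/
def normAut {M : Type*} [Group M] (G : Subgroup M) (g : M) (h : ∀ x ∈ G, g * x * g⁻¹ ∈ G)
    (h' : ∀ x ∈ G, g⁻¹ * x * g ∈ G) : MulAut G where
  toFun x := ⟨g * x * g⁻¹, h x x.2⟩
  invFun x := ⟨g⁻¹ * x * g, h' x x.2⟩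
  left_inv x := Subtype.ext (by group)
  right_inv x := Subtype.ext (by group)
  map_mul' x y := Subtype.ext (by simp only [Subgroup.coe_mul]; group)

theorem normAut_notMem {M : Type*} [Group M] {G : Subgroup M} {g : M}
    {h : ∀ x ∈ G, g * x * g⁻¹ ∈ G} {h' : ∀ x ∈ G, g⁻¹ * x * g ∈ G}
    (hne : ¬ ∃ k ∈ G, ∀ x ∈ G, g * x * g⁻¹ = k * x * k⁻¹) : normAut G g h h' ∉ Inn G := by
  rintro ⟨k, hk⟩
  refine hne ⟨k, k.2, fun x hx => ?_⟩
  have := congrArg Subtype.val (DFunLike.congr_fun hk ⟨x, hx⟩)
  simpa [normAut] using this.symm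

end Cfsg.Agent.Lib.Golay
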