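import Cfsg.Agent.Lib.Golay.Classes

/-! # Certified searches for elements intertwining two given maps -/

set_option autoImplicit false
set_option maxRecDepth 100000

namespace Cfsg.Agent.Lib.Golay

open Cfsg
open scoped Pointwise

theorem img_pack : ∀ (L : List ℕ) (i : ℕ) (hi : i < L.length), (∀ a ∈ L, a < 32) →
    img (pack L) i = L[i]
  | [], i, hi, _ => absurd hi (Nat.not_lt_zero i)
  | a :: L, i, hi, h => by
    have ha : a < 32 := h a (by simp)
    have e : pack (a :: L) = a + pack L * 32 := by rw [pack, Nat.shiftLeft_eq]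
    have hmod : ∀ n, n &&& 31 = n % 32 := fun n => by
      rw [show (31 : ℕ) = 2 ^ 5 - 1 by norm_num, Nat.and_two_pow_sub_one_eq_mod]
    cases i with
    | zero =>
      simp only [img, Nat.mul_zero, Nat.shiftRight_zero, hmod, e, List.getElem_cons_zero]
      omega
    | succ i =>
      have ih := img_pack L i (by simpa using hi) fun b hb => h b (List.mem_cons_of_mem _ hb)
      rw [List.getElem_cons_succ, ← ih]
      simp only [img, e, Nat.mul_succ, Nat.add_comm (5 * i) 5, Nat.shiftRight_add]
      congr 2
      rw [Nat.shiftRight_eq_div_pow]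
      norm_num
      omega

theorem img_comp {p q i : ℕ} (hp : valid p = true) (hq : valid q = true) (hi : i < 24) :
    img (comp p q) i = img p (img q i) := by
  have hidx : idx = List.range 24 := by decide
  have hlen : (idx.map fun i => img p (img q i)).length = 24 := by simp [hidx]
  rw [comp, img_pack _ i (by rw [hlen]; exact hi) ?_]
  · simp [hidx]
  · intro a ha
    obtain ⟨j, hj, rfl⟩ := List.mem_map.1 ha
    have := img_lt hp (img_lt hq (mem_idx.1 hj))
    omega

theorem isComp_comp {p q : ℕ} (hp : valid p = true) (hq : valid q = true) :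
    isComp p q (comp p q) = true := by
  have hv : valid (comp p q) = true := by
    simp only [valid, beq_iff_eq]
    apply Nat.eq_of_testBit_eq
    intro j
    rw [Bool.eq_iff_iff, testBit_act]
    constructor
    · rintro ⟨i, hi, -, rfl⟩
      rw [img_comp hp hq hi]
      exact testBit_full _ (img_lt hp (img_lt hq hi))
    · intro hj
      have hj24 : j < 24 := by
        by_contra hc
        rw [Nat.testBit_lt_two_pow (lt_of_lt_of_le (by norm_num)
          (Nat.pow_le_pow_right (by norm_num : 0 < 2) (not_lt.1 hc)))] at hj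
        exact Bool.noConfusion hj
      obtain ⟨b, hb, hpb⟩ := valid_surj hp j hj24
      obtain ⟨i, hi, hqi⟩ := valid_surj hq b hb
      exact ⟨i, hi, testBit_full i hi, by rw [img_comp hp hq hi, hqi, hpb]⟩
  simp only [isComp, hp, hq, hv, Bool.and_eq_true, List.all_eq_true, beq_iff_eq, true_and]
  exact fun i hi => img_comp hp hq (mem_idx.1 hi)

theorem comp_spec {p q : ℕ} (hp : valid p = true) (hq : valid q = true) :
    valid (comp p q) = true ∧ toPerm (comp p q) = toPerm p * toPerm q := by
  have h := isComp_comp hp hq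
  refine ⟨?_, toPerm_isComp h⟩
  simp only [isComp, Bool.and_eq_true] at h
  exact h.1.2

/-- Images of the first base points are compatible with intertwining `s` and some member of `J`. -/
def relOK (s : ℕ) (J : List ℕ) (k p : ℕ) : Bool :=
  J.any fun j => (basePts.take (k + 1)).all fun a => (basePts.take (k + 1)).all fun b =>
    (img s a != b) || (img p b == img j (img p a))

/-- The map intertwines `s` with some member of `J`. -/
def commJ (s : ℕ) (J : List ℕ) (p : ℕ) : Bool :=
  J.any fun j => idx.all fun i => img p (img s i) == img j (img p i)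

/-- Depth-first search below a prefix. -/
def search (s : ℕ) (J : List ℕ) : ℕ → ℕ → ℕ → List ℕ
  | 0, _, p => if commJ s J p then [p] else []
  | n + 1, k, p => (transversals.getD k []).flatMap fun t =>
      if relOK s J k (comp p t) then search s J n (k + 1) (comp p t) else []

/-- `x` intertwines `s` with a member of `J`. -/
def Twines (s : ℕ) (J : List ℕ) (x : Equiv.Perm GolayPt) : Prop :=
  ∃ j ∈ J, x * toPerm s = toPerm j * x

theorem commJ_iff {s p : ℕ} {J : List ℕ} (hs : valid s = true) (hp : valid p = true)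
    (hJ : ∀ j ∈ J, valid j = true) : commJ s J p = true ↔ Twines s J (toPerm p) := by
  simp only [commJ, List.any_eq_true, List.all_eq_true, beq_iff_eq]
  refine exists_congr fun j => and_congr_right fun hj => ⟨fun h => ?_, fun h i hi => ?_⟩
  · ext x : 1
    have hi := mem_idx.2 (ix_lt x)
    rw [Equiv.Perm.mul_apply, Equiv.Perm.mul_apply, toPerm_apply hs,
      toPerm_pt hp (img_lt hs (ix_lt x)), h _ hi, toPerm_apply hp,
      toPerm_pt (hJ j hj) (img_lt hp (ix_lt x))]
  · have hi' := mem_idx.1 hi
    have := DFunLike.congr_fun h (pt i)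
    simp only [Equiv.Perm.mul_apply] at this
    rw [toPerm_pt hs hi', toPerm_pt hp (img_lt hs hi'), toPerm_pt hp hi',
      toPerm_pt (hJ j hj) (img_lt hp hi')] at this
    rw [← ix_pt (img_lt hp (img_lt hs hi')), this, ix_pt (img_lt (hJ j hj) (img_lt hp hi'))]

theorem relOK_of_twines {s p k : ℕ} {J : List ℕ} (hs : valid s = true) (hp : valid p = true)
    (hJ : ∀ j ∈ J, valid j = true) (hk : k < 7) {y : Equiv.Perm GolayPt} (hy : y ∈ level (k + 1))
    (h : Twines s J (toPerm p * y)) : relOK s J k p = true := by
  obtain ⟨j, hj, he⟩ := h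
  simp only [relOK, List.any_eq_true, List.all_eq_true, Bool.or_eq_true, bne_iff_ne, ne_eq,
    beq_iff_eq]
  refine ⟨j, hj, fun a ha b hb => ?_⟩
  by_cases hab : img s a = b
  swap
  · exact Or.inl hab
  refine Or.inr ?_
  have hlt : ∀ i ∈ basePts.take (k + 1), i < 24 := by
    intro i hi
    have : ∀ i ∈ basePts, i < 24 := by decide
    exact this i (List.mem_of_mem_take hi)
  have hfix : ∀ i ∈ basePts.take (k + 1), y (pt i) = pt i := by
    intro i hi
    refine (mem_level.1 hy).2 _ ?_
    rw [mem_toSet, baseMask, testBit_keySet]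
    exact ⟨i, hi, (ix_pt (hlt i hi)).symm⟩
  have := DFunLike.congr_fun he (pt a)
  simp only [Equiv.Perm.mul_apply] at this
  rw [toPerm_pt hs (hlt a ha), hab, hfix a ha, hfix b hb, toPerm_pt hp (hlt b hb),
    toPerm_pt hp (hlt a ha), toPerm_pt (hJ j hj) (img_lt hp (hlt a ha))] at this
  rw [← ix_pt (img_lt hp (hlt b hb)), this, ix_pt (img_lt (hJ j hj) (img_lt hp (hlt a ha)))]

theorem search_complete {s : ℕ} {J : List ℕ} (hs : valid s = true) (hJ : ∀ j ∈ J, valid j = true) :
    ∀ (n k : ℕ), k + n = 7 → ∀ p, valid p = true → ∀ y ∈ level k, Twines s J (toPerm p * y) →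
      ∃ q ∈ search s J n k p, toPerm p * y = toPerm q
  | 0, k, hk, p, hp, y, hy, h => by
    have hk7 : k = 7 := by omega
    subst hk7
    rw [level_seven, Subgroup.mem_bot] at hy
    subst hy
    rw [mul_one] at h ⊢
    exact ⟨p, by simp [search, (commJ_iff hs hp hJ).2 h], rfl⟩
  | n + 1, k, hk, p, hp, y, hy, h => by
    have hk7 : k < 7 := by omega
    have hlt : ∀ k < 7, basePts.getD k 0 < 24 := by decide
    have horb := level_orbit hk7 hy
    rw [mem_toSet, levelOrbit, testBit_keySet] at horb
    obtain ⟨t, ht, hte⟩ := horb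
    obtain ⟨ht1, htv⟩ := transversal_mem hk7 ht
    have htb : toPerm t (pt (basePts.getD k 0)) = y (pt (basePts.getD k 0)) := by
      rw [toPerm_pt htv (hlt k hk7), hte, pt_ix]
    have hy' : (toPerm t)⁻¹ * y ∈ level (k + 1) := by
      rw [← level_succ k hk7]
      refine Subgroup.mem_inf.2 ⟨mul_mem (inv_mem ht1.1) hy, ?_⟩
      rw [MulAction.mem_stabilizer_iff, mul_smul, inv_smul_eq_iff]
      exact htb.symm
    obtain ⟨hcv, hce⟩ := comp_spec hp htv
    have e : toPerm (comp p t) * ((toPerm t)⁻¹ * y) = toPerm p * y := by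
      rw [hce]; group
    have h' : Twines s J (toPerm (comp p t) * ((toPerm t)⁻¹ * y)) := by rw [e]; exact h
    obtain ⟨q, hq, hqe⟩ := search_complete hs hJ n (k + 1) (by omega) _ hcv _ hy' h'
    refine ⟨q, ?_, e.symm.trans hqe⟩
    rw [search, List.mem_flatMap]
    exact ⟨t, ht, by rw [if_pos (relOK_of_twines hs hcv hJ hk7 hy' h')]; exact hq⟩

/-- No repetition. -/
def distinct : List ℕ → Bool
  | [] => true
  | a :: L => !L.elem a && distinct L

theorem nodup_of_distinct : ∀ {L : List ℕ}, distinct L = true → L.Nodup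
  | [], _ => List.nodup_nil
  | a :: L, h => by
    simp only [distinct, Bool.and_eq_true, Bool.not_eq_true', List.elem_eq_mem,
      decide_eq_false_iff_not] at h
    exact List.nodup_cons.2 ⟨h.1, nodup_of_distinct h.2⟩

/-- Distinct canonically coded permutations. -/
def codedOK (L : List ℕ) : Bool :=
  distinct L && L.all fun p => valid p && (pack (idx.map (img p)) == p)

theorem codedOK_inj {L : List ℕ} (h : codedOK L = true) {p q : ℕ} (hp : p ∈ L) (hq : q ∈ L)
    (he : toPerm p = toPerm q) : p = q := by
  simp only [codedOK, Bool.and_eq_true, List.all_eq_true, beq_iff_eq] at h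
  obtain ⟨hpv, hpp⟩ := h.2 p hp
  obtain ⟨hqv, hqq⟩ := h.2 q hq
  refine hpp.symm.trans (Eq.trans (congrArg pack (List.map_congr_left fun i hi => ?_)) hqq)
  have hi' := mem_idx.1 hi
  have := DFunLike.congr_fun he (pt i)
  rw [toPerm_pt hpv hi', toPerm_pt hqv hi'] at this
  rw [← ix_pt (img_lt hpv hi'), this, ix_pt (img_lt hqv hi')]

theorem ncard_coded {L : List ℕ} (h : codedOK L = true) {S : Set (Equiv.Perm GolayPt)}
    (hS : ∀ x, x ∈ S ↔ ∃ p ∈ L, toPerm p = x) : S.ncard = L.length := by
  have e : S = ↑(L.toFinset.image toPerm) := by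
    ext x
    simp only [hS, Finset.coe_image, Set.mem_image, List.coe_toFinset, Set.mem_ofPred_eq]
  rw [e, Set.ncard_coe_finset, Finset.card_image_of_injOn]
  · refine List.toFinset_card_of_nodup ?_
    simp only [codedOK, Bool.and_eq_true] at h
    exact nodup_of_distinct h.1
  · intro p hp q hq he
    exact codedOK_inj h (by simpa using hp) (by simpa using hq) he

/-- The search returns exactly the listed elements, which form a certified list. -/
theorem search_exact {s : ℕ} {J : List ℕ} (hs : valid s = true) (hJ : ∀ j ∈ J, valid j = true)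
    {n k : ℕ} (hk : k + n = 7) {L : List ℕ} (hL : search s J n k idCode = L)
    (hin : L.all (fun p => inM24 p && fixesMask (baseMask k) p && commJ s J p) = true)
    (x : Equiv.Perm GolayPt) :
    x ∈ level k ∧ Twines s J x ↔ ∃ p ∈ L, toPerm p = x := by
  constructor
  · rintro ⟨hx, ht⟩
    have hid : valid idCode = true := by decide
    obtain ⟨q, hq, he⟩ := search_complete hs hJ n k hk idCode hid x hx
      (by rw [toPerm_idCode, one_mul]; exact ht)
    rw [toPerm_idCode, one_mul] at he
    exact ⟨q, hL ▸ hq, he.symm⟩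
  · rintro ⟨p, hp, rfl⟩
    have := List.all_eq_true.1 hin p hp
    simp only [Bool.and_eq_true] at this
    have hv := valid_of_inM24 this.1.1
    exact ⟨mem_level.2 ⟨toPerm_mem_M24 this.1.1, fun q hq => fixesMask_spec hv this.1.2 hq⟩,
      (commJ_iff hs hv hJ).1 this.2⟩

end Cfsg.Agent.Lib.Golay
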