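import Cfsg.Agent.Lib.Golay.OctadFix

/-! # Six-element subsets and the complement in an octad stabiliser -/

set_option autoImplicit false
set_option maxRecDepth 100000

namespace Cfsg.Agent.Lib.Golay

open Cfsg
open scoped Pointwise

theorem ptFix_conj_card {σ : Equiv.Perm GolayPt} (hσ : σ ∈ M24) (E : Finset GolayPt) :
    Nat.card (ptFix (σ • E)) = Nat.card (ptFix E) :=
  (Nat.card_congr (conjEquiv σ (fun g => by
    rw [ptFix_conj hσ]; simp [mul_assoc])).toEquiv).symm

theorem fix_octad_of_five {g : Equiv.Perm GolayPt} (hg : g ∈ M24) {o : Finset GolayPt}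
    (ho : o ∈ octads) {s : Finset GolayPt} (hs : s ⊆ o) (h5 : 5 ≤ s.card)
    (hfix : g • s = s) : g • o = o := by
  refine octad_eq_of_five (smul_mem_octads hg ho) ho (h5.trans ?_)
  refine Finset.card_le_card (Finset.subset_inter ?_ hs)
  rw [← hfix]; exact Finset.smul_finset_subset_smul_finset hs

theorem smul_eq_of_fix {g : Equiv.Perm GolayPt} {s : Finset GolayPt} (h : ∀ p ∈ s, g p = p) :
    g • s = s := by
  refine Finset.eq_of_subset_of_card_le ?_ (by rw [Finset.card_smul_finset])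
  intro x hx
  obtain ⟨y, hy, rfl⟩ := Finset.mem_smul_finset.1 hx
  rwa [Equiv.Perm.smul_def, h y hy]

theorem smul_eq_of_mapsTo {g : Equiv.Perm GolayPt} {s : Finset GolayPt} (h : ∀ p ∈ s, g p ∈ s) :
    g • s = s := by
  refine Finset.eq_of_subset_of_card_le ?_ (by rw [Finset.card_smul_finset])
  intro x hx
  obtain ⟨y, hy, rfl⟩ := Finset.mem_smul_finset.1 hx
  exact h y hy

theorem octad_through_five {s : Finset GolayPt} (hs : s.card = 5) : ∃ o ∈ octads, s ⊆ o := by
  obtain ⟨o, ⟨ho, hso⟩, -⟩ := octads_steiner.2 s hs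
  exact ⟨o, ho, hso⟩

/-- The pointwise stabiliser of five points has order 48. -/
theorem five_card {s : Finset GolayPt} (hs : s.card = 5) : Nat.card (ptFix s) = 48 := by
  let x : Fin 5 → GolayPt := fun i => (s.equivFin.symm (i.cast hs.symm)).1
  have hx : Function.Injective x := fun i j h =>
    Fin.ext (by simpa using congrArg Fin.val (s.equivFin.symm.injective (Subtype.ext h)))
  have h := card_eq_orbit_mul M24 x {f | Function.Injective f}
    (fun σ _ i j hij => hx (σ.injective hij))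
    (fun f hf => by
      obtain ⟨σ, hσ, he⟩ := exists_M24_map le_rfl x f hx hf
      exact ⟨σ, hσ, funext he⟩)
  have hc : {f : Fin 5 → GolayPt | Function.Injective f}.ncard = 5100480 := by
    rw [← Nat.card_coe_set_eq]
    change Nat.card {f : Fin 5 → GolayPt // Function.Injective f} = _
    rw [Nat.card_congr (Equiv.subtypeInjectiveEquivEmbedding (Fin 5) GolayPt),
      Nat.card_eq_fintype_card, Fintype.card_embedding_eq,
      show Fintype.card GolayPt = 24 from rfl, Fintype.card_fin]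
    rfl
  have he : M24 ⊓ MulAction.stabilizer (Equiv.Perm GolayPt) x = ptFix s := by
    ext g
    rw [Subgroup.mem_inf, MulAction.mem_stabilizer_iff, mem_ptFix]
    refine and_congr_right fun _ => ⟨fun h p hp => ?_, fun h => funext fun i => h _ (Finset.coe_mem _)⟩
    have := congrFun h ((s.equivFin ⟨p, hp⟩).cast hs)
    simpa [x] using this
  rw [M24_card, hc, he] at h
  omega

/-- Extension of a permutation of part of a set to an even one of the whole set. -/
theorem exists_even_extend {o E : Finset GolayPt} (hE : E ⊆ o) (h2 : 2 ≤ (o \ E).card)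
    (σ : Equiv.Perm E) :
    ∃ e ∈ alternatingGroup o, ∀ x : E, (e ⟨x, hE x.2⟩ : GolayPt) = σ x := by
  classical
  let f : E ≃ {x : o // (x : GolayPt) ∈ E} :=
    { toFun := fun x => ⟨⟨x, hE x.2⟩, x.2⟩
      invFun := fun x => ⟨(x : o), x.2⟩
      left_inv := fun _ => rfl
      right_inv := fun _ => rfl }
  let e0 : Equiv.Perm o := σ.extendDomain f
  have hval : ∀ x : E, (e0 ⟨x, hE x.2⟩ : GolayPt) = σ x := fun x => by
    show ((σ.extendDomain f) ((f x : {x : o // (x : GolayPt) ∈ E}) : o) : GolayPt) = _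
    rw [Equiv.Perm.extendDomain_apply_image]
    rfl
  rcases Int.units_eq_one_or (Equiv.Perm.sign e0) with h | h
  · exact ⟨e0, h, hval⟩
  · obtain ⟨a, ha, b, hb, hab⟩ := Finset.one_lt_card.1 h2
    obtain ⟨hao, haE⟩ := Finset.mem_sdiff.1 ha
    obtain ⟨hbo, hbE⟩ := Finset.mem_sdiff.1 hb
    let a' : o := ⟨a, hao⟩
    let b' : o := ⟨b, hbo⟩
    refine ⟨e0 * Equiv.swap a' b', ?_, fun x => ?_⟩
    · rw [Equiv.Perm.mem_alternatingGroup, map_mul, h,
        Equiv.Perm.sign_swap (fun h => hab (congrArg Subtype.val h))]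
      rfl
    · rw [Equiv.Perm.mul_apply, Equiv.swap_apply_of_ne_of_ne, hval]
      · intro h
        have h' : (x : GolayPt) = a := congrArg Subtype.val h
        exact haE (by rw [← h']; exact x.2)
      · intro h
        have h' : (x : GolayPt) = b := congrArg Subtype.val h
        exact hbE (by rw [← h']; exact x.2)

theorem six_in_octad_induce {o E : Finset GolayPt} (ho : o ∈ octads) (hE : E ⊆ o)
    (hc : E.card ≤ 6) (σ : Equiv.Perm E) : ∃ g ∈ M24, ∀ x : E, g x = σ x := by
  obtain ⟨e, he, hx⟩ := exists_even_extend hE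
    (by rw [Finset.card_sdiff_of_subset hE, octads_card ho]; omega) σ
  obtain ⟨g, hg, -, hgx⟩ := octad_induce ho he
  exact ⟨g, hg, fun x => by rw [← hx x]; exact hgx ⟨x, hE x.2⟩⟩

theorem six_in_octad_fix {o E : Finset GolayPt} (ho : o ∈ octads) (hE : E ⊆ o)
    (hc : E.card = 6) : ptFix E = ptFix o := by
  refine le_antisymm (fun g hg => ?_) fun g hg => ?_
  · obtain ⟨h1, h2⟩ := mem_ptFix.1 hg
    have hgo : g • o = o := fix_octad_of_five h1 ho hE (by omega) (smul_eq_of_fix h2)
    let e := restrHom o ⟨g, h1, hgo⟩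
    have hev : e ∈ alternatingGroup o := octad_range ho ▸ ⟨_, rfl⟩
    have hsupp : e.support ⊆ Finset.univ.filter fun x : o => (x : GolayPt) ∉ E := by
      intro x hx
      rw [Finset.mem_filter]
      exact ⟨Finset.mem_univ _, fun hxE => Equiv.Perm.mem_support.1 hx (Subtype.ext (h2 _ hxE))⟩
    have hle : e.support.card ≤ 2 := by
      refine (Finset.card_le_card hsupp).trans ?_
      rw [← Finset.card_map (Function.Embedding.subtype _)]
      refine (Finset.card_le_card (t := o \ E) ?_).trans ?_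
      · intro x hx
        simp only [Finset.mem_map, Finset.mem_filter, Function.Embedding.subtype_apply] at hx
        obtain ⟨y, ⟨-, hy⟩, rfl⟩ := hx
        exact Finset.mem_sdiff.2 ⟨y.2, hy⟩
      · rw [Finset.card_sdiff_of_subset hE, octads_card ho, hc]
    have he1 : e = 1 := by
      rcases Nat.lt_or_ge e.support.card 2 with h | h
      · rw [← Equiv.Perm.support_eq_empty_iff, ← Finset.card_eq_zero]
        have := e.card_support_ne_one
        omega
      · have hswap : e.IsSwap := Equiv.Perm.card_support_eq_two.1 (le_antisymm hle h)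
        rw [Equiv.Perm.mem_alternatingGroup, hswap.sign_eq] at hev
        exact absurd hev (by decide)
    refine mem_ptFix.2 ⟨h1, fun p hp => ?_⟩
    exact congrArg Subtype.val (DFunLike.congr_fun he1 (⟨p, hp⟩ : o))
  · obtain ⟨h1, h2⟩ := mem_ptFix.1 hg
    exact mem_ptFix.2 ⟨h1, fun p hp => h2 p (hE hp)⟩

theorem six_split {E : Finset GolayPt} (hE : E.card = 6) (hno : ¬ ∃ o ∈ octads, E ⊆ o) :
    ∀ x ∈ E, ∃ o ∈ octads, E.erase x ⊆ o ∧ x ∉ o := by
  intro x hx
  obtain ⟨o, ho, hs⟩ := octad_through_five (s := E.erase x) (by rw [Finset.card_erase_of_mem hx, hE])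
  refine ⟨o, ho, hs, fun hxo => hno ⟨o, ho, fun y hy => ?_⟩⟩
  by_cases h : y = x
  · exact h ▸ hxo
  · exact hs (Finset.mem_erase.2 ⟨h, hy⟩)

/-- The pointwise stabiliser of six points off all octads has order 3. -/
theorem six_out_fix {E : Finset GolayPt} (hE : E.card = 6) (hno : ¬ ∃ o ∈ octads, E ⊆ o) :
    Nat.card (ptFix E) = 3 := by
  obtain ⟨x, hx⟩ := Finset.card_pos.1 (by omega : 0 < E.card)
  obtain ⟨o, ho, hs, hxo⟩ := six_split hE hno x hx
  set s := E.erase x with hsdef
  have hs5 : s.card = 5 := by rw [hsdef, Finset.card_erase_of_mem hx, hE]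
  obtain ⟨htr, -, -⟩ := octFix_facts ho
  have h := card_eq_orbit_mul (ptFix s) x {q | q ∉ o}
    (fun n hn hm => by
      have hno' := fix_octad_of_five (mem_ptFix.1 hn).1 ho hs (by omega)
        (smul_eq_of_fix (mem_ptFix.1 hn).2)
      exact hxo ((smul_mem_iff_of_fix hno' x).1 hm))
    (fun q hq => by
      obtain ⟨n, hn, he⟩ := htr x q hxo hq
      exact ⟨n, mem_ptFix.2 ⟨(mem_ptFix.1 hn).1, fun p hp => (mem_ptFix.1 hn).2 p (hs hp)⟩, he⟩)
  have heq : ptFix s ⊓ MulAction.stabilizer (Equiv.Perm GolayPt) x = ptFix E := by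
    ext g
    rw [Subgroup.mem_inf, mem_ptFix, mem_ptFix]
    simp only [MulAction.mem_stabilizer_iff, Equiv.Perm.smul_def]
    simp only [hsdef, Finset.mem_erase]
    constructor
    · rintro ⟨⟨h1, h2⟩, h3⟩
      exact ⟨h1, fun p hp => if h : p = x then h ▸ h3 else h2 p ⟨h, hp⟩⟩
    · rintro ⟨h1, h2⟩
      exact ⟨⟨h1, fun p hp => h2 p hp.2⟩, h2 x hx⟩
  have hc : {q : GolayPt | q ∉ o}.ncard = 16 := by
    rw [show {q : GolayPt | q ∉ o} = ((o : Set GolayPt))ᶜ from rfl, Set.ncard_compl,
      Set.ncard_coe_finset, octads_card ho, Nat.card_eq_fintype_card]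
    rfl
  rw [five_card hs5, hc, heq] at h
  omega

theorem six_out_induce {E : Finset GolayPt} (hE : E.card = 6) (hno : ¬ ∃ o ∈ octads, E ⊆ o)
    (σ : Equiv.Perm E) : ∃ g ∈ M24, ∀ p : E, g p = σ p := by
  obtain ⟨x, hx⟩ := Finset.card_pos.1 (by omega : 0 < E.card)
  obtain ⟨o, ho, hs, hxo⟩ := six_split hE hno x hx
  set y : GolayPt := (σ ⟨x, hx⟩).1 with hy
  obtain ⟨o', ho', hs', hyo⟩ := six_split hE hno y (σ ⟨x, hx⟩).2
  have h5 : (E.erase x).card = 5 := by rw [Finset.card_erase_of_mem hx, hE]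
  let u : Fin 5 → GolayPt := fun i => ((E.erase x).equivFin.symm (i.cast h5.symm)).1
  have hu : ∀ i, u i ∈ E ∧ u i ≠ x := fun i =>
    have h := Finset.coe_mem ((E.erase x).equivFin.symm (i.cast h5.symm))
    ⟨(Finset.mem_erase.1 h).2, (Finset.mem_erase.1 h).1⟩
  have hinj : Function.Injective u := fun i j h =>
    Fin.ext (by simpa using congrArg Fin.val ((E.erase x).equivFin.symm.injective (Subtype.ext h)))
  let v : Fin 5 → GolayPt := fun i => (σ ⟨u i, (hu i).1⟩).1
  have hvinj : Function.Injective v := fun i j h =>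
    by
    have e : (⟨u i, (hu i).1⟩ : E) = ⟨u j, (hu j).1⟩ := σ.injective (Subtype.ext h)
    exact hinj (congrArg (fun z : E => (z : GolayPt)) e)
  obtain ⟨g0, hg0, he0⟩ := exists_M24_map le_rfl u v hinj hvinj
  have hsurj : ∀ p ∈ E.erase x, ∃ i, u i = p := fun p hp =>
    ⟨((E.erase x).equivFin ⟨p, hp⟩).cast h5, by simp [u]⟩
  have hval : ∀ p : E, (p : GolayPt) ≠ x → g0 p = σ p := by
    intro p hp
    obtain ⟨i, hi⟩ := hsurj p (Finset.mem_erase.2 ⟨hp, p.2⟩)
    rw [← hi, he0 i]
    exact congrArg Subtype.val (congrArg σ (Subtype.ext hi))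
  have hmaps : ∀ p ∈ E.erase x, g0 p ∈ o' := by
    intro p hp
    obtain ⟨i, rfl⟩ := hsurj p hp
    rw [he0 i]
    refine hs' (Finset.mem_erase.2 ⟨fun h => (hu i).2 ?_, Finset.coe_mem _⟩)
    exact congrArg Subtype.val (σ.injective (Subtype.ext h) : (⟨u i, (hu i).1⟩ : E) = ⟨x, hx⟩)
  have hoct : g0 • o = o' := by
    refine octad_eq_of_five (smul_mem_octads hg0 ho) ho' ?_
    rw [← h5, ← Finset.card_smul_finset g0]
    refine Finset.card_le_card (Finset.subset_inter (Finset.smul_finset_subset_smul_finset hs) ?_)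
    intro q hq
    obtain ⟨p, hp, rfl⟩ := Finset.mem_smul_finset.1 hq
    exact hmaps p hp
  have hgx : g0 x ∉ o' := by
    rw [← hoct]
    exact fun h => hxo ((Finset.smul_mem_smul_finset_iff g0).1 h)
  obtain ⟨n, hn, hne⟩ := (octFix_facts ho').1 _ y hgx hyo
  refine ⟨n * g0, mul_mem (mem_ptFix.1 hn).1 hg0, fun p => ?_⟩
  rw [Equiv.Perm.mul_apply]
  by_cases hp : (p : GolayPt) = x
  · obtain rfl : p = ⟨x, hx⟩ := Subtype.ext hp
    exact hne
  · rw [hval p hp]
    refine (mem_ptFix.1 hn).2 _ ?_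
    rw [← hval p hp]
    exact hmaps p (Finset.mem_erase.2 ⟨hp, p.2⟩)

theorem six_induce {E : Finset GolayPt} (hE : E.card = 6) (σ : Equiv.Perm E) :
    ∃ g ∈ M24, ∀ p : E, g p = σ p := by
  by_cases h : ∃ o ∈ octads, E ⊆ o
  · obtain ⟨o, ho, hs⟩ := h
    exact six_in_octad_induce ho hs hE.le σ
  · exact six_out_induce hE h σ

theorem six_out_stab {E : Finset GolayPt} (hE : E.card = 6) (hno : ¬ ∃ o ∈ octads, E ⊆ o) :
    Nat.card (stSet E) = 2160 := by
  rw [← restrHom_range_card, six_out_fix hE hno]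
  have : (restrHom E).range = ⊤ := by
    rw [eq_top_iff]
    intro σ _
    obtain ⟨g, hg, he⟩ := six_induce hE σ
    exact ⟨⟨g, hg, smul_eq_of_mapsTo fun p hp => by rw [he ⟨p, hp⟩]; exact Finset.coe_mem _⟩,
      Equiv.ext fun x => Subtype.ext (he x)⟩
  rw [this, Subgroup.card_top, Nat.card_perm, Nat.card_eq_fintype_card (α := ↥E), Fintype.card_coe,
    hE]
  rfl

/-- The complement to the pointwise stabiliser in an octad stabiliser. -/
noncomputable def octPtEquiv {o : Finset GolayPt} (ho : o ∈ octads) {p : GolayPt} (hp : p ∉ o) :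
    ↥(stSetPt o p) ≃* alternatingGroup o :=
  MulEquiv.ofBijective
    (((restrHom o).comp (Subgroup.inclusion (inf_le_left : stSetPt o p ≤ stSet o))).codRestrict
      (alternatingGroup o) fun g => octad_range ho ▸ ⟨_, rfl⟩)
    (by
      constructor
      · intro a b hab
        have hab' := congrArg Subtype.val hab
        refine Subtype.ext ?_
        have hmem : (a : Equiv.Perm GolayPt)⁻¹ * b ∈ ptFix o := by
          refine mem_ptFix.2 ⟨mul_mem (inv_mem a.2.1.1) b.2.1.1, fun q hq => ?_⟩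
          have := congrArg Subtype.val (DFunLike.congr_fun hab' (⟨q, hq⟩ : o))
          change (a : Equiv.Perm GolayPt) q = (b : Equiv.Perm GolayPt) q at this
          simp [← this]
        have hfix : ((a : Equiv.Perm GolayPt)⁻¹ * b) p = p := by
          have ha : (a : Equiv.Perm GolayPt) p = p := a.2.2
          have hb : (b : Equiv.Perm GolayPt) p = p := b.2.2
          rw [Equiv.Perm.mul_apply, hb, Equiv.Perm.inv_eq_iff_eq]
          exact ha.symm
        exact inv_mul_eq_one.1 ((octFix_facts ho).2.1 _ hmem p hp hfix)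
      · intro e
        obtain ⟨g, hg, hgo, hgx⟩ := octad_induce ho e.2
        have hgp : g p ∉ o := fun h => hp ((smul_mem_iff_of_fix hgo p).1 h)
        obtain ⟨n, hn, hne⟩ := (octFix_facts ho).1 _ p hgp hp
        refine ⟨⟨n * g, ⟨⟨mul_mem (mem_ptFix.1 hn).1 hg, ?_⟩, ?_⟩⟩, ?_⟩
        · show (n * g) • o = o
          rw [mul_smul, hgo]; exact (stSet_of_ptFix hn).2
        · exact hne
        · refine Subtype.ext (Equiv.ext fun x => Subtype.ext ?_)
          show n (g x) = _
          rw [hgx x]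
          exact (mem_ptFix.1 hn).2 _ (Finset.coe_mem _))

theorem exists_fix_six (B : Finset GolayPt) (hB : B.card ≤ 6) :
    ∃ g ∈ M24, g ≠ 1 ∧ ∀ b ∈ B, g b = b := by
  obtain ⟨E, hBE, hE⟩ := Finset.exists_superset_card_eq hB (by decide : 6 ≤ Fintype.card GolayPt)
  have hcard : 1 < Nat.card (ptFix E) := by
    by_cases h : ∃ o ∈ octads, E ⊆ o
    · obtain ⟨o, ho, hs⟩ := h
      rw [six_in_octad_fix ho hs hE, octFix_card ho]; norm_num
    · rw [six_out_fix hE h]; norm_num
  have := Finite.one_lt_card_iff_nontrivial.1 hcard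
  obtain ⟨g, hg⟩ := exists_ne (1 : ptFix E)
  exact ⟨g, g.2.1, fun h => hg (Subtype.ext h), fun b hb => (mem_ptFix.1 g.2).2 b (hBE hb)⟩

end Cfsg.Agent.Lib.Golay
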