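import Cfsg.Prelude.Def_SporadicCombinatorics

/-! # Signed transversals for the automorphisms of the ternary code of length twelve -/

set_option autoImplicit false

namespace Cfsg.Agent.Lib.Golay

/-- For each level, permutations fixing the earlier points with signs. -/
def ternLevels : List (List (List ℕ × List ℕ)) :=
  [[([0,1,2,3,4,5,6,7,8,9,10,11], [1,1,1,1,1,1,1,1,1,1,1,1]),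
    ([1,0,2,3,4,5,11,9,10,7,8,6], [1,1,1,1,1,1,1,1,1,1,1,1]),
    ([2,0,1,3,4,5,8,6,7,10,11,9], [1,1,1,1,1,1,1,1,1,1,1,1]),
    ([3,0,1,2,4,5,10,7,6,8,9,11], [1,1,2,2,1,1,2,2,1,2,1,2]),
    ([4,0,1,2,3,5,6,9,10,11,7,8], [1,1,2,1,2,1,1,2,2,2,2,1]),
    ([5,0,1,2,3,4,9,6,8,7,11,10], [1,1,2,1,1,2,2,1,2,1,2,2]),
    ([6,0,1,2,3,9,5,4,7,10,8,11], [1,2,1,1,2,1,2,2,2,1,1,2]),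
    ([7,0,1,2,3,11,10,8,9,4,5,6], [1,2,2,2,2,1,1,1,1,1,2,2]),
    ([8,0,1,2,3,10,7,11,4,6,9,5], [1,1,1,2,1,1,2,2,1,1,2,1]),
    ([9,0,1,2,3,6,4,5,11,8,10,7], [1,2,1,1,1,2,1,2,1,2,2,2]),
    ([10,0,1,2,3,8,11,7,5,9,6,4], [1,1,1,2,1,1,1,1,2,2,1,2]),
    ([11,0,1,2,3,7,8,10,6,5,4,9], [1,2,2,2,1,2,1,2,2,1,1,1])],
   [([0,1,2,3,4,5,6,7,8,9,10,11], [1,1,1,1,1,1,1,1,1,1,1,1]),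
    ([0,2,1,3,4,5,9,10,11,6,7,8], [1,1,1,1,1,1,1,1,1,1,1,1]),
    ([0,3,1,2,4,5,11,8,9,7,6,10], [1,1,2,2,1,1,2,2,1,2,1,2]),
    ([0,4,1,2,3,5,8,11,7,9,10,6], [1,1,2,1,2,1,1,2,2,2,2,1]),
    ([0,5,1,2,3,4,10,7,11,6,8,9], [1,1,2,1,1,2,2,1,2,1,2,2]),
    ([0,6,1,2,3,9,11,10,8,4,7,5], [1,2,1,1,2,1,2,2,2,1,1,2]),
    ([0,7,1,2,3,11,6,4,5,8,9,10], [1,2,2,2,2,1,1,1,1,1,2,2]),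
    ([0,8,1,2,3,10,5,6,9,11,4,7], [1,1,1,2,1,1,2,2,1,1,2,1]),
    ([0,9,1,2,3,6,7,8,10,5,11,4], [1,2,1,1,1,2,1,2,1,2,2,2]),
    ([0,10,1,2,3,8,4,9,6,7,5,11], [1,1,1,2,1,1,1,1,2,2,1,2]),
    ([0,11,1,2,3,7,9,5,4,10,6,8], [1,2,2,2,1,2,1,2,2,1,1,1])],
   [([0,1,2,3,4,5,6,7,8,9,10,11], [1,1,1,1,1,1,1,1,1,1,1,1]),
    ([0,1,3,2,4,5,7,6,10,11,8,9], [1,1,2,2,1,1,2,2,1,2,1,2]),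
    ([0,1,4,2,3,5,9,10,6,8,11,7], [1,1,2,1,2,1,1,2,2,2,2,1]),
    ([0,1,5,2,3,4,6,8,9,10,7,11], [1,1,2,1,1,2,2,1,2,1,2,2]),
    ([0,1,6,2,3,9,4,7,5,11,10,8], [1,2,1,1,2,1,2,2,2,1,1,2]),
    ([0,1,7,2,3,11,8,9,10,6,4,5], [1,2,2,2,2,1,1,1,1,1,2,2]),
    ([0,1,8,2,3,10,11,4,7,5,6,9], [1,1,1,2,1,1,2,2,1,1,2,1]),
    ([0,1,9,2,3,6,5,11,4,7,8,10], [1,2,1,1,1,2,1,2,1,2,2,2]),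
    ([0,1,10,2,3,8,7,5,11,4,9,6], [1,1,1,2,1,1,1,1,2,2,1,2]),
    ([0,1,11,2,3,7,10,6,8,9,5,4], [1,2,2,2,1,2,1,2,2,1,1,1])],
   [([0,1,2,3,4,5,6,7,8,9,10,11], [1,1,1,1,1,1,1,1,1,1,1,1]),
    ([0,1,2,4,3,5,10,9,11,7,6,8], [1,1,1,1,1,1,1,1,1,1,1,1]),
    ([0,1,2,5,3,4,8,6,7,11,9,10], [1,1,1,1,1,1,1,1,1,1,1,1]),
    ([0,1,2,6,3,9,7,4,10,8,5,11], [1,2,2,1,1,1,1,1,1,1,1,1]),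
    ([0,1,2,7,3,11,9,8,4,5,10,6], [1,2,1,2,2,2,2,2,2,2,2,2]),
    ([0,1,2,8,3,10,4,11,6,9,7,5], [1,1,2,2,2,2,2,2,2,2,2,2]),
    ([0,1,2,9,3,6,11,5,8,10,4,7], [1,2,2,1,1,1,1,1,1,1,1,1]),
    ([0,1,2,10,3,8,5,7,9,6,11,4], [1,1,2,2,2,2,2,2,2,2,2,2]),
    ([0,1,2,11,3,7,6,10,5,4,8,9], [1,2,1,2,2,2,2,2,2,2,2,2])],
   [([0,1,2,3,4,5,6,7,8,9,10,11], [1,1,1,1,1,1,1,1,1,1,1,1]),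
    ([0,1,2,3,5,4,9,11,10,6,8,7], [1,1,1,1,1,1,1,1,1,1,1,1]),
    ([0,1,2,3,6,9,5,8,11,4,7,10], [1,2,2,1,1,1,1,1,1,1,1,1]),
    ([0,1,2,3,7,11,10,5,6,8,9,4], [1,2,1,2,2,2,2,2,2,2,2,2]),
    ([0,1,2,3,8,10,7,9,5,11,4,6], [1,1,2,2,2,2,2,2,2,2,2,2]),
    ([0,1,2,3,9,6,4,10,7,5,11,8], [1,2,2,1,1,1,1,1,1,1,1,1]),
    ([0,1,2,3,10,8,11,6,4,7,5,9], [1,1,2,2,2,2,2,2,2,2,2,2]),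
    ([0,1,2,3,11,7,8,4,9,10,6,5], [1,2,1,2,2,2,2,2,2,2,2,2])]]

end Cfsg.Agent.Lib.Golay
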