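import Mathlib.Data.Nat.Notation

/-! # Trees for pairs and triples of points -/

set_option autoImplicit false

namespace Cfsg.Agent.Lib.Golay

def triInStart : ℕ := 152

def triInGens : List ℕ := [
  212382922381522784974408957963928578,
  463924098278757483089004654916829218]

def triInTree0 : List (ℕ × ℕ) := [
    (0,0), (0,0), (0,0), (0,0), (0,0), (1,0), (1,0), (0,0), (0,0), (1,1),
    (0,0), (1,3), (1,4), (0,0), (1,0), (0,0), (1,0), (1,2), (1,3), (0,0),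
    (0,0), (1,0), (0,0), (1,3), (1,2), (0,0), (1,1), (1,0), (1,0), (1,8),
    (0,0), (0,0), (0,0), (0,0), (0,0), (1,0), (1,2), (0,0), (1,1), (1,3),
    (1,0), (1,3), (0,0), (1,1), (0,0), (1,1), (0,0), (1,5), (0,0), (0,0),
    (0,0), (1,0), (1,2), (0,0), (1,1), (1,0), (1,4), (1,2), (0,0), (1,1),
    (1,0), (0,0), (0,0), (1,2), (1,6), (0,0), (0,0), (1,0), (0,0), (0,0),
    (1,1), (1,2), (1,3), (0,0), (1,0), (1,0), (1,3), (0,0), (1,4), (1,0),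
    (0,0), (0,0), (1,1), (0,0), (1,1), (1,3), (1,0), (1,7), (0,0), (0,0),
    (0,0), (0,0), (0,0), (1,0), (1,2), (1,4), (0,0), (0,0), (0,0), (1,1),
    (0,0), (1,0), (1,2), (1,0), (1,4), (0,0), (1,1), (0,0), (1,1), (0,0),
    (1,1), (1,0), (1,6), (0,0), (0,0), (1,0), (1,2), (0,0), (1,3), (0,0),
    (1,0), (0,0), (1,3), (1,5), (0,0), (0,0), (0,0), (1,1), (1,2), (0,0),
    (0,0), (1,0), (0,0), (1,4), (0,0), (0,0), (1,1), (1,2), (1,0), (1,5),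
    (0,0), (0,0), (1,1), (1,6), (0,0), (1,0), (0,0), (0,0), (1,1), (0,0),
    (0,0), (1,1), (1,4), (0,0), (0,0), (0,0), (1,1), (0,0), (1,1), (1,4),
    (0,0), (0,0), (1,1), (1,0), (1,3), (1,0), (1,6), (0,0), (0,0), (1,0),
    (0,0), (0,0), (1,1), (1,2), (0,0), (0,0), (1,1), (1,0), (1,3), (1,0),
    (1,6), (0,0), (0,0), (1,0), (0,0), (1,1), (0,0), (0,0), (1,2), (1,5),
    (0,0), (0,0), (1,0), (0,0), (1,1), (1,0), (1,4), (0,0), (0,0), (1,0),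
    (1,3), (0,0), (1,1), (1,0), (1,5), (0,0), (1,0), (1,0), (1,3)]

def triInTree : List (ℕ × ℕ) :=
  triInTree0

def triOutStart : ℕ := 56

def triOutGens : List ℕ := [
  212382922381522784974408957963928578,
  463924098278757483089004654916829218]

def triOutTree0 : List (ℕ × ℕ) := [
    (0,0), (0,0), (0,0), (0,0), (0,0), (1,0), (0,0), (1,0), (0,0), (1,1),
    (0,0), (0,0), (1,2), (0,0), (0,0), (1,6), (0,0), (1,0), (0,0), (1,0),
    (1,2), (0,0), (0,0), (1,1), (1,5), (0,0), (0,0), (0,0), (1,0), (1,2),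
    (1,2), (0,0), (1,1), (1,3), (1,5), (0,0), (0,0), (1,1), (0,0), (0,0),
    (1,0), (1,2), (0,0), (1,1), (1,3), (0,0), (1,0), (1,2), (1,0), (1,0),
    (1,6), (0,0), (0,0), (1,2), (0,0), (0,0), (0,0), (1,1), (0,0), (1,1),
    (1,0), (1,5), (0,0), (0,0), (1,1), (1,2), (0,0), (1,1), (0,0), (0,0),
    (1,2), (1,8), (0,0), (0,0), (0,0), (0,0), (0,0), (1,2), (0,0), (0,0),
    (1,0), (1,2), (1,2), (1,3), (1,0), (0,0), (1,0), (0,0), (1,1), (1,3),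
    (1,0), (1,5), (0,0), (0,0), (0,0), (0,0), (1,2), (0,0), (1,1), (1,3),
    (0,0), (1,0), (0,0), (1,1), (1,0), (1,4), (1,3), (0,0), (0,0), (1,0),
    (1,0), (1,4), (0,0), (1,0), (1,0), (1,3), (1,0), (1,6), (0,0), (0,0),
    (1,0), (0,0), (0,0), (1,2), (1,0), (1,4), (0,0), (0,0), (1,2), (0,0),
    (0,0), (1,0), (1,2), (1,0), (1,3), (1,4), (0,0), (1,0), (0,0), (1,0),
    (0,0), (1,0), (1,2), (1,3), (0,0), (1,0), (1,5), (0,0), (0,0), (0,0),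
    (1,1), (1,0), (1,3), (1,0), (0,0), (1,1), (1,4), (1,0), (1,7), (0,0),
    (0,0), (0,0), (0,0), (0,0), (1,0), (1,2), (0,0), (1,1), (1,0), (1,0),
    (1,5), (0,0), (0,0), (0,0), (1,3), (0,0), (0,0), (1,0), (1,2), (1,2),
    (0,0), (1,5), (1,0), (0,0), (0,0), (1,0), (1,0), (1,4), (0,0), (1,0),
    (0,0), (1,1), (1,7), (0,0), (0,0), (0,0), (0,0), (0,0), (1,1), (1,2),
    (0,0), (1,1), (1,3), (0,0), (1,1), (0,0), (0,0), (1,1), (1,2), (1,4),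
    (0,0), (1,0), (0,0), (1,1), (1,0), (1,6), (0,0), (0,0), (0,0), (0,0),
    (1,1), (0,0), (1,1), (1,3), (1,0), (0,0), (1,1), (1,4), (0,0), (1,0),
    (0,0), (1,3), (1,0), (0,0), (1,5), (1,0), (0,0), (0,0), (1,1), (0,0),
    (1,1), (1,3), (1,0), (0,0), (1,8), (0,0), (0,0), (0,0), (0,0), (1,0),
    (0,0), (1,0), (1,2), (1,4), (0,0), (0,0), (1,1), (0,0), (1,1), (0,0),
    (1,4), (1,0), (1,4), (1,0), (0,0), (0,0), (1,0), (0,0), (1,7), (0,0),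
    (1,0), (0,0), (0,0), (1,1), (1,2), (1,0), (1,0), (1,5), (0,0), (0,0),
    (1,0), (1,0), (1,3), (0,0), (0,0), (0,0), (1,1), (1,2), (1,2), (0,0),
    (1,4), (0,0), (0,0), (0,0), (0,0), (1,2), (1,2), (0,0), (0,0), (1,1),
    (0,0), (1,5), (0,0), (1,0), (1,2), (1,8), (0,0), (0,0), (0,0), (0,0),
    (0,0), (1,0), (0,0), (0,0), (1,1), (1,2), (0,0), (1,1), (1,4), (0,0),
    (0,0), (1,0), (1,2), (1,0), (1,3), (0,0), (0,0), (1,0), (1,3), (1,4),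
    (0,0), (0,0), (0,0), (1,1), (0,0), (1,1), (1,4), (0,0), (0,0), (1,2),
    (1,0), (1,5), (0,0), (0,0), (1,0), (0,0), (0,0), (1,1), (0,0), (1,5),
    (0,0), (0,0), (0,0), (1,2), (0,0), (0,0), (1,1), (1,2), (0,0), (1,4),
    (0,0), (0,0), (0,0), (1,2), (1,2), (0,0), (1,1), (1,5), (0,0), (0,0),
    (0,0), (0,0), (1,0), (1,2), (1,0), (1,4), (0,0), (0,0), (1,2), (1,0),
    (1,4), (0,0), (0,0), (0,0), (1,0), (1,4), (0,0), (1,6), (0,0), (0,0),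
    (0,0), (0,0), (0,0), (1,1), (0,0), (1,1), (1,3), (0,0), (1,0), (1,2),
    (1,0), (1,4), (0,0), (1,1), (0,0), (0,0), (1,2), (0,0), (0,0), (1,1),
    (1,6), (0,0), (0,0), (0,0), (0,0), (0,0), (1,2), (1,0), (1,0), (1,4),
    (0,0), (1,4), (0,0), (0,0), (1,2), (0,0), (0,0), (1,1), (1,0), (1,3),
    (1,0), (1,0), (1,7), (0,0), (0,0), (0,0), (0,0), (0,0), (1,0), (1,2),
    (1,0), (1,3), (1,2), (0,0), (1,1), (1,0), (1,4), (0,0), (0,0), (0,0),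
    (1,1), (1,2), (0,0), (1,3), (0,0), (0,0), (1,1), (0,0), (1,3), (0,0),
    (0,0), (1,6), (0,0), (0,0), (1,1), (0,0), (0,0), (1,1), (1,4), (0,0),
    (0,0), (0,0), (1,1), (1,0), (1,3), (1,0), (0,0), (0,0), (1,5), (1,0),
    (1,0), (1,8), (0,0), (0,0), (0,0), (0,0), (0,0), (1,0), (1,0), (1,3),
    (1,0), (0,0), (1,1), (0,0), (1,1), (1,5), (0,0), (0,0), (1,1), (0,0)]

def triOutTree1 : List (ℕ × ℕ) := [
    (1,0), (1,4), (1,0), (0,0), (0,0), (1,1), (1,2), (1,5), (0,0), (0,0),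
    (0,0), (0,0), (0,0), (1,2), (0,0), (0,0), (1,4), (0,0), (1,1), (1,0),
    (1,4), (0,0), (1,0), (1,0), (1,0), (1,4), (0,0), (1,4), (0,0), (0,0),
    (1,0), (0,0), (1,4), (0,0), (0,0), (1,0), (1,2), (1,2), (0,0), (1,1),
    (1,6), (0,0), (1,0), (0,0), (0,0), (0,0), (1,1), (1,0), (1,3), (0,0),
    (1,3), (1,0), (1,0), (1,5), (0,0), (1,0), (0,0), (1,0), (1,2), (0,0),
    (1,0), (1,5), (1,4), (0,0), (0,0), (0,0), (0,0), (1,1), (1,2), (0,0),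
    (0,0), (0,0), (1,2), (1,0), (1,3), (0,0), (1,1), (0,0), (1,5), (0,0),
    (1,0), (0,0), (1,3), (1,0), (1,4), (0,0), (0,0), (0,0), (0,0), (0,0),
    (1,1), (1,2), (0,0), (0,0), (1,5), (1,0), (0,0), (1,0), (1,5), (0,0),
    (0,0), (0,0), (1,3), (0,0), (0,0), (0,0), (1,1), (1,2), (1,2), (1,8),
    (0,0), (0,0), (0,0), (0,0), (0,0), (1,0), (0,0), (0,0), (1,0), (1,3),
    (0,0), (1,1), (1,4), (0,0), (0,0), (0,0), (1,0), (1,3), (0,0), (1,1),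
    (1,3), (0,0), (1,0), (1,2), (1,4), (0,0), (0,0), (1,0), (0,0), (1,0),
    (1,2), (1,3), (0,0), (0,0), (1,1), (1,0), (0,0), (1,4), (0,0), (1,1),
    (1,0), (1,5), (0,0), (0,0), (0,0), (1,0), (1,2), (1,2), (0,0), (0,0),
    (0,0), (1,3), (0,0), (1,4), (0,0), (0,0), (0,0), (1,1), (1,3), (1,5),
    (0,0), (0,0), (0,0), (1,2), (0,0), (0,0), (0,0), (1,0), (1,3), (0,0),
    (1,3), (1,0), (0,0), (0,0), (1,2), (0,0), (1,6), (0,0), (0,0), (0,0),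
    (0,0), (1,0), (1,2), (1,2), (1,2), (0,0), (0,0), (0,0), (1,0), (1,2),
    (1,2), (0,0), (1,0), (1,2), (1,3), (1,3), (0,0), (1,1), (0,0), (1,0),
    (0,0), (1,3), (0,0), (1,1), (1,7), (0,0), (0,0), (0,0), (0,0), (0,0),
    (1,1), (0,0), (1,0), (1,2), (1,3), (0,0), (1,1), (1,0), (0,0), (0,0),
    (1,2), (1,5), (1,0), (0,0), (1,0), (1,2), (0,0), (0,0), (1,6), (0,0),
    (0,0), (0,0), (1,0), (0,0), (1,1), (1,3), (0,0), (0,0), (1,2), (0,0),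
    (1,1), (0,0), (1,5), (0,0), (1,0), (0,0), (1,0), (1,4), (0,0), (1,0),
    (1,2), (1,0), (1,5), (0,0), (0,0), (0,0), (0,0), (1,0), (1,2), (1,3),
    (0,0), (1,1), (1,0), (1,0), (1,5), (0,0), (0,0), (1,0), (0,0), (1,0),
    (1,2), (1,3), (1,0), (1,3), (1,0), (1,6), (0,0), (0,0), (0,0), (0,0),
    (0,0), (1,2), (0,0), (0,0), (1,0), (0,0), (1,3), (0,0), (1,3), (1,3),
    (0,0), (0,0), (0,0), (1,2), (0,0), (1,3), (0,0), (0,0), (1,0), (1,2),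
    (1,0), (1,3), (0,0), (1,1), (1,5), (0,0), (0,0), (1,1), (0,0), (1,0),
    (0,0), (1,5), (0,0), (0,0), (0,0), (0,0), (1,1), (1,2), (1,0), (1,3),
    (1,0), (1,0), (1,4), (0,0), (0,0), (1,0), (1,2), (1,2), (0,0), (1,1),
    (0,0), (1,7), (0,0), (0,0), (1,0), (1,0), (1,4), (0,0), (0,0), (0,0),
    (0,0), (1,0), (1,0), (1,4), (0,0), (1,1), (1,4), (0,0), (1,7), (0,0),
    (0,0), (0,0), (0,0), (0,0), (1,0), (0,0), (0,0), (1,1), (1,2), (1,3),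
    (0,0), (1,1), (0,0), (0,0), (1,0), (1,2), (1,2), (0,0), (1,5), (0,0),
    (0,0), (0,0), (0,0), (1,1), (1,0), (1,3), (1,2), (1,0), (0,0), (1,4),
    (0,0), (0,0), (0,0), (1,1), (0,0), (1,1), (1,4), (0,0), (0,0), (0,0),
    (1,3), (0,0), (1,0), (1,7), (0,0), (0,0), (1,0), (0,0), (0,0), (1,1),
    (1,4), (1,0), (0,0), (1,0), (1,2), (0,0), (1,1), (1,5), (0,0), (0,0),
    (1,0), (0,0), (1,3), (1,2), (0,0), (1,0), (1,6), (0,0), (0,0), (0,0),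
    (0,0), (1,1), (0,0), (0,0), (1,1), (1,2), (1,0), (1,0), (1,5), (0,0),
    (1,0), (0,0), (1,0), (1,2), (0,0), (1,6), (0,0), (0,0), (0,0), (0,0),
    (1,1), (1,2), (0,0), (1,1), (1,0), (1,4), (1,0), (0,0), (1,1), (0,0),
    (1,1), (1,5), (1,0), (0,0), (0,0), (1,2), (1,5), (0,0), (0,0), (0,0),
    (1,1), (0,0), (0,0), (1,1), (1,4), (0,0), (0,0), (0,0), (1,2), (0,0),
    (1,1), (0,0), (1,4), (0,0), (1,1), (0,0), (1,5), (0,0), (0,0), (0,0),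
    (1,2), (0,0), (0,0), (1,2), (0,0), (1,4), (0,0), (0,0), (0,0), (1,1)]

def triOutTree2 : List (ℕ × ℕ) := [
    (1,2), (1,2), (0,0), (0,0), (1,1), (1,0), (1,9), (0,0), (0,0), (0,0),
    (0,0), (0,0), (1,0), (0,0), (1,0), (1,2), (0,0), (1,1), (1,4), (0,0),
    (1,3), (0,0), (0,0), (0,0), (1,5), (0,0), (0,0), (1,0), (0,0), (1,0),
    (1,4), (0,0), (1,1), (1,3), (0,0), (1,4), (0,0), (0,0), (1,0), (0,0),
    (0,0), (1,4), (1,0), (1,0), (1,4), (0,0), (0,0), (0,0), (0,0), (1,2),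
    (1,0), (1,4), (0,0), (0,0), (0,0), (1,2), (0,0), (1,0), (1,2), (1,3),
    (0,0), (0,0), (1,0), (1,3), (1,6), (0,0), (0,0), (0,0), (1,1), (0,0),
    (1,1), (1,0), (1,4), (0,0), (0,0), (0,0), (1,1), (0,0), (1,1), (1,3),
    (1,0), (0,0), (1,4), (0,0), (1,1), (1,0), (1,5), (0,0), (0,0), (1,0),
    (0,0), (1,1), (1,0), (1,4), (0,0), (0,0), (1,1), (0,0), (1,5), (0,0),
    (0,0), (0,0), (0,0), (0,0), (1,3), (1,2), (0,0), (0,0), (1,1), (1,2),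
    (1,0), (0,0), (1,5), (0,0), (0,0), (0,0), (1,0), (1,2), (1,2)]

def triOutTree : List (ℕ × ℕ) :=
  triOutTree0 ++ triOutTree1 ++ triOutTree2

def pairInStart : ℕ := 144

def pairInGens : List ℕ := [
  236595119435458494344708929440779296,
  439207486489760569266886238341793824,
  766161056448665367650664966237785120]

def pairInTree0 : List (ℕ × ℕ) := [
    (0,0), (0,0), (0,0), (2,0), (2,2), (1,2), (0,0), (2,1), (0,0), (2,0),
    (2,4), (0,0), (1,1), (0,0), (1,4), (0,0), (1,0), (0,0), (2,1), (2,2),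
    (0,0), (2,3), (0,0), (2,3), (2,0), (0,0), (2,0), (2,2), (0,0)]

def pairInTree : List (ℕ × ℕ) :=
  pairInTree0

def pairOutStart : ℕ := 48

def pairOutGens : List ℕ := [
  236595119435458494344708929440779296,
  439207486489760569266886238341793824,
  766161056448665367650664966237785120]

def pairOutTree0 : List (ℕ × ℕ) := [
    (0,0), (0,0), (0,0), (2,0), (0,0), (1,0), (2,1), (0,0), (1,5), (2,0),
    (0,0), (1,0), (2,4), (0,0), (1,0), (2,1), (0,0), (1,5), (2,0), (0,0),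
    (0,0), (0,0), (1,2), (0,0), (2,1), (0,0), (2,0), (2,4), (0,0), (1,1),
    (0,0), (2,4), (2,0), (0,0), (2,5), (0,0), (0,0), (0,0), (2,0), (0,0),
    (1,4), (0,0), (2,1), (0,0), (1,0), (2,1), (2,0), (1,3), (0,0), (2,4),
    (0,0), (1,0), (2,0), (2,2), (1,0), (2,1), (1,3), (2,3), (0,0), (0,0),
    (2,2), (0,0), (2,0), (0,0), (1,7), (0,0), (0,0), (1,0), (2,3), (0,0),
    (1,0), (0,0), (2,0), (2,2), (0,0), (1,0), (1,2), (0,0), (2,4), (0,0),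
    (1,0), (2,0), (1,3), (0,0), (1,0), (2,1), (2,0), (1,6), (0,0), (2,0),
    (0,0), (1,0), (2,1), (1,2), (0,0), (2,2), (2,6), (0,0), (0,0), (0,0),
    (1,0), (0,0), (2,2), (0,0), (1,4), (2,0), (0,0), (0,0), (0,0), (1,2),
    (0,0), (2,2), (0,0), (2,1), (1,3), (0,0), (1,0), (2,5), (0,0), (0,0),
    (0,0), (2,0), (1,3), (0,0), (2,1), (2,2), (1,0), (2,1), (0,0), (1,4),
    (0,0), (0,0), (1,1), (2,1), (2,0), (2,3), (2,0), (0,0), (2,4), (0,0),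
    (2,0), (2,2), (0,0), (1,5), (0,0), (0,0), (0,0), (1,2), (2,0), (0,0),
    (1,0), (2,4), (0,0), (1,0), (1,2), (0,0), (2,5), (0,0), (2,0)]

def pairOutTree : List (ℕ × ℕ) :=
  pairOutTree0

def pairOneStart : ℕ := 20

def pairOneGens : List ℕ := [
  236595119435458494344708929440779296,
  439207486489760569266886238341793824,
  766161056448665367650664966237785120]

def pairOneTree0 : List (ℕ × ℕ) := [
    (0,0), (0,0), (0,0), (1,0), (2,0), (2,2), (1,2), (0,0), (2,1), (0,0),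
    (2,1), (2,3), (0,0), (2,1), (1,3), (2,0), (0,0), (1,1), (2,1), (2,3),
    (1,0), (0,0), (2,2), (2,0), (0,0), (1,5), (2,0), (0,0), (1,1), (2,1),
    (0,0), (2,1), (2,4), (1,0), (0,0), (2,2), (2,0), (0,0), (2,0)]

def pairOneTree : List (ℕ × ℕ) :=
  pairOneTree0

end Cfsg.Agent.Lib.Golay
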